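import Cfsg.Agent.H677.PslThree_m3
import Cfsg.Agent.H699.KerDerived
import Cfsg.Agent.H627.TateIndex
import Cfsg.Agent.S0242
import Cfsg.Agent.SignalizersComponents.SLQuasisimple
import Cfsg.Agent.Lib.ComponentSolvable
import Mathlib
import Cfsg.Agent.H348.PPD.Rows_m3
import Cfsg.Agent.H284.SepOrd
import Cfsg.Agent.H446.SmallCross
import Cfsg.Agent.H67.PCov
import Cfsg.Agent.S2299
import Cfsg.Agent.S2300
import Cfsg.Agent.H615.SLSteinberg
import Cfsg.Agent.Blocks.ExistsModular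
import Cfsg.Agent.H902.DomLU_m3
import Cfsg.Agent.H902.Zs_m3
import Cfsg.Agent.H539.PartCount
import Cfsg.Agent.S4198
import Cfsg.Agent.H341.ThreeList_m3
import Cfsg.Agent.H771.KTools_m3
import Cfsg.Agent.M23.SylowTools
import Cfsg.Agent.SmallSimple.BurnsideNC
import Cfsg.Agent.H168.GLFour
import Cfsg.Agent.Characters.Galois
import Cfsg.Agent.S2421
import Cfsg.Agent.S2424
import Cfsg.Agent.H60.MultA
import Cfsg.Agent.H60.CrossA
import Cfsg.Agent.H677.OrdAltSpor
import Cfsg.Agent.Lib.CoprimeHyperplane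
import Cfsg.Agent.Transfer.ElemAbAut
import Cfsg.Agent.Lib.Zsigmondy
import Cfsg.Agent.FastGrp
import Cfsg.Agent.Prune
set_option linter.all false

section
prune_inst 0x7ff0e8fdaba801dedfff7e3ffe98ddf832848fffe4dff90bffe0e99f8b9f031209c16b8509e010fc0e56e01410a87803fb7eceffe86bdc7ffffd5ff41ffbee0fe5f7350811d084240f3c0ffe03f0778a6f3fffffffffffffffffffffffffffbeffbffbfeffff

-- part: H725/Deg_mg
section
prune_inst 0xf16021453ac002000004001650207cd6870001b0006f0000c166064406808f234900af61bea0331a112aa22500390048120000690010000000000600411901a088a85602f389a00826001f009884410000000000000000000000000000000004004010000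
set_option linter.all false
open scoped Cfsg.Agent.FastGrp

-- part: H725/CodQS
section
/-!
# Codegrees inside those of a quasisimple group (helper725)

`QS H` : `H` is perfect, its normal subgroups are `1`, `Z(H)`, `H`, and `|Z(H)|` is one or a prime.
For such `H` every codegree divides `|H : Z(H)|` and the square of a nontrivial codegree is larger than
`|H : Z(H)|`.
-/

set_option autoImplicit false

namespace Cfsg.Agent.H725.Cod

open Cfsg Cfsg.Agent.H686.CharKit Cfsg.Agent.H677.CodPrime Cfsg.Agent.H677.CodMultiset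

universe u v w

/-- a perfect group with normal subgroups `1`, `Z(H)`, `H` only, and centre of order one or a prime -/
structure QS (H : Type v) [Group H] : Prop where
  nt : Nontrivial H
  perf : commutator H = ⊤
  nor : ∀ N : Subgroup H, N.Normal → N = ⊤ ∨ N = ⊥ ∨ N = Subgroup.center H
  zp : Nat.card (Subgroup.center H) = 1 ∨ (Nat.card (Subgroup.center H)).Prime

section
variable {H : Type v} [Group H]

theorem QS.center_ne_top (h : QS H) : Subgroup.center H ≠ ⊤ := by
  intro hc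
  have h1 : commutator H = ⊥ := by
    rw [commutator_def, Subgroup.commutator_eq_bot_iff_le_centralizer]
    intro x _
    rw [Subgroup.mem_centralizer_iff]
    intro y _
    have : x ∈ Subgroup.center H := by rw [hc]; trivial
    exact Subgroup.mem_center_iff.1 this y
  have := h.nt
  rw [h.perf] at h1
  exact top_ne_bot h1

theorem QS.proper (h : QS H) {N : Subgroup H} (hN : N.Normal) (hne : N ≠ ⊤) : N ≤ Subgroup.center H := by
  rcases h.nor N hN with h1 | h1 | h1
  · exact absurd h1 hne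
  · rw [h1]; exact bot_le
  · exact h1.le

theorem QS.simple (h : QS H) : IsSimpleGroup (H ⧸ Subgroup.center H) := by
  have h0 : Nontrivial (H ⧸ Subgroup.center H) := QuotientGroup.nontrivial_iff.2 h.center_ne_top
  refine { toNontrivial := h0, eq_bot_or_eq_top_of_normal := fun M hM => ?_ }
  have hsur := QuotientGroup.mk'_surjective (Subgroup.center H)
  have hle : Subgroup.center H ≤ M.comap (QuotientGroup.mk' (Subgroup.center H)) := by
    intro x hx
    rw [Subgroup.mem_comap, QuotientGroup.mk'_apply, (QuotientGroup.eq_one_iff x).2 hx]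
    exact M.one_mem
  by_cases h1 : M.comap (QuotientGroup.mk' (Subgroup.center H)) = ⊤
  · right
    rw [← Subgroup.map_comap_eq_self_of_surjective hsur M, h1, Subgroup.map_top_of_surjective _ hsur]
  · left
    have h2 := h.proper (hM.comap _) h1
    rw [eq_bot_iff]
    intro y hy
    obtain ⟨x, rfl⟩ := hsur y
    exact (QuotientGroup.eq_one_iff x).2 (h2 hy)

theorem QS.quotient_perfect (h : QS H) : commutator (H ⧸ Subgroup.center H) = ⊤ := by
  rw [commutator_def, ← Subgroup.map_top_of_surjective (QuotientGroup.mk' (Subgroup.center H))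
    (QuotientGroup.mk'_surjective _), ← Subgroup.map_commutator, ← commutator_def, h.perf]

theorem QS.quotient_nonabelian (h : QS H) : ¬ IsMulCommutative (H ⧸ Subgroup.center H) := by
  intro hc
  have hbot : commutator (H ⧸ Subgroup.center H) = ⊥ := by
    rw [commutator_eq_closure, Subgroup.closure_eq_bot_iff]
    rintro _ ⟨a, b, rfl⟩
    rw [Set.mem_singleton_iff, commutatorElement_eq_one_iff_mul_comm]
    exact hc.is_comm.comm a b
  have := h.simple
  rw [h.quotient_perfect] at hbot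
  exact top_ne_bot hbot

variable [Finite H]

theorem QS.index_pos (_h : QS H) : 0 < (Subgroup.center H).index :=
  Nat.pos_of_ne_zero Subgroup.index_ne_zero_of_finite

theorem QS.card_mul (_h : QS H) : Nat.card (Subgroup.center H) * (Subgroup.center H).index = Nat.card H :=
  Subgroup.card_mul_index _

theorem QS.ker (h : QS H) {ψ : IrrCharacter H} (hψ : ψ ≠ one H) :
    chKer ψ = ⊥ ∨ chKer ψ = Subgroup.center H := by
  rcases h.nor _ (chKer_normal ψ) with h1 | h1
  · exact absurd (eq_one_of_chKer h1) hψ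
  · exact h1

/-- the codegrees divide the order of the central quotient -/
theorem QS.cod_dvd (h : QS H) (ψ : IrrCharacter H) : cod ψ ∣ (Subgroup.center H).index := by
  by_cases hψ : ψ = one H
  · rw [hψ, cod_one]; exact one_dvd _
  have h2 := cod_mul_index ψ
  rcases h.ker hψ with h1 | h1
  · rw [h1, Subgroup.index_bot] at h2
    rcases h.zp with hz | hz
    · rw [← h.card_mul, hz, one_mul] at h2
      exact ⟨_, h2.symm⟩
    · obtain ⟨z, hz1⟩ : ∃ z : Subgroup.center H, orderOf z = Nat.card (Subgroup.center H) := by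
        have := Fact.mk hz
        exact exists_prime_orderOf_dvd_card' _ dvd_rfl
      have h3 := orderOf_dvd h.perf h1 z.2
      rw [Subgroup.orderOf_coe, hz1] at h3
      obtain ⟨m, hm⟩ := h3
      refine ⟨m, ?_⟩
      have h4 := h.card_mul
      rw [← h2, hm] at h4
      have h5 : Nat.card (Subgroup.center H) * (Subgroup.center H).index =
          Nat.card (Subgroup.center H) * (cod ψ * m) := by rw [h4]; ring
      exact Nat.eq_of_mul_eq_mul_left hz.pos h5
  · rw [h1] at h2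
    exact ⟨_, h2.symm⟩

/-- the squares of the nontrivial codegrees are larger than the order of the central quotient -/
theorem QS.index_lt (h : QS H) {ψ : IrrCharacter H} (hψ : ψ ≠ one H) :
    (Subgroup.center H).index < cod ψ ^ 2 := by
  have h2 := index_lt_cod_sq hψ
  rcases h.ker hψ with h1 | h1
  · rw [h1, Subgroup.index_bot, ← h.card_mul] at h2
    have h3 : 0 < Nat.card (Subgroup.center H) := Nat.card_pos
    exact (Nat.le_mul_of_pos_left _ h3).trans_lt h2
  · rwa [h1] at h2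

end

section
variable {G : Type u} [Group G] [Finite G] {H : Type v} [Group H] [Finite H]

theorem Sub.cod_dvd (h : Sub G H) (hH : QS H) (χ : IrrCharacter G) : cod χ ∣ (Subgroup.center H).index := by
  obtain ⟨ψ, hψ⟩ := h χ
  rw [hψ]
  exact hH.cod_dvd ψ

theorem Sub.index_lt (h : Sub G H) (hH : QS H) {χ : IrrCharacter G} (hχ : χ ≠ one G) :
    (Subgroup.center H).index < cod χ ^ 2 := by
  obtain ⟨ψ, hψ⟩ := h χ
  have h1 : ψ ≠ one H := by
    rintro rfl
    rw [cod_one] at hψ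
    exact hχ (cod_eq_one_iff.1 hψ)
  rw [hψ]
  exact hH.index_lt h1

/-- the order of a simple group whose codegrees are codegrees of `H` divides `|H : Z(H)|` -/
theorem Sub.card_dvd [IsSimpleGroup G] (h : Sub G H) (hH : QS H) :
    Nat.card G ∣ (Subgroup.center H).index := by
  rw [← Nat.factorization_le_iff_dvd Nat.card_pos.ne' hH.index_pos.ne']
  intro p
  by_cases hp : p.Prime
  swap
  · rw [Nat.factorization_eq_zero_of_not_prime _ hp]; exact Nat.zero_le _
  by_cases hpH : p ∣ Nat.card G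
  swap
  · rw [Nat.factorization_eq_zero_of_not_dvd hpH]; exact Nat.zero_le _
  obtain ⟨ψ, hψ1, hψ⟩ := exists_not_dvd hp hpH
  have h1 := cod_mul hψ1
  have h3 : (Nat.card G).factorization p = (cod ψ).factorization p := by
    rw [← h1, Nat.factorization_mul (cod_pos ψ).ne' (charDegree_pos ψ).ne']
    simp [Nat.factorization_eq_zero_of_not_dvd hψ]
  rw [h3]
  exact (Nat.factorization_le_iff_dvd (cod_pos ψ).ne' hH.index_pos.ne').2 (h.cod_dvd hH ψ) p

/-- a simple group whose codegrees are codegrees of `H` is not abelian -/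
theorem Sub.nonabelian [IsSimpleGroup G] (h : Sub G H) (hH : QS H) : ¬ IsMulCommutative G := by
  intro hc
  have h1 := h.perfect hH.perf
  have hbot : commutator G = ⊥ := by
    rw [commutator_eq_closure, Subgroup.closure_eq_bot_iff]
    rintro _ ⟨a, b, rfl⟩
    rw [Set.mem_singleton_iff, commutatorElement_eq_one_iff_mul_comm]
    exact hc.is_comm.comm a b
  rw [h1] at hbot
  exact top_ne_bot hbot

end

end Cfsg.Agent.H725.Cod
end

-- part: H725/CodNonab
section
/-!
# Codegrees inside those of a quasisimple group: nonabelian minimal normal subgroups (helper725)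

`exists_prime_char` : for a nonabelian minimal normal subgroup `N` and a prime `r` dividing `|N|` some irreducible
character nontrivial on `N` has degree prime to `r` (Tate's theorem).
`no_nonabelian` : a group `G` with `Sub G H`, `H` quasisimple, has no nonabelian minimal normal subgroup if its
proper quotients are `H` or `H / Z(H)`.
-/

set_option autoImplicit false

namespace Cfsg.Agent.H725.Cod

open Cfsg Cfsg.Agent.H686.CharKit Cfsg.Agent.H677.CodPrime Cfsg.Agent.H677.CodMultiset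
open scoped commutatorElement

universe u v w

section
variable {G : Type u} [Group G]

/-- minimal normal subgroups -/
structure MinNorm (N : Subgroup G) : Prop where
  nor : N.Normal
  ne : N ≠ ⊥
  min : ∀ M : Subgroup G, M.Normal → M ≤ N → M = ⊥ ∨ M = N

theorem exists_minNorm [Finite G] [Nontrivial G] : ∃ N : Subgroup G, MinNorm N := by
  classical
  let s : Set (Subgroup G) := {N | N.Normal ∧ N ≠ ⊥}
  have hs : s.Nonempty := ⟨⊤, inferInstance, top_ne_bot⟩
  obtain ⟨N, hN⟩ := (Set.toFinite s).exists_minimal hs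
  refine ⟨N, hN.1.1, hN.1.2, fun M hM hle => ?_⟩
  by_cases h : M = ⊥
  · exact Or.inl h
  · exact Or.inr (le_antisymm hle (hN.2 ⟨hM, h⟩ hle))

theorem MinNorm.inf_eq_bot {N : Subgroup G} (hN : MinNorm N) {M : Subgroup G} (hM : M.Normal)
    (h : ¬ N ≤ M) : N ⊓ M = ⊥ := by
  have := hN.nor
  rcases hN.min (N ⊓ M) inferInstance inf_le_left with h1 | h1
  · exact h1
  · exact absurd (inf_eq_left.1 h1) h

theorem MinNorm.comm_of_isPGroup [Finite G] {N : Subgroup G} (hN : MinNorm N) {r : ℕ} [Fact r.Prime]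
    (h : IsPGroup r N) : IsMulCommutative N := by
  have := hN.nor
  have h1 : Group.IsNilpotent N := h.isNilpotent
  have hnt : Nontrivial N := (Subgroup.nontrivial_iff_ne_bot N).2 hN.ne
  have h2 : commutator N < ⊤ := Group.IsSolvable.commutator_lt_top_of_nontrivial N
  have h3 : (commutator N).map N.subtype = ⁅N, N⁆ := Subgroup.map_subtype_commutator N
  rcases hN.min ⁅N, N⁆ inferInstance (Subgroup.commutator_le_left N N) with h4 | h4
  · refine ⟨⟨fun a b => ?_⟩⟩
    have h5 : ⁅(a : G), (b : G)⁆ ∈ ⁅N, N⁆ := Subgroup.commutator_mem_commutator a.2 b.2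
    rw [h4, Subgroup.mem_bot, commutatorElement_eq_one_iff_mul_comm] at h5
    exact Subtype.ext h5
  · exfalso
    apply h2.ne
    rw [eq_top_iff]
    intro x _
    have h5 : (x : G) ∈ (commutator N).map N.subtype := by rw [h3, h4]; exact x.2
    obtain ⟨y, hy, hyx⟩ := h5
    rwa [← Subtype.ext hyx]

variable [Finite G]

theorem exists_prime_char {N : Subgroup G} (hN : MinNorm N) (hna : ¬ IsMulCommutative N) {r : ℕ}
    [hr : Fact r.Prime] (hrN : r ∣ Nat.card N) :
    ∃ χ : IrrCharacter G, ¬ N ≤ chKer χ ∧ ¬ r ∣ charDegree (χ : G → ℂ) := by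
  by_contra hcon
  push Not at hcon
  have hNn := hN.nor
  have P : Sylow r G := default
  have h1 := H699.KerDerived.inf_sylow_le P N (fun χ hχ x hx => by
    by_contra h2
    have h3 : ¬ N ≤ chKer χ := fun h4 => h2 (mem_chKer.1 (h4 hx))
    exact hχ (hcon χ h3))
  rw [H627.TateIndex.commutator_map_subtype] at h1
  obtain ⟨K, hK⟩ := H627.TateIndex.exists_regular_subgroup P N h1
  have hKn : K.Normal := ⟨fun n hn g => by
    rw [hK] at hn ⊢
    refine ⟨hNn.conj_mem n hn.1 g, ?_⟩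
    have : orderOf (g * n * g⁻¹) = orderOf n := by
      rw [← MulAut.conj_apply]
      exact MulEquiv.orderOf_eq (MulAut.conj g) n
    rw [this]
    exact hn.2⟩
  rcases hN.min K hKn (fun g hg => ((hK g).1 hg).1) with h2 | h2
  · apply hna
    apply hN.comm_of_isPGroup (r := r)
    rintro ⟨g, hg⟩
    refine ⟨(orderOf g).factorization r, Subtype.ext ?_⟩
    have h3 : g ^ r ^ (orderOf g).factorization r ∈ K := by
      rw [hK]
      refine ⟨N.pow_mem hg _, ?_⟩
      rw [orderOf_pow, Nat.gcd_eq_right (Nat.ordProj_dvd _ _)]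
      exact Nat.not_dvd_ordCompl hr.out (orderOf_pos g).ne'
    rw [h2, Subgroup.mem_bot] at h3
    exact h3
  · obtain ⟨x, hx⟩ := exists_prime_orderOf_dvd_card' r hrN
    have h3 : (x : G) ∈ K := by rw [h2]; exact x.2
    rw [hK, Subgroup.orderOf_coe, hx] at h3
    exact h3.2 dvd_rfl

/-- the sum of the squares of the degrees of the characters with `N` in the kernel -/
theorem sum_sq_le [Fintype (IrrCharacter G)] (N : Subgroup G) [N.Normal]
    [DecidablePred fun χ : IrrCharacter G => N ≤ chKer χ] :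
    ∑ χ ∈ Finset.univ.filter (fun χ : IrrCharacter G => N ≤ chKer χ), charDegree (χ : G → ℂ) ^ 2 = N.index := by
  classical
  have := Characters.Core.finite_irr (G := G ⧸ N)
  let _ := Fintype.ofFinite (IrrCharacter (G ⧸ N))
  have h1 := sum_deg_sq (G := G ⧸ N)
  rw [← Subgroup.index_eq_card] at h1
  rw [← h1]
  symm
  refine Finset.sum_bij (fun ψ _ => infl N ψ) (fun ψ _ => ?_) (fun ψ _ ψ' _ h => infl_injective N h)
    (fun χ hχ => ?_) (fun ψ _ => ?_)
  · rw [Finset.mem_filter]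
    exact ⟨Finset.mem_univ _, le_chKer_infl N ψ⟩
  · obtain ⟨ψ, hψ⟩ := exists_infl N χ (Finset.mem_filter.1 hχ).2
    exact ⟨ψ, Finset.mem_univ _, hψ⟩
  · rw [charDegree_infl]

/-- the sum of the squares of the degrees of the characters nontrivial on `N` -/
theorem sum_sq_not_le [Fintype (IrrCharacter G)] (N : Subgroup G) [N.Normal]
    [DecidablePred fun χ : IrrCharacter G => N ≤ chKer χ]
    [DecidablePred fun χ : IrrCharacter G => ¬ N ≤ chKer χ] :
    ∑ χ ∈ Finset.univ.filter (fun χ : IrrCharacter G => ¬ N ≤ chKer χ), charDegree (χ : G → ℂ) ^ 2 + N.index =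
      Nat.card G := by
  rw [← sum_deg_sq (G := G), ← sum_sq_le N, add_comm,
    Finset.sum_filter_add_sum_filter_not Finset.univ (fun χ : IrrCharacter G => N ≤ chKer χ)]

/-- two normal subgroups generating `G`, both of order divisible by `r`, meeting trivially -/
theorem exists_two {N M : Subgroup G} [N.Normal] [M.Normal] (hsup : N ⊔ M = ⊤) {r : ℕ} (hr : r.Prime)
    (hrN : r ∣ N.index) (hrM : r ∣ M.index) :
    ∃ χ : IrrCharacter G, ¬ N ≤ chKer χ ∧ ¬ M ≤ chKer χ ∧ ¬ r ∣ charDegree (χ : G → ℂ) := by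
  classical
  have := Characters.Core.finite_irr (G := G)
  let _ := Fintype.ofFinite (IrrCharacter G)
  by_contra hcon
  push Not at hcon
  have hG : r ∣ Nat.card G := hrN.trans (Subgroup.index_dvd_card N)
  have h1 := sum_sq_not_le N
  have h2 := sum_sq_le M
  have h3 : ∀ s : Finset (IrrCharacter G), (∀ χ ∈ s, r ∣ charDegree (χ : G → ℂ)) →
      r ∣ ∑ χ ∈ s, charDegree (χ : G → ℂ) ^ 2 := fun s hs =>
    Finset.dvd_sum fun χ hχ => dvd_pow (hs χ hχ) two_ne_zero
  -- characters with `M` in the kernel, not `N`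
  have h4 := Finset.sum_filter_add_sum_filter_not
    (Finset.univ.filter (fun χ : IrrCharacter G => ¬ N ≤ chKer χ)) (fun χ : IrrCharacter G => M ≤ chKer χ)
    (fun χ => charDegree (χ : G → ℂ) ^ 2)
  have h5 := Finset.sum_filter_add_sum_filter_not
    (Finset.univ.filter (fun χ : IrrCharacter G => M ≤ chKer χ)) (fun χ : IrrCharacter G => N ≤ chKer χ)
    (fun χ => charDegree (χ : G → ℂ) ^ 2)
  have h6 : (Finset.univ.filter (fun χ : IrrCharacter G => M ≤ chKer χ)).filter
      (fun χ : IrrCharacter G => N ≤ chKer χ) = {one G} := by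
    ext χ
    rw [Finset.mem_filter, Finset.mem_filter, Finset.mem_singleton]
    constructor
    · rintro ⟨⟨_, ha⟩, hb⟩
      apply eq_one_of_chKer
      rw [eq_top_iff, ← hsup]
      exact sup_le hb ha
    · rintro rfl
      have : chKer (one G) = ⊤ := by
        rw [eq_top_iff]
        intro g _
        rw [mem_chKer]
        rfl
      rw [this]
      exact ⟨⟨Finset.mem_univ _, le_top⟩, le_top⟩
  rw [h6, Finset.sum_singleton, charDegree_one, one_pow, h2] at h5
  have h7 : (Finset.univ.filter (fun χ : IrrCharacter G => M ≤ chKer χ)).filter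
      (fun χ : IrrCharacter G => ¬ N ≤ chKer χ) =
      (Finset.univ.filter (fun χ : IrrCharacter G => ¬ N ≤ chKer χ)).filter
      (fun χ : IrrCharacter G => M ≤ chKer χ) := by
    ext χ
    simp only [Finset.mem_filter, Finset.mem_univ, true_and]
    tauto
  rw [h7] at h5
  have h8 := h3 ((Finset.univ.filter (fun χ : IrrCharacter G => ¬ N ≤ chKer χ)).filter
      (fun χ : IrrCharacter G => ¬ M ≤ chKer χ)) (fun χ hχ => by
    rw [Finset.mem_filter, Finset.mem_filter] at hχ
    exact hcon χ hχ.1.2 hχ.2)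
  have h9 : r ∣ ∑ χ ∈ Finset.univ.filter (fun χ : IrrCharacter G => ¬ N ≤ chKer χ),
      charDegree (χ : G → ℂ) ^ 2 := by
    rw [← h1] at hG
    exact (Nat.dvd_add_left hrN).1 hG
  rw [← h4] at h9
  have h10 := (Nat.dvd_add_left h8).1 h9
  rw [← h5] at hrM
  have h11 := (Nat.dvd_add_left h10).1 hrM
  exact hr.one_lt.ne' (Nat.dvd_one.1 h11)

end

section
variable {G : Type u} [Group G] [Finite G] {H : Type v} [Group H] [Finite H]

/-- `X` is `H` or `H / Z(H)` -/
def Good (X : Type u) [Group X] (H : Type v) [Group H] : Prop :=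
  Nonempty (X ≃* H) ∨ Nonempty (X ≃* H ⧸ Subgroup.center H)

omit [Finite H] in
theorem Good.index_dvd {X : Type u} [Group X] (h : Good X H) : (Subgroup.center H).index ∣ Nat.card X := by
  rcases h with ⟨⟨e⟩⟩ | ⟨⟨e⟩⟩
  · rw [Nat.card_congr e.toEquiv]
    exact Subgroup.index_dvd_card _
  · rw [Nat.card_congr e.toEquiv, Subgroup.index_eq_card]

omit [Finite H] in
/-- proper normal subgroups are central -/
theorem Good.proper {X : Type u} [Group X] (h : Good X H) (hH : QS H) {N : Subgroup X} (hN : N.Normal)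
    (hne : N ≠ ⊤) : N ≤ Subgroup.center X := by
  rcases h with ⟨⟨e⟩⟩ | ⟨⟨e⟩⟩
  · have h1 : (N.map e.toMonoidHom).Normal := hN.map _ e.surjective
    have h2 : N.map e.toMonoidHom ≠ ⊤ := by
      intro h3
      apply hne
      rw [eq_top_iff]
      intro x _
      have h4 : e x ∈ N.map e.toMonoidHom := by rw [h3]; trivial
      obtain ⟨y, hy, hyx⟩ := h4
      have : y = x := e.injective hyx
      rwa [← this]
    have h3 := hH.proper h1 h2
    intro x hx
    have h4 : e x ∈ Subgroup.center H := h3 ⟨x, hx, rfl⟩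
    rw [Subgroup.mem_center_iff] at h4 ⊢
    intro y
    apply e.injective
    rw [map_mul, map_mul, h4]
  · have hs := hH.simple
    have h1 : (N.map e.toMonoidHom).Normal := hN.map _ e.surjective
    have h2 : N.map e.toMonoidHom ≠ ⊤ := by
      intro h3
      apply hne
      rw [eq_top_iff]
      intro x _
      have h4 : e x ∈ N.map e.toMonoidHom := by rw [h3]; trivial
      obtain ⟨y, hy, hyx⟩ := h4
      have : y = x := e.injective hyx
      rwa [← this]
    have h3 := h1.eq_bot_or_eq_top.resolve_right h2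
    intro x hx
    have h4 : e x ∈ N.map e.toMonoidHom := ⟨x, hx, rfl⟩
    rw [h3, Subgroup.mem_bot, ← map_one e] at h4
    rw [e.injective h4]
    exact Subgroup.one_mem _

/-- `G` has no nonabelian minimal normal subgroup if its proper quotients are `H` or `H / Z(H)`. -/
theorem no_nonabelian (hH : QS H) (hG : Sub G H)
    (ih : ∀ (M : Subgroup G) [M.Normal], M ≠ ⊥ → M ≠ ⊤ → Good (G ⧸ M) H)
    {N : Subgroup G} (hN : MinNorm N) (hNt : N ≠ ⊤) (hna : ¬ IsMulCommutative N) : False := by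
  have hNn := hN.nor
  have hL1 : (Subgroup.center H).index ≠ 1 := by
    intro h1
    exact hH.center_ne_top (Subgroup.index_eq_one.1 h1)
  -- a faithful character of degree prime to `r` is impossible
  have key : ∀ r : ℕ, r.Prime → (r * (Subgroup.center H).index ∣ Nat.card G) → ∀ χ : IrrCharacter G,
      chKer χ = ⊥ → ¬ r ∣ charDegree (χ : G → ℂ) → False := by
    intro r hr hdvd χ hk hχ
    have h1 := cod_mul_index χ
    rw [hk, Subgroup.index_bot] at h1
    have h2 := (Nat.factorization_le_iff_dvd (cod_pos χ).ne' hH.index_pos.ne').2 (hG.cod_dvd hH χ) r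
    have h3 := (Nat.factorization_le_iff_dvd (Nat.mul_ne_zero hr.ne_zero hH.index_pos.ne')
      Nat.card_pos.ne').2 hdvd r
    rw [← h1, Nat.factorization_mul hr.ne_zero hH.index_pos.ne',
      Nat.factorization_mul (cod_pos χ).ne' (charDegree_pos χ).ne', Finsupp.add_apply, Finsupp.add_apply,
      hr.factorization_self, Nat.factorization_eq_zero_of_not_dvd hχ] at h3
    omega
  have hN1 : Nat.card N ≠ 1 := fun h => hN.ne (Subgroup.card_eq_one.1 h)
  -- stage one
  obtain ⟨r, hr, hrN⟩ := Nat.exists_prime_and_dvd hN1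
  have := Fact.mk hr
  obtain ⟨χ, hχ1, hχ2⟩ := exists_prime_char hN hna hrN
  have hMn := chKer_normal χ
  by_cases hM : chKer χ = ⊥
  · refine key r hr ?_ χ hM hχ2
    rw [← Subgroup.card_mul_index N]
    exact Nat.mul_dvd_mul hrN (ih N hN.ne hNt).index_dvd
  -- stage two : `G = N × M`
  have full : ∀ M : Subgroup G, M.Normal → M ≠ ⊥ → ¬ N ≤ M → N ⊔ M = ⊤ := by
    intro M hMn hM hNM
    have hMt : M ≠ ⊤ := by rintro rfl; exact hNM le_top
    have h1 := hN.inf_eq_bot hMn hNM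
    have hg := ih M hM hMt
    by_contra hne
    have h2 : (N.map (QuotientGroup.mk' M)) ≠ ⊤ := by
      intro h3
      apply hne
      rw [eq_top_iff]
      intro x _
      have h4 : (QuotientGroup.mk' M) x ∈ N.map (QuotientGroup.mk' M) := by rw [h3]; trivial
      obtain ⟨y, hy, hyx⟩ := h4
      have h5 : y⁻¹ * x ∈ M := QuotientGroup.eq.1 hyx
      have : x = y * (y⁻¹ * x) := by group
      rw [this]
      exact Subgroup.mul_mem _ (Subgroup.mem_sup_left hy) (Subgroup.mem_sup_right h5)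
    have h3 := hg.proper hH (hNn.map _ (QuotientGroup.mk'_surjective M)) h2
    apply hna
    refine ⟨⟨fun a b => Subtype.ext ?_⟩⟩
    have h4 : (QuotientGroup.mk' M) (a : G) ∈ Subgroup.center (G ⧸ M) := h3 ⟨a, a.2, rfl⟩
    have h5 := Subgroup.mem_center_iff.1 h4 ((QuotientGroup.mk' M) (b : G))
    have h6 : ((a * b : N) : G)⁻¹ * ((b * a : N) : G) ∈ M := by
      have : (QuotientGroup.mk' M) ((a * b : N) : G) = (QuotientGroup.mk' M) ((b * a : N) : G) := by
        push_cast
        rw [map_mul, map_mul, h5]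
      exact QuotientGroup.eq.1 this
    have h7 : ((a * b : N) : G)⁻¹ * ((b * a : N) : G) ∈ N ⊓ M :=
      ⟨N.mul_mem (N.inv_mem (a * b : N).2) (b * a : N).2, h6⟩
    rw [h1, Subgroup.mem_bot, inv_mul_eq_one] at h7
    exact h7
  have hcard : ∀ M : Subgroup G, M.Normal → M ≠ ⊥ → ¬ N ≤ M → Nat.card M = N.index ∧ Nat.card N = M.index := by
    intro M hMn hM hNM
    have h1 := hN.inf_eq_bot hMn hNM
    have h2 := full M hMn hM hNM
    have hc : N.IsComplement' M := Subgroup.isComplement'_of_disjoint_and_mul_eq_univ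
      (disjoint_iff.2 h1) (by
        rw [← Subgroup.mul_normal, h2]; rfl)
    exact ⟨hc.symm.index_eq_card.symm, hc.index_eq_card.symm⟩
  have hCn : (Subgroup.centralizer (N : Set G)).Normal := inferInstance
  have hNC : ¬ N ≤ Subgroup.centralizer (N : Set G) := by
    intro h
    apply hna
    refine ⟨⟨fun a b => Subtype.ext ?_⟩⟩
    exact (Subgroup.mem_centralizer_iff.1 (h b.2) a a.2)
  have hle : ∀ M : Subgroup G, M.Normal → M ≠ ⊥ → ¬ N ≤ M → M = Subgroup.centralizer (N : Set G) := by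
    intro M hMn hM hNM
    have h1 := hN.inf_eq_bot hMn hNM
    have h2 : M ≤ Subgroup.centralizer (N : Set G) := by
      intro m hm
      rw [Subgroup.mem_centralizer_iff]
      intro n hn
      exact Subgroup.commute_of_normal_of_disjoint N M hNn hMn (disjoint_iff.2 h1) n m hn hm
    have hC : Subgroup.centralizer (N : Set G) ≠ ⊥ := fun h => hM (by rwa [h, le_bot_iff] at h2)
    have h3 := (hcard M hMn hM hNM).1
    have h4 := (hcard _ hCn hC hNC).1
    exact Subgroup.eq_of_le_of_card_ge h2 (by rw [h3, h4])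
  have hNM1 := hχ1
  obtain ⟨hc1, hc2⟩ := hcard _ hMn hM hNM1
  have hsup := full _ hMn hM hNM1
  have hMt : chKer χ ≠ ⊤ := fun h => hNM1 (by rw [h]; exact le_top)
  obtain ⟨s, hs, hsL⟩ := Nat.exists_prime_and_dvd hL1
  have h1 : s ∣ N.index := by
    rw [Subgroup.index_eq_card]
    exact hsL.trans (ih N hN.ne hNt).index_dvd
  have h2 : s ∣ (chKer χ).index := by
    rw [Subgroup.index_eq_card]
    exact hsL.trans (ih _ hM hMt).index_dvd
  obtain ⟨φ, hφ1, hφ2, hφ3⟩ := exists_two hsup hs h1 h2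
  have hK : chKer φ = ⊥ := by
    by_contra hK
    have h3 := hle _ (chKer_normal φ) hK hφ1
    have h4 := hle _ hMn hM hNM1
    exact hφ2 (by rw [h3, h4])
  refine key s hs ?_ φ hK hφ3
  rw [← Subgroup.card_mul_index N]
  refine Nat.mul_dvd_mul ?_ ?_
  · rw [hc2]; exact h2
  · rw [Subgroup.index_eq_card]
    exact (ih N hN.ne hNt).index_dvd

end

end Cfsg.Agent.H725.Cod
end

-- part: H725/CodAb
section
/-!
# Codegrees inside those of a quasisimple group: abelian minimal normal subgroups (helper725)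

For a noncentral abelian minimal normal subgroup `V`:
* `ker_eq_bot` : the characters nontrivial on `V` are faithful;
* `sq_dvd` : `|V| ^ 2` divides `|H : Z(H)|`;
* `exists_hom` : `H` acts on `V` with central kernel.
-/

set_option autoImplicit false

namespace Cfsg.Agent.H725.Cod

open Cfsg Cfsg.Agent.H686.CharKit Cfsg.Agent.H677.CodPrime Cfsg.Agent.H677.CodMultiset
open scoped commutatorElement

universe u v w

section
variable {G : Type u} [Group G] [Finite G] {H : Type v} [Group H] [Finite H]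

/-- a minimal normal abelian subgroup is elementary abelian -/
theorem MinNorm.exists_prime {V : Subgroup G} (hV : MinNorm V) (hc : ∀ a ∈ V, ∀ b ∈ V, a * b = b * a) :
    ∃ r : ℕ, r.Prime ∧ ∀ v ∈ V, v ^ r = 1 := by
  have hVn := hV.nor
  obtain ⟨r, hr, hrV⟩ := Nat.exists_prime_and_dvd (fun h => hV.ne (Subgroup.card_eq_one.1 h))
  refine ⟨r, hr, ?_⟩
  have := Fact.mk hr
  let M : Subgroup G :=
    { carrier := {v | v ∈ V ∧ v ^ r = 1}
      one_mem' := ⟨V.one_mem, one_pow r⟩
      mul_mem' := fun {a b} ha hb => ⟨V.mul_mem ha.1 hb.1, by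
        rw [(show Commute a b from hc a ha.1 b hb.1).mul_pow, ha.2, hb.2, mul_one]⟩
      inv_mem' := fun {a} ha => ⟨V.inv_mem ha.1, by rw [inv_pow, ha.2, inv_one]⟩ }
  have hM : M.Normal := ⟨fun n hn g => ⟨hVn.conj_mem n hn.1 g, by rw [conj_pow, hn.2]; group⟩⟩
  rcases hV.min M hM (fun x hx => hx.1) with h1 | h1
  · exfalso
    obtain ⟨x, hx⟩ := exists_prime_orderOf_dvd_card' r hrV
    have h2 : (x : G) ∈ M := ⟨x.2, by
      rw [← hx, ← Subgroup.orderOf_coe, pow_orderOf_eq_one]⟩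
    rw [h1, Subgroup.mem_bot] at h2
    have h3 : x = 1 := Subtype.ext h2
    rw [h3, orderOf_one] at hx
    exact hr.one_lt.ne hx
  · intro v hv
    rw [← h1] at hv
    exact hv.2

theorem ker_eq_bot (hH : QS H) (hG : Sub G H)
    (ih : ∀ (M : Subgroup G) [M.Normal], M ≠ ⊥ → M ≠ ⊤ → Good (G ⧸ M) H)
    {V : Subgroup G} (hV : MinNorm V) (hc : ∀ a ∈ V, ∀ b ∈ V, a * b = b * a)
    (hnc : ¬ V ≤ Subgroup.center G) {χ : IrrCharacter G} (hχ : ¬ V ≤ chKer χ) : chKer χ = ⊥ := by
  by_contra hK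
  have hVn := hV.nor
  have hKn := chKer_normal χ
  have hKt : chKer χ ≠ ⊤ := fun h => hχ (by rw [h]; exact le_top)
  have hg := ih (chKer χ) hK hKt
  have hinf := hV.inf_eq_bot hKn hχ
  have hnt : Nontrivial G := by
    by_contra hcon
    rw [not_nontrivial_iff_subsingleton] at hcon
    exact hK (Subsingleton.elim _ _)
  have hperf := hG.perfect hH.perf
  have h2 : (V.map (QuotientGroup.mk' (chKer χ))) ≠ ⊤ := by
    intro h3
    have hq : commutator (G ⧸ chKer χ) = ⊤ := by
      rw [commutator_def, ← Subgroup.map_top_of_surjective (QuotientGroup.mk' (chKer χ))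
        (QuotientGroup.mk'_surjective _), ← Subgroup.map_commutator, ← commutator_def, hperf]
    have hb : commutator (G ⧸ chKer χ) = ⊥ := by
      rw [commutator_eq_closure, Subgroup.closure_eq_bot_iff]
      rintro _ ⟨a, b, rfl⟩
      rw [Set.mem_singleton_iff, commutatorElement_eq_one_iff_mul_comm]
      have ha : a ∈ V.map (QuotientGroup.mk' (chKer χ)) := by rw [h3]; trivial
      have hb : b ∈ V.map (QuotientGroup.mk' (chKer χ)) := by rw [h3]; trivial
      obtain ⟨x, hx, rfl⟩ := ha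
      obtain ⟨y, hy, rfl⟩ := hb
      rw [← map_mul, ← map_mul, hc x hx y hy]
    have : Nontrivial (G ⧸ chKer χ) := QuotientGroup.nontrivial_iff.2 hKt
    rw [hq] at hb
    exact top_ne_bot hb
  have h3 := hg.proper hH (hVn.map _ (QuotientGroup.mk'_surjective (chKer χ))) h2
  apply hnc
  intro v hv
  rw [Subgroup.mem_center_iff]
  intro g
  have h4 : (QuotientGroup.mk' (chKer χ)) v ∈ Subgroup.center (G ⧸ chKer χ) := h3 ⟨v, hv, rfl⟩
  have h5 := Subgroup.mem_center_iff.1 h4 ((QuotientGroup.mk' (chKer χ)) g)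
  rw [← map_mul, ← map_mul] at h5
  have h6 : (g * v)⁻¹ * (v * g) ∈ chKer χ := QuotientGroup.eq.1 h5
  have h7 : (g * v)⁻¹ * (v * g) ∈ V := by
    have : (g * v)⁻¹ * (v * g) = v⁻¹ * (g⁻¹ * v * g⁻¹⁻¹) := by group
    rw [this]
    exact V.mul_mem (V.inv_mem hv) (hVn.conj_mem v hv g⁻¹)
  have h8 : (g * v)⁻¹ * (v * g) ∈ V ⊓ chKer χ := ⟨h7, h6⟩
  rw [hinf, Subgroup.mem_bot, inv_mul_eq_one] at h8
  exact h8

/-- `|V| ^ 2` divides `|H : Z(H)|`. -/
theorem sq_dvd (hH : QS H) (hG : Sub G H)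
    (ih : ∀ (M : Subgroup G) [M.Normal], M ≠ ⊥ → M ≠ ⊤ → Good (G ⧸ M) H)
    {V : Subgroup G} (hV : MinNorm V) (hVt : V ≠ ⊤) (hc : ∀ a ∈ V, ∀ b ∈ V, a * b = b * a)
    (hnc : ¬ V ≤ Subgroup.center G) : Nat.card V ^ 2 ∣ (Subgroup.center H).index := by
  classical
  have := Characters.Core.finite_irr (G := G)
  let _ := Fintype.ofFinite (IrrCharacter G)
  have hVn := hV.nor
  have h1 := sum_sq_not_le V
  obtain ⟨z, hz⟩ := (ih V hV.ne hVt).index_dvd
  rw [← Subgroup.index_eq_card] at hz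
  have hcard := Subgroup.card_mul_index V
  have hV1 : 1 < Nat.card V := by
    have h2 : Nat.card V ≠ 1 := fun h => hV.ne (Subgroup.card_eq_one.1 h)
    have h3 : 0 < Nat.card V := Nat.card_pos
    omega
  set L := (Subgroup.center H).index with hL
  have hL0 : 0 < L := hH.index_pos
  -- every such degree is `|V| z D`
  have h2 : ∀ χ : IrrCharacter G, ¬ V ≤ chKer χ → ∃ D : ℕ, charDegree (χ : G → ℂ) = Nat.card V * z * D := by
    intro χ hχ
    have h3 := ker_eq_bot hH hG ih hV hc hnc hχ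
    have h4 := cod_mul_index χ
    rw [h3, Subgroup.index_bot, ← hcard, hz] at h4
    obtain ⟨D, hD⟩ := hG.cod_dvd hH χ
    refine ⟨D, ?_⟩
    rw [← hL] at hD
    rw [hD] at h4
    have h5 : cod χ * charDegree (χ : G → ℂ) = cod χ * (Nat.card V * z * D) := by rw [h4]; ring
    exact Nat.eq_of_mul_eq_mul_left (cod_pos χ) h5
  choose! D hD using h2
  have h3 : ∑ χ ∈ Finset.univ.filter (fun χ : IrrCharacter G => ¬ V ≤ chKer χ), charDegree (χ : G → ℂ) ^ 2 =
      (Nat.card V * z) ^ 2 * ∑ χ ∈ Finset.univ.filter (fun χ : IrrCharacter G => ¬ V ≤ chKer χ), D χ ^ 2 := by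
    rw [Finset.mul_sum]
    refine Finset.sum_congr rfl fun χ hχ => ?_
    rw [hD χ (Finset.mem_filter.1 hχ).2]
    ring
  rw [h3, ← hcard, hz] at h1
  set s := ∑ χ ∈ Finset.univ.filter (fun χ : IrrCharacter G => ¬ V ≤ chKer χ), D χ ^ 2 with hs
  have hz0 : 0 < z := by
    rcases Nat.eq_zero_or_pos z with h | h
    · rw [h, mul_zero] at hz
      exact absurd hz Subgroup.index_ne_zero_of_finite
    · exact h
  obtain ⟨m, hm⟩ : ∃ m, Nat.card V = m + 1 := ⟨Nat.card V - 1, by omega⟩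
  have h4 : z * (Nat.card V ^ 2 * (z * s)) = z * (m * L) := by
    have h5 : (Nat.card V * z) ^ 2 * s + L * z = (m + 1) * (L * z) := by rw [h1, hm]
    have h6 : (Nat.card V * z) ^ 2 * s = m * (L * z) := by
      have : (m + 1) * (L * z) = m * (L * z) + L * z := by ring
      omega
    calc z * (Nat.card V ^ 2 * (z * s)) = (Nat.card V * z) ^ 2 * s := by ring
      _ = m * (L * z) := h6
      _ = z * (m * L) := by ring
  have h7 := Nat.eq_of_mul_eq_mul_left hz0 h4
  have h8 : Nat.card V ^ 2 ∣ m * L := ⟨_, h7.symm⟩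
  refine Nat.Coprime.dvd_of_dvd_mul_left ?_ h8
  rw [hm]
  exact Nat.Coprime.pow_left 2 (by simp)

/-- `H` acts on `V` with central kernel. -/
theorem exists_hom (hH : QS H)
    (ih : ∀ (M : Subgroup G) [M.Normal], M ≠ ⊥ → M ≠ ⊤ → Good (G ⧸ M) H)
    {V : Subgroup G} (hV : MinNorm V) (hVt : V ≠ ⊤) (hc : ∀ a ∈ V, ∀ b ∈ V, a * b = b * a)
    (hnc : ¬ V ≤ Subgroup.center G) : ∃ φ : H →* MulAut V, φ.ker ≤ Subgroup.center H := by
  have hVn := hV.nor
  have h1 : V ≤ (MulAut.conjNormal : G →* MulAut V).ker := by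
    intro v hv
    rw [MonoidHom.mem_ker]
    ext x
    rw [MulAut.conjNormal_apply, MulAut.one_apply, hc v hv x x.2, mul_inv_cancel_right]
  let ψ : G ⧸ V →* MulAut V := QuotientGroup.lift V MulAut.conjNormal h1
  have hψ : ∀ g : G, ψ (QuotientGroup.mk' V g) = MulAut.conjNormal g := fun g => rfl
  have key : ∀ f : H →* G ⧸ V, Function.Surjective f → ∃ φ : H →* MulAut V, φ.ker ≤ Subgroup.center H := by
    intro f hf
    refine ⟨ψ.comp f, hH.proper inferInstance ?_⟩
    intro htop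
    apply hnc
    intro v hv
    rw [Subgroup.mem_center_iff]
    intro g
    obtain ⟨h, hh⟩ := hf (QuotientGroup.mk' V g)
    have h2 : h ∈ (ψ.comp f).ker := by rw [htop]; trivial
    rw [MonoidHom.mem_ker, MonoidHom.comp_apply, hh, hψ] at h2
    have h3 := congrArg (fun σ : MulAut V => ((σ ⟨v, hv⟩ : V) : G)) h2
    have h4 : g * v * g⁻¹ = v := h3
    rwa [mul_inv_eq_iff_eq_mul] at h4
  rcases ih V hV.ne hVt with ⟨⟨e⟩⟩ | ⟨⟨e⟩⟩
  · exact key e.symm.toMonoidHom e.symm.surjective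
  · exact key (e.symm.toMonoidHom.comp (QuotientGroup.mk' _))
      (e.symm.surjective.comp (QuotientGroup.mk'_surjective _))

/-- no nontrivial elementary abelian group `V` with a faithful action of a central quotient of `H` has
`|V| ^ 2` dividing `|H : Z(H)|` -/
def NoAb (H : Type v) [Group H] : Prop :=
  ∀ (V : Type u) [Group V] [Finite V] [Nontrivial V] (r : ℕ), r.Prime → (∀ a b : V, a * b = b * a) →
    (∀ v : V, v ^ r = 1) → ∀ φ : H →* MulAut V, φ.ker ≤ Subgroup.center H →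
    Nat.card V ^ 2 ∣ (Subgroup.center H).index → False

theorem no_abelian (hH : QS H) (hno : NoAb.{u, v} H) (hG : Sub G H)
    (ih : ∀ (M : Subgroup G) [M.Normal], M ≠ ⊥ → M ≠ ⊤ → Good (G ⧸ M) H)
    {V : Subgroup G} (hV : MinNorm V) (hVt : V ≠ ⊤) (hab : IsMulCommutative V) : V ≤ Subgroup.center G := by
  by_contra hnc
  have hc : ∀ a ∈ V, ∀ b ∈ V, a * b = b * a := fun a ha b hb =>
    congrArg Subtype.val (hab.is_comm.comm ⟨a, ha⟩ ⟨b, hb⟩)
  obtain ⟨r, hr, hp⟩ := hV.exists_prime hc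
  obtain ⟨φ, hφ⟩ := exists_hom hH ih hV hVt hc hnc
  have : Nontrivial V := (Subgroup.nontrivial_iff_ne_bot V).2 hV.ne
  exact hno V r hr (fun a b => hab.is_comm.comm a b) (fun v => Subtype.ext (hp v v.2)) φ hφ
    (sq_dvd hH hG ih hV hVt hc hnc)

end

end Cfsg.Agent.H725.Cod
end

-- part: H725/CodRed
section
/-!
# Codegrees inside those of a quasisimple group: the reduction (helper725)
-/

set_option autoImplicit false

namespace Cfsg.Agent.H725.Cod

open Cfsg Cfsg.Agent.H686.CharKit Cfsg.Agent.H677.CodPrime Cfsg.Agent.H677.CodMultiset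

universe u v w

/-- the central case -/
def CenOK (H : Type v) [Group H] [Finite H] : Prop :=
  ∀ (G : Type u) [Group G] [Finite G] (V : Subgroup G), commutator G = ⊤ → Sub G H → V ≤ Subgroup.center G →
    (Nat.card V).Prime → (∀ (M : Subgroup G) [M.Normal], M ≠ ⊥ → M ≠ ⊤ → Good (G ⧸ M) H) → Good G H

/-- the simple case -/
def SimOK (H : Type v) [Group H] [Finite H] : Prop :=
  ∀ (G : Type u) [Group G] [Finite G] [IsSimpleGroup G], Sub G H → Good G H

theorem MinNorm.card_prime {G : Type u} [Group G] [Finite G] {V : Subgroup G} (hV : MinNorm V)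
    (hc : V ≤ Subgroup.center G) : (Nat.card V).Prime := by
  obtain ⟨r, hr, hrV⟩ := Nat.exists_prime_and_dvd (fun h => hV.ne (Subgroup.card_eq_one.1 h))
  have := Fact.mk hr
  obtain ⟨x, hx⟩ := exists_prime_orderOf_dvd_card' r hrV
  have h1 : (Subgroup.zpowers (x : G)).Normal := by
    refine ⟨fun n hn g => ?_⟩
    have h2 : n ∈ Subgroup.center G := by
      have : Subgroup.zpowers (x : G) ≤ Subgroup.center G := by
        rw [Subgroup.zpowers_le]; exact hc x.2
      exact this hn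
    rw [Subgroup.mem_center_iff.1 h2 g, mul_inv_cancel_right]
    exact hn
  have hxr : orderOf (x : G) = r := by rw [Subgroup.orderOf_coe, hx]
  rcases hV.min _ h1 (by rw [Subgroup.zpowers_le]; exact x.2) with h2 | h2
  · exfalso
    rw [Subgroup.zpowers_eq_bot, ← orderOf_eq_one_iff, hxr] at h2
    exact hr.one_lt.ne' h2
  · rw [← h2, Nat.card_zpowers, hxr]
    exact hr

/-- **The reduction.** -/
theorem reduction {H : Type v} [Group H] [Finite H] (hH : QS H) (hno : NoAb.{u, v} H) (hs : SimOK.{u, v} H)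
    (hc : CenOK.{u, v} H) (G : Type u) [Group G] [Finite G] [Nontrivial G] (hG : Sub G H) : Good G H := by
  have key : ∀ n : ℕ, ∀ (G : Type u) [Group G] [Finite G] [Nontrivial G], Nat.card G ≤ n → Sub G H →
      Good G H := by
    intro n
    induction n with
    | zero =>
      intro G _ _ _ h
      exact absurd h (by have : 0 < Nat.card G := Nat.card_pos; omega)
    | succ n ih =>
      intro G _ _ _ hn hG
      have ih' : ∀ (M : Subgroup G) [M.Normal], M ≠ ⊥ → M ≠ ⊤ → Good (G ⧸ M) H := by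
        intro M _ hM hMt
        have : Nontrivial (G ⧸ M) := QuotientGroup.nontrivial_iff.2 hMt
        refine ih (G ⧸ M) ?_ (hG.quotient M)
        have h1 := Subgroup.card_mul_index M
        rw [Subgroup.index_eq_card] at h1
        have h2 : Nat.card M ≠ 1 := fun h => hM (Subgroup.card_eq_one.1 h)
        have h3 : 0 < Nat.card M := Nat.card_pos
        have h4 : 0 < Nat.card (G ⧸ M) := Nat.card_pos
        have h5 : 2 * Nat.card (G ⧸ M) ≤ Nat.card G := by
          rw [← h1]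
          exact Nat.mul_le_mul_right _ (by omega)
        omega
      obtain ⟨V, hV⟩ := exists_minNorm (G := G)
      have hVn := hV.nor
      by_cases hVt : V = ⊤
      · have hsg : ∀ M : Subgroup G, M.Normal → M = ⊥ ∨ M = ⊤ := by
          intro M hM
          rcases hV.min M hM (by rw [hVt]; exact le_top) with h | h
          · exact Or.inl h
          · exact Or.inr (h.trans hVt)
        have : IsSimpleGroup G := ⟨hsg⟩
        exact hs G hG
      by_cases hab : IsMulCommutative V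
      · have h1 := no_abelian hH hno hG ih' hV hVt hab
        exact hc G V (hG.perfect hH.perf) hG h1 (hV.card_prime h1) ih'
      · exact (no_nonabelian hH hG ih' hV hVt hab).elim
  exact key _ G le_rfl hG

end Cfsg.Agent.H725.Cod
end

-- part: H725/Deg
section
/-!
# Degrees in perfect groups (helper725)
-/

set_option autoImplicit false

namespace Cfsg.Agent.H725.Cod

open Cfsg Cfsg.Agent.H686.CharKit Cfsg.Agent.H677.CodPrime Cfsg.Agent.H677.CodMultiset
open scoped commutatorElement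

universe u

theorem degree_ne_one {G : Type u} [Group G] [Finite G] (hperf : commutator G = ⊤) {χ : IrrCharacter G}
    (h : χ ≠ one G) : charDegree (χ : G → ℂ) ≠ 1 := by
  intro h1
  apply h
  apply eq_one_of_chKer
  rw [eq_top_iff, ← hperf]
  obtain ⟨f, hf⟩ := Characters.Linear.exists_hom_of_isIrrCharacter χ.2 ((charDegree_eq_one_iff χ).1 h1)
  rw [commutator_def, Subgroup.commutator_le]
  intro a _ b _
  rw [mem_chKer, hf]
  simp only [map_one]
  have : f ⁅a, b⁆ = 1 := by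
    rw [map_commutatorElement]
    exact commutatorElement_eq_one_iff_mul_comm.2 (mul_comm _ _)
  rw [this]

end Cfsg.Agent.H725.Cod
end

-- part: H725/SLFacts
section
/-!
# `SL₂(q)` and `SL₃(q)`: orders and normal subgroups (helper725)
-/

set_option autoImplicit false

namespace Cfsg.Agent.H725.SLFacts

open Cfsg Cfsg.Agent.H725.Cod

variable {F : Type*} [Field F] [Fintype F]

theorem card_center {n : ℕ} (hn : 1 ≤ n) :
    Nat.card (Subgroup.center (Matrix.SpecialLinearGroup (Fin n) F)) = Nat.gcd n (Fintype.card F - 1) := by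
  have : Nonempty (Fin n) := ⟨⟨0, by omega⟩⟩
  rw [Nat.card_congr (Matrix.SpecialLinearGroup.center_equiv_rootsOfUnity'
      (n := Fin n) (R := F) ⟨0, by omega⟩).toEquiv, rootsOfUnity_eq_ker,
      IsCyclic.card_powMonoidHom_ker, Nat.card_units, Nat.card_eq_fintype_card, Fintype.card_fin,
      Nat.gcd_comm]

theorem card_two : Nat.card (Matrix.SpecialLinearGroup (Fin 2) F) =
    Fintype.card F * (Fintype.card F ^ 2 - 1) := by
  have h := S0242.result (F := F) rfl 2 (by norm_num)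
  rw [Fin.prod_univ_two] at h
  have hq : 1 < Fintype.card F := Fintype.one_lt_card
  set q := Fintype.card F
  have h1 : (q - 1) * Nat.card (Matrix.SpecialLinearGroup (Fin 2) F) = (q - 1) * (q * (q ^ 2 - 1)) := by
    rw [h]
    change (q ^ 2 - q ^ 0) * (q ^ 2 - q ^ 1) = _
    rw [pow_zero, pow_one]
    have : q ^ 2 - q = q * (q - 1) := by rw [Nat.mul_sub, mul_one, pow_two]
    rw [this]
    ring
  exact Nat.eq_of_mul_eq_mul_left (by omega) h1

theorem card_three : Nat.card (Matrix.SpecialLinearGroup (Fin 3) F) =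
    Fintype.card F ^ 3 * (Fintype.card F ^ 2 - 1) * (Fintype.card F ^ 3 - 1) := by
  have h := S0242.result (F := F) rfl 3 (by norm_num)
  rw [Fin.prod_univ_three] at h
  have hq : 1 < Fintype.card F := Fintype.one_lt_card
  set q := Fintype.card F
  have h1 : (q - 1) * Nat.card (Matrix.SpecialLinearGroup (Fin 3) F) =
      (q - 1) * (q ^ 3 * (q ^ 2 - 1) * (q ^ 3 - 1)) := by
    rw [h]
    change (q ^ 3 - q ^ 0) * (q ^ 3 - q ^ 1) * (q ^ 3 - q ^ 2) = _
    rw [pow_zero, pow_one]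
    have e1 : q ^ 3 - q = q * (q ^ 2 - 1) := by rw [Nat.mul_sub, mul_one]; ring_nf
    have e2 : q ^ 3 - q ^ 2 = q ^ 2 * (q - 1) := by rw [Nat.mul_sub, mul_one]; ring_nf
    rw [e1, e2]
    ring
  exact Nat.eq_of_mul_eq_mul_left (by omega) h1

theorem index_two : Nat.gcd 2 (Fintype.card F - 1) *
    (Subgroup.center (Matrix.SpecialLinearGroup (Fin 2) F)).index = Fintype.card F * (Fintype.card F ^ 2 - 1) := by
  rw [← card_two, ← Subgroup.card_mul_index (Subgroup.center (Matrix.SpecialLinearGroup (Fin 2) F)),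
    card_center (by norm_num)]

theorem index_three : Nat.gcd 3 (Fintype.card F - 1) *
    (Subgroup.center (Matrix.SpecialLinearGroup (Fin 3) F)).index =
    Fintype.card F ^ 3 * (Fintype.card F ^ 2 - 1) * (Fintype.card F ^ 3 - 1) := by
  rw [← card_three, ← Subgroup.card_mul_index (Subgroup.center (Matrix.SpecialLinearGroup (Fin 3) F)),
    card_center (by norm_num)]

theorem qs_of_quasisimple {H : Type*} [Group H] [Finite H] (hH : IsQuasisimple H)
    (hz : Nat.card (Subgroup.center H) = 1 ∨ (Nat.card (Subgroup.center H)).Prime) : QS H where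
  nt := by
    have := hH.2
    have : Nontrivial (H ⧸ Subgroup.center H) := inferInstance
    exact (QuotientGroup.mk'_surjective (Subgroup.center H)).nontrivial
  perf := hH.1.commutator_eq_top
  nor := fun N hN => by
    rcases Lib.ComponentSolvable.quasisimple_normal_cases hH hN with h | h
    · exact Or.inl h
    right
    have h1 := Subgroup.card_dvd_of_le h
    rcases hz with hz | hz
    · rw [hz, Nat.dvd_one] at h1
      exact Or.inl (Subgroup.card_eq_one.1 h1)
    · rcases (Nat.dvd_prime hz).1 h1 with h2 | h2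
      · exact Or.inl (Subgroup.card_eq_one.1 h2)
      · exact Or.inr (Subgroup.eq_of_le_of_card_ge h (by rw [h2]))
  zp := hz

theorem gcd_prime {n : ℕ} (hn : n.Prime) (m : ℕ) : Nat.gcd n m = 1 ∨ (Nat.gcd n m).Prime := by
  rcases (Nat.dvd_prime hn).1 (Nat.gcd_dvd_left n m) with h | h
  · exact Or.inl h
  · right; rw [h]; exact hn

theorem qs_two (h4 : 4 ≤ Fintype.card F) : QS (Matrix.SpecialLinearGroup (Fin 2) F) := by
  refine qs_of_quasisimple (SignalizersComponents.SLQuasisimple.isQuasisimple_two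
    (by rwa [Nat.card_eq_fintype_card])) ?_
  rw [card_center (by norm_num)]
  exact gcd_prime Nat.prime_two _

theorem qs_three : QS (Matrix.SpecialLinearGroup (Fin 3) F) := by
  refine qs_of_quasisimple (SignalizersComponents.SLQuasisimple.isQuasisimple_of_three_le (by simp)) ?_
  rw [card_center (by norm_num)]
  exact gcd_prime Nat.prime_three _

/-- the field order as a prime power -/
theorem exists_pp (F : Type*) [Field F] [Fintype F] : ∃ p f : ℕ, p.Prime ∧ 1 ≤ f ∧ Fintype.card F = p ^ f := by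
  obtain ⟨p, f, hp, hf, h⟩ := (isPrimePow_nat_iff _).1 (Fintype.isPrimePow_card_of_field (α := F))
  exact ⟨p, f, hp, hf, h.symm⟩

theorem charP_of {p f : ℕ} (hp : p.Prime) (hf : 1 ≤ f) (hF : Fintype.card F = p ^ f) : CharP F p := by
  obtain ⟨r, hr⟩ := CharP.exists F
  obtain ⟨k, hrp, hk⟩ := FiniteField.card F r
  have h1 : r ∣ p ^ f := by rw [← hF, hk]; exact dvd_pow_self r k.ne_zero
  have h2 := (Nat.prime_dvd_prime_iff_eq hrp hp).1 (hrp.dvd_of_dvd_pow h1)
  rwa [h2] at hr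

end Cfsg.Agent.H725.SLFacts
end
end

-- part: H725/ThreeCross_mg
section
prune_inst 0xf06001003380020000000016100060140000000000240000c12003060b0211224902a0000e80280a102a80800004000000000000000000000000040000000120888016005081010806000f001080410000000000000000000000000000041004004010000
set_option linter.all false
open scoped Cfsg.Agent.FastGrp

-- part: H725/RPart
section
/-!
# Prime powers dividing `(q² - 1)(q³ - 1)` (helper725)
-/

set_option autoImplicit false

namespace Cfsg.Agent.H725.RPart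

theorem fact_form {q : ℕ} (hq : 1 ≤ q) : (q ^ 2 - 1) * (q ^ 3 - 1) = (q - 1) ^ 2 * (q + 1) * (q ^ 2 + q + 1) := by
  obtain ⟨a, rfl⟩ : ∃ a, q = a + 1 := ⟨q - 1, by omega⟩
  have e1 : (a + 1) ^ 2 - 1 = a * (a + 2) := by
    have : (a + 1) ^ 2 = a * (a + 2) + 1 := by ring
    rw [this, Nat.add_sub_cancel]
  have e2 : (a + 1) ^ 3 - 1 = a * (a ^ 2 + 3 * a + 3) := by
    have : (a + 1) ^ 3 = a * (a ^ 2 + 3 * a + 3) + 1 := by ring
    rw [this, Nat.add_sub_cancel]
  rw [e1, e2, Nat.add_sub_cancel]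
  ring

theorem cop_of_not_dvd {r m x : ℕ} (hr : r.Prime) (h : ¬ r ∣ x) : Nat.Coprime (r ^ m) x :=
  Nat.Coprime.pow_left m ((Nat.Prime.coprime_iff_not_dvd hr).2 h)

/-- the possible prime powers -/
theorem cases {q r m : ℕ} (hq : 2 ≤ q) (hr : r.Prime) (h : r ^ m ∣ (q ^ 2 - 1) * (q ^ 3 - 1)) :
    (r = 2 ∧ r ^ m ∣ 4 * (q + 1)) ∨ (r = 2 ∧ 4 ∣ q - 1 ∧ r ^ m ∣ 2 * (q - 1) ^ 2) ∨
      (r = 3 ∧ 3 ∣ q - 1 ∧ r ^ m ∣ 3 * (q - 1) ^ 2) ∨ (r ≠ 2 ∧ r ≠ 3 ∧ r ∣ q - 1 ∧ r ^ m ∣ (q - 1) ^ 2) ∨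
      (r ≠ 2 ∧ r ^ m ∣ q + 1) ∨ (r ≠ 2 ∧ ¬ r ∣ q - 1 ∧ r ^ m ∣ q ^ 2 + q + 1) := by
  rw [fact_form (by omega)] at h
  obtain ⟨a, rfl⟩ : ∃ a, q = a + 1 := ⟨q - 1, by omega⟩
  rw [Nat.add_sub_cancel] at h ⊢
  have ha : 1 ≤ a := by omega
  have ec : (a + 1) ^ 2 + (a + 1) + 1 = a ^ 2 + 3 * a + 3 := by ring
  rw [ec] at h ⊢
  by_cases h2 : r = 2
  · subst h2
    have hc : ¬ 2 ∣ a ^ 2 + 3 * a + 3 := by
      intro hd
      have h1 : a ^ 2 + 3 * a + 3 = a * (a + 1) + 2 * (a + 1) + 1 := by ring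
      have h2 : 2 ∣ a * (a + 1) := (Nat.even_mul_succ_self a).two_dvd
      omega
    have h1 := (cop_of_not_dvd (m := m) hr hc).dvd_of_dvd_mul_right h
    by_cases h4 : 4 ∣ a
    · right; left
      refine ⟨rfl, h4, ?_⟩
      obtain ⟨k, rfl⟩ := h4
      have h5 : (4 * k) ^ 2 * (4 * k + 1 + 1) = 2 * (4 * k) ^ 2 * (2 * k + 1) := by ring
      rw [h5] at h1
      exact (cop_of_not_dvd (m := m) hr (by omega)).dvd_of_dvd_mul_right h1
    · left
      refine ⟨rfl, ?_⟩
      by_cases h6 : 2 ∣ a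
      · obtain ⟨k, rfl⟩ := h6
        have h7 : ¬ 2 ∣ k := by omega
        have h8 : (2 * k) ^ 2 * (2 * k + 1 + 1) = 4 * (2 * k + 1 + 1) * k ^ 2 := by ring
        rw [h8] at h1
        exact (cop_of_not_dvd (m := m) hr (fun hd => h7 (Nat.prime_two.dvd_of_dvd_pow hd))).dvd_of_dvd_mul_right h1
      · have h7 : ¬ 2 ∣ a ^ 2 * (a + 1 + 1) := by
          rw [Nat.prime_two.dvd_mul]
          rintro (h8 | h8)
          · exact h6 (Nat.prime_two.dvd_of_dvd_pow h8)
          · omega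
        have h8 := (cop_of_not_dvd (m := m) hr h7).eq_one_of_dvd h1
        rw [h8]
        exact one_dvd _
  right; right
  by_cases hra : r ∣ a
  · have hb : ¬ r ∣ a + 1 + 1 := by
      intro hd
      have h1 : r ∣ 2 := by
        have := (Nat.dvd_add_right hra).1 (show r ∣ a + 2 by simpa [add_assoc] using hd)
        exact this
      exact h2 ((Nat.prime_dvd_prime_iff_eq hr Nat.prime_two).1 h1)
    have h1 : r ^ m ∣ a ^ 2 * (a ^ 2 + 3 * a + 3) := by
      have : a ^ 2 * (a + 1 + 1) * (a ^ 2 + 3 * a + 3) = a ^ 2 * (a ^ 2 + 3 * a + 3) * (a + 1 + 1) := by ring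
      rw [this] at h
      exact (cop_of_not_dvd (m := m) hr hb).dvd_of_dvd_mul_right h
    by_cases h3 : r = 3
    · left
      subst h3
      refine ⟨rfl, hra, ?_⟩
      obtain ⟨k, rfl⟩ := hra
      have h5 : (3 * k) ^ 2 * ((3 * k) ^ 2 + 3 * (3 * k) + 3) = 3 * (3 * k) ^ 2 * (3 * k ^ 2 + 3 * k + 1) := by ring
      rw [h5] at h1
      exact (cop_of_not_dvd (m := m) hr (by
        intro hd
        have : 3 * k ^ 2 + 3 * k + 1 = 3 * (k ^ 2 + k) + 1 := by ring
        omega)).dvd_of_dvd_mul_right h1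
    · right; left
      refine ⟨h2, h3, hra, ?_⟩
      refine (cop_of_not_dvd (m := m) hr ?_).dvd_of_dvd_mul_right h1
      intro hd
      have h5 : a ^ 2 + 3 * a + 3 = a * (a + 3) + 3 := by ring
      rw [h5] at hd
      have h6 := (Nat.dvd_add_right (hra.mul_right (a + 3))).1 hd
      exact h3 ((Nat.prime_dvd_prime_iff_eq hr Nat.prime_three).1 h6)
  · right; right
    have h1 : r ^ m ∣ (a + 1 + 1) * (a ^ 2 + 3 * a + 3) := by
      have : a ^ 2 * (a + 1 + 1) * (a ^ 2 + 3 * a + 3) = (a + 1 + 1) * (a ^ 2 + 3 * a + 3) * a ^ 2 := by ring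
      rw [this] at h
      exact (cop_of_not_dvd (m := m) hr (fun hd => hra (hr.dvd_of_dvd_pow hd))).dvd_of_dvd_mul_right h
    by_cases hb : r ∣ a + 1 + 1
    · left
      refine ⟨h2, (cop_of_not_dvd (m := m) hr ?_).dvd_of_dvd_mul_right h1⟩
      intro hd
      have h5 : a ^ 2 + 3 * a + 3 = (a + 1 + 1) * (a + 1) + 1 := by ring
      rw [h5] at hd
      have h6 := (Nat.dvd_add_right (hb.mul_right (a + 1))).1 hd
      exact hr.one_lt.ne' (Nat.dvd_one.1 h6)
    · right
      exact ⟨h2, hra, (cop_of_not_dvd (m := m) hr hb).dvd_of_dvd_mul_left h1⟩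

/-- a crude bound -/
theorem lt_pow_four {q r m : ℕ} (hq : 2 ≤ q) (hr : r.Prime) (h : r ^ m ∣ (q ^ 2 - 1) * (q ^ 3 - 1)) :
    r ^ m < (q + 1) ^ 4 := by
  have h0 : (q - 1) ^ 2 ≤ q ^ 2 := Nat.pow_le_pow_left (by omega) 2
  have h0' : 0 < (q - 1) ^ 2 := Nat.pow_pos (by omega)
  have h1 : 4 ≤ q ^ 2 := by nlinarith only [hq]
  have h2 : (q + 1) ^ 4 = q ^ 2 * q ^ 2 + 4 * q ^ 2 * q + 6 * q ^ 2 + 4 * q + 1 := by ring
  have h3 : 4 * q ^ 2 ≤ q ^ 2 * q ^ 2 := Nat.mul_le_mul_right _ h1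
  have h4 : q ^ 2 ≤ 4 * q ^ 2 * q := by nlinarith only [h1]
  rcases cases hq hr h with ⟨-, h5⟩ | ⟨-, -, h5⟩ | ⟨-, -, h5⟩ | ⟨-, -, -, h5⟩ | ⟨-, h5⟩ | ⟨-, -, h5⟩
  · have := Nat.le_of_dvd (by omega) h5
    omega
  · have := Nat.le_of_dvd (by omega) h5
    omega
  · have := Nat.le_of_dvd (by omega) h5
    omega
  · have := Nat.le_of_dvd (by omega) h5
    omega
  · have := Nat.le_of_dvd (by omega) h5
    omega
  · have := Nat.le_of_dvd (by omega) h5
    omega

end Cfsg.Agent.H725.RPart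
end

-- part: H725/ThreeNum
section
/-!
# Numerical facts on `q³(q² - 1)(q³ - 1)` (helper725)
-/

set_option autoImplicit false

namespace Cfsg.Agent.H725.ThreeNum

/-- `q³(q² - 1)(q³ - 1)` -/
def LL (q : ℕ) : ℕ := q ^ 3 * (q ^ 2 - 1) * (q ^ 3 - 1)

/-- `q³(q - 1)²(q + 1)` in terms of `y = q - 1` -/
def BB (y : ℕ) : ℕ := (y + 1) ^ 3 * y ^ 2 * (y + 2)

def ss (y : ℕ) : ℕ := y ^ 2 + 3 * y + 3

theorem LL_eq (y : ℕ) : LL (y + 1) = BB y * ss y := by
  have h := RPart.fact_form (q := y + 1) (by omega)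
  unfold LL BB ss
  rw [mul_assoc, h, Nat.add_sub_cancel]
  ring

theorem ss_eq (y : ℕ) : ss y = (y + 1) ^ 2 + (y + 1) + 1 := by unfold ss; ring

theorem LL_pos {q : ℕ} (hq : 2 ≤ q) : 0 < LL q := by
  obtain ⟨y, rfl⟩ : ∃ y, q = y + 1 := ⟨q - 1, by omega⟩
  have : 0 < y := by omega
  rw [LL_eq]
  unfold BB ss
  positivity

theorem LL_ge_pow_eight (y : ℕ) : y ^ 8 ≤ LL (y + 1) := by
  rw [LL_eq]
  have : BB y * ss y = y ^ 8 + (8 * y ^ 7 + 27 * y ^ 6 + 49 * y ^ 5 + 50 * y ^ 4 + 27 * y ^ 3 + 6 * y ^ 2) := by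
    unfold BB ss; ring
  omega

theorem LL_ge' (y : ℕ) : y ^ 7 * (y + 8) ≤ LL (y + 1) := by
  rw [LL_eq]
  have : BB y * ss y = y ^ 7 * (y + 8) + (27 * y ^ 6 + 49 * y ^ 5 + 50 * y ^ 4 + 27 * y ^ 3 + 6 * y ^ 2) := by
    unfold BB ss; ring
  omega

theorem LL_lt_pow {q : ℕ} (hq : 2 ≤ q) : LL q < q ^ 8 := by
  have h1 : 0 < q ^ 2 := Nat.pow_pos (by omega)
  have h2 : 0 < q ^ 3 := Nat.pow_pos (by omega)
  calc LL q = q ^ 3 * (q ^ 2 - 1) * (q ^ 3 - 1) := rfl
    _ ≤ q ^ 3 * q ^ 2 * (q ^ 3 - 1) := Nat.mul_le_mul_right _ (Nat.mul_le_mul_left _ (by omega))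
    _ < q ^ 3 * q ^ 2 * q ^ 3 := Nat.mul_lt_mul_of_pos_left (by omega) (Nat.mul_pos h2 h1)
    _ = q ^ 8 := by ring

theorem E5 {y : ℕ} (hy : 4 ≤ y) : (y + 2) ^ 7 ≤ LL (y + 1) := by
  obtain ⟨z, rfl⟩ : ∃ z, y = z + 4 := ⟨y - 4, by omega⟩
  rw [LL_eq]
  have : BB (z + 4) * ss (z + 4) = (z + 4 + 2) ^ 7 + (1 * z ^ 8 + 39 * z ^ 7 + 657 * z ^ 6 + 6213 * z ^ 5 +
      35790 * z ^ 4 + 126891 * z ^ 3 + 263594 * z ^ 2 + 276608 * z + 92064) := by
    unfold BB ss; ring
  omega

theorem E7 {y : ℕ} (hy : 6 ≤ y) : 2 * (y + 2) ^ 7 ≤ LL (y + 1) := by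
  obtain ⟨z, rfl⟩ : ∃ z, y = z + 6 := ⟨y - 6, by omega⟩
  rw [LL_eq]
  have : BB (z + 6) * ss (z + 6) = 2 * (z + 6 + 2) ^ 7 + (1 * z ^ 8 + 54 * z ^ 7 + 1259 * z ^ 6 + 16477 * z ^ 5 +
      131460 * z ^ 4 + 647123 * z ^ 3 + 1878492 * z ^ 2 + 2805628 * z + 1436384) := by
    unfold BB ss; ring
  omega

theorem B_ge {y : ℕ} (hy : 3 ≤ y) : (y + 1) * ss y ^ 2 ≤ BB y := by
  obtain ⟨z, rfl⟩ : ∃ z, y = z + 3 := ⟨y - 3, by omega⟩
  have : BB (z + 3) = (z + 3 + 1) * ss (z + 3) ^ 2 + (1 * z ^ 6 + 22 * z ^ 5 + 197 * z ^ 4 + 910 * z ^ 3 +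
      2246 * z ^ 2 + 2703 * z + 1116) := by
    unfold BB ss; ring
  omega

theorem fourB_ge {y : ℕ} (hy : 3 ≤ y) : ss y ^ 3 ≤ 4 * BB y := by
  obtain ⟨z, rfl⟩ : ∃ z, y = z + 3 := ⟨y - 3, by omega⟩
  have : 4 * BB (z + 3) = ss (z + 3) ^ 3 + (3 * z ^ 6 + 65 * z ^ 5 + 570 * z ^ 4 + 2557 * z ^ 3 + 6038 * z ^ 2 +
      6717 * z + 2259) := by
    unfold BB ss; ring
  omega

/-- `L'^3 ≥ s^10` for `q ≥ 3` -/
theorem LL_cube_ge {y : ℕ} (hy : 2 ≤ y) : ss y ^ 10 ≤ LL (y + 1) ^ 3 := by
  rw [LL_eq, mul_pow]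
  have key : ss y ^ 7 ≤ BB y ^ 3 := by
    rcases Nat.lt_or_ge y 3 with h | h
    · have : y = 2 := by omega
      subst this
      decide
    · have h1 := Nat.pow_le_pow_left (B_ge h) 3
      refine le_trans ?_ h1
      have h2 : ss y ≤ (y + 1) ^ 3 := by
        have : (y + 1) ^ 3 = ss y + (y ^ 3 + 2 * y ^ 2 - 2) := by
          have h3 : 3 ^ 3 ≤ y ^ 3 := Nat.pow_le_pow_left h 3
          have h4 : (y + 1) ^ 3 = y ^ 3 + 3 * y ^ 2 + 3 * y + 1 := by ring
          rw [h4]
          unfold ss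
          (clear * - h3; omega)
        omega
      calc ss y ^ 7 = ss y * (ss y ^ 2) ^ 3 := by ring
        _ ≤ (y + 1) ^ 3 * (ss y ^ 2) ^ 3 := Nat.mul_le_mul_right _ h2
        _ = ((y + 1) * ss y ^ 2) ^ 3 := by ring
  calc ss y ^ 10 = ss y ^ 7 * ss y ^ 3 := by ring
    _ ≤ BB y ^ 3 * ss y ^ 3 := Nat.mul_le_mul_right _ key

end Cfsg.Agent.H725.ThreeNum
end

-- part: H725/ThreeCross
section
/-!
# Numerical part of the cross characteristic case (helper725)
-/

set_option autoImplicit false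

namespace Cfsg.Agent.H725.ThreeNum

/-- the possible sizes of a prime power `Q` dividing `L`, away from the characteristic -/
theorem Q_cases {p f ℓ m L : ℕ} (hp : p.Prime) (hf : 1 ≤ f) (hℓ : ℓ.Prime) (hne : ℓ ≠ p)
    (hQ : ℓ ^ m ∣ L) (hL : Nat.gcd 3 (p ^ f - 1) * L = LL (p ^ f)) :
    (ℓ = 2 ∧ ℓ ^ m ∣ 4 * (p ^ f + 1)) ∨ (ℓ = 2 ∧ 4 ∣ p ^ f - 1 ∧ ℓ ^ m ∣ 2 * (p ^ f - 1) ^ 2) ∨
      (ℓ ≠ 2 ∧ 3 ≤ p ^ f - 1 ∧ ℓ ^ m ∣ (p ^ f - 1) ^ 2) ∨ (ℓ ≠ 2 ∧ ℓ ^ m ∣ p ^ f + 1) ∨
      (ℓ ≠ 2 ∧ Nat.gcd 3 (p ^ f - 1) * ℓ ^ m ∣ (p ^ f) ^ 2 + p ^ f + 1) := by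
  have hq : 2 ≤ p ^ f := hp.two_le.trans (Nat.le_self_pow (by omega) p)
  have hcop : Nat.Coprime (ℓ ^ m) ((p ^ f) ^ 3) := by
    apply Nat.Coprime.pow
    exact Nat.Coprime.pow_right _ ((Nat.coprime_primes hℓ hp).2 hne)
  have h0 : ℓ ^ m ∣ ((p ^ f) ^ 2 - 1) * ((p ^ f) ^ 3 - 1) := by
    have h1 : ℓ ^ m ∣ (p ^ f) ^ 3 * (((p ^ f) ^ 2 - 1) * ((p ^ f) ^ 3 - 1)) := by
      rw [← mul_assoc]
      change _ ∣ LL (p ^ f)
      rw [← hL]
      exact hQ.mul_left _
    exact hcop.dvd_of_dvd_mul_left h1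
  have hcase := RPart.cases hq hℓ h0
  rcases hcase with h | h | ⟨h3, h4, h5⟩ | ⟨h2, h3, h4, h5⟩ | ⟨h2, h3⟩ | ⟨h2, h3, h4⟩
  · exact Or.inl h
  · exact Or.inr (Or.inl h)
  · -- `ℓ = 3`
    have hne2 : ℓ ≠ 2 := by omega
    have hd : Nat.gcd 3 (p ^ f - 1) = 3 := Nat.gcd_eq_left h4
    have h6 : ℓ ^ (m + 1) ∣ ((p ^ f) ^ 2 - 1) * ((p ^ f) ^ 3 - 1) := by
      have hcop' : Nat.Coprime (ℓ ^ (m + 1)) ((p ^ f) ^ 3) := by
        apply Nat.Coprime.pow
        exact Nat.Coprime.pow_right _ ((Nat.coprime_primes hℓ hp).2 hne)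
      have h1 : ℓ ^ (m + 1) ∣ (p ^ f) ^ 3 * (((p ^ f) ^ 2 - 1) * ((p ^ f) ^ 3 - 1)) := by
        rw [← mul_assoc]
        change _ ∣ LL (p ^ f)
        rw [← hL, hd, pow_succ', h3]
        rw [h3] at hQ
        exact Nat.mul_dvd_mul_left 3 hQ
      exact hcop'.dvd_of_dvd_mul_left h1
    rcases RPart.cases hq hℓ h6 with h | h | ⟨-, -, h7⟩ | ⟨-, h7, -⟩ | ⟨-, h7⟩ | ⟨-, h7, -⟩
    · omega
    · omega
    · refine Or.inr (Or.inr (Or.inl ⟨hne2, ?_, ?_⟩))
      · exact Nat.le_of_dvd (by omega) h4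
      · rw [pow_succ', h3] at h7
        rw [h3]
        exact Nat.dvd_of_mul_dvd_mul_left (by norm_num) h7
    · exact absurd h3 h7
    · exfalso
      have h8 : 3 ∣ p ^ f + 1 := by
        refine dvd_trans ?_ h7
        rw [h3]
        exact dvd_pow_self 3 (by omega)
      omega
    · exact absurd (h3 ▸ h4) h7
  · refine Or.inr (Or.inr (Or.inl ⟨h2, ?_, h5⟩))
    have h6 := hℓ.two_le
    have h7 := Nat.le_of_dvd (by omega) h4
    omega
  · exact Or.inr (Or.inr (Or.inr (Or.inl ⟨h2, h3⟩)))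
  · refine Or.inr (Or.inr (Or.inr (Or.inr ⟨h2, ?_⟩)))
    have hg : Nat.gcd 3 (p ^ f - 1) = 1 ∨ Nat.gcd 3 (p ^ f - 1) = 3 :=
      (Nat.dvd_prime Nat.prime_three).1 (Nat.gcd_dvd_left _ _)
    rcases hg with hg | hg
    · rw [hg, one_mul]; exact h4
    · have h5 : 3 ∣ p ^ f - 1 := by rw [← hg]; exact Nat.gcd_dvd_right _ _
      have h6 : ℓ ≠ 3 := by rintro rfl; exact h3 h5
      rw [hg]
      refine Nat.Coprime.mul_dvd_of_dvd_of_dvd ?_ ?_ h4
      · exact Nat.Coprime.pow_right _ ((Nat.coprime_primes Nat.prime_three hℓ).2 (Ne.symm h6))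
      · obtain ⟨k, hk⟩ := h5
        have h7 : p ^ f = 3 * k + 1 := by omega
        rw [h7]
        exact ⟨3 * k ^ 2 + 3 * k + 1, by ring⟩

theorem odd_of {p f : ℕ} (hp : p.Prime) (hne : 2 ≠ p) : ¬ 2 ∣ p ^ f := fun h =>
  hne ((Nat.prime_dvd_prime_iff_eq Nat.prime_two hp).1 (Nat.prime_two.dvd_of_dvd_pow h))

/-- cross characteristic, not `PSL₂` -/
theorem cross_nonL2 {p f ℓ m L t N Q c : ℕ} (hp : p.Prime) (hf : 1 ≤ f) (hℓ : ℓ.Prime) (hne : ℓ ≠ p)
    (hQ : Q = ℓ ^ m) (hN : N = Q * c) (hc3 : c ^ 3 ≤ Q ^ 5) (htQ : t * Q < c) (ht : N * t = L)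
    (hL : Nat.gcd 3 (p ^ f - 1) * L = LL (p ^ f)) : t = 1 := by
  have hq : 2 ≤ p ^ f := hp.two_le.trans (Nat.le_self_pow (by omega) p)
  have hL0 : 0 < L := by
    rcases Nat.eq_zero_or_pos L with h | h
    · rw [h, mul_zero] at hL
      exact absurd hL (LL_pos hq).ne
    · exact h
  have hQ0 : 0 < Q := by rw [hQ]; exact Nat.pow_pos hℓ.pos
  have hg : Nat.gcd 3 (p ^ f - 1) = 1 ∨ Nat.gcd 3 (p ^ f - 1) = 3 :=
    (Nat.dvd_prime Nat.prime_three).1 (Nat.gcd_dvd_left _ _)
  have hLc : L < c ^ 2 := by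
    rw [← ht, hN]
    calc Q * c * t = c * (t * Q) := by ring
      _ < c * c := Nat.mul_lt_mul_of_pos_left htQ (by omega)
      _ = c ^ 2 := by ring
  have hL3 : L ^ 3 < Q ^ 10 := by
    calc L ^ 3 < (c ^ 2) ^ 3 := Nat.pow_lt_pow_left hLc (by norm_num)
      _ = (c ^ 3) ^ 2 := by ring
      _ ≤ (Q ^ 5) ^ 2 := Nat.pow_le_pow_left hc3 2
      _ = Q ^ 10 := by ring
  have hdL : LL (p ^ f) ^ 3 = (Nat.gcd 3 (p ^ f - 1)) ^ 3 * L ^ 3 := by rw [← hL]; ring
  have h27 : LL (p ^ f) ^ 3 < 27 * Q ^ 10 := by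
    rw [hdL]
    rcases hg with hg | hg <;> rw [hg] <;> (clear * - hL3; omega)
  have hQL : ℓ ^ m ∣ L := by rw [← ht, hN, ← hQ]; exact (dvd_mul_right Q c).mul_right t
  have hcases := Q_cases hp hf hℓ hne hQL hL
  rw [← hQ] at hcases
  obtain ⟨y, hy⟩ : ∃ y, p ^ f = y + 1 := ⟨p ^ f - 1, by omega⟩
  rw [hy] at hcases h27 hq hL hg hdL
  rw [Nat.add_sub_cancel] at hcases hL hg hdL
  rcases hcases with ⟨h2, h3⟩ | ⟨h2, h3, h4⟩ | ⟨h2, h3, h4⟩ | ⟨h2, h3⟩ | ⟨h2, h3⟩
  · -- `Q ∣ 4 (q + 1)`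
    exfalso
    have hodd : ¬ 2 ∣ y + 1 := by rw [← hy]; exact odd_of hp (by rw [← h2]; exact hne)
    have h5 : Q ≤ 4 * (y + 2) := Nat.le_of_dvd (by omega) h3
    have h6 : Q ^ 10 ≤ (4 * (y + 2)) ^ 10 := Nat.pow_le_pow_left h5 10
    rcases Nat.lt_or_ge y 4 with hy4 | hy4
    · have hy2 : y = 2 := by (clear * - hq hodd hy4; omega)
      subst hy2
      have hg1 : Nat.gcd 3 2 = 1 := by norm_num
      rw [hg1, one_mul] at hL
      have hLv : L = 5616 := by rw [hL]; rfl
      have h7 : Q ≤ 16 := h5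
      have h8 : Q = 16 := by
        by_contra hne'
        have h9 : Q ∣ 16 := h3
        have h10 : Q ≤ 8 := by
          by_contra h11
          have : Q = 9 ∨ Q = 10 ∨ Q = 11 ∨ Q = 12 ∨ Q = 13 ∨ Q = 14 ∨ Q = 15 := by (clear * - h5 hne' h11; omega)
          rcases this with h | h | h | h | h | h | h <;> rw [h] at h9 <;> revert h9 <;> decide
        have h11 : Q ^ 10 ≤ 8 ^ 10 := Nat.pow_le_pow_left h10 10
        rw [hLv] at hL3
        norm_num at h11 hL3
        omega
      rw [h8] at hc3 hN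
      rw [hLv] at hLc
      have h9 : c ≤ 101 := by
        by_contra h
        have h10 : 102 ^ 3 ≤ c ^ 3 := Nat.pow_le_pow_left (by omega) 3
        norm_num at h10 hc3
        omega
      have h10 : 75 ≤ c := by
        by_contra h
        have h11 : c ^ 2 ≤ 74 ^ 2 := Nat.pow_le_pow_left (by omega) 2
        norm_num at h11
        omega
      have h11 : c ∣ 351 := by
        refine ⟨t, ?_⟩
        rw [hN, hLv] at ht
        have : 16 * (c * t) = 16 * 351 := by rw [← mul_assoc]; omega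
        omega
      interval_cases c <;> revert h11 <;> decide
    · have h7 := Nat.pow_le_pow_left (E5 hy4) 3
      have h8 : (y + 2) ^ 10 * 6 ^ 11 ≤ ((y + 2) ^ 7) ^ 3 := by
        calc (y + 2) ^ 10 * 6 ^ 11 ≤ (y + 2) ^ 10 * (y + 2) ^ 11 :=
              Nat.mul_le_mul_left _ (Nat.pow_le_pow_left (by omega) 11)
          _ = ((y + 2) ^ 7) ^ 3 := by ring
      have h9 : (4 * (y + 2)) ^ 10 = 1048576 * (y + 2) ^ 10 := by ring
      have h10 : 0 < (y + 2) ^ 10 := Nat.pow_pos (by omega)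
      norm_num at h8
      omega
  · -- `Q ∣ 2 (q - 1)²`
    exfalso
    have h5 : Q ≤ 2 * y ^ 2 := Nat.le_of_dvd (by have : 0 < y ^ 2 := Nat.pow_pos (by omega); omega) h4
    rcases Nat.lt_or_ge y 8 with hy8 | hy8
    · have hy4 : y = 4 := by omega
      subst hy4
      have hg1 : Nat.gcd 3 4 = 1 := by norm_num
      rw [hg1, one_mul] at hL
      have hLv : L = 372000 := by rw [hL]; rfl
      have h6 : Q ^ 10 ≤ 32 ^ 10 := Nat.pow_le_pow_left h5 10
      rw [hLv] at hL3
      norm_num at h6 hL3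
      omega
    · have h6 : Q ^ 10 ≤ (2 * y ^ 2) ^ 10 := Nat.pow_le_pow_left h5 10
      have h7 := Nat.pow_le_pow_left (LL_ge' y) 3
      have h8 : y ^ 20 * (8 * 16 ^ 3) ≤ (y ^ 7 * (y + 8)) ^ 3 := by
        calc y ^ 20 * (8 * 16 ^ 3) ≤ y ^ 20 * (y * (y + 8) ^ 3) :=
              Nat.mul_le_mul_left _ (Nat.mul_le_mul hy8 (Nat.pow_le_pow_left (by omega) 3))
          _ = (y ^ 7 * (y + 8)) ^ 3 := by ring
      have h9 : (2 * y ^ 2) ^ 10 = 1024 * y ^ 20 := by ring
      have h10 : 0 < y ^ 20 := Nat.pow_pos (by omega)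
      norm_num at h8
      omega
  · -- `Q ∣ (q - 1)²`
    exfalso
    have h5 : Q ≤ y ^ 2 := Nat.le_of_dvd (Nat.pow_pos (by omega)) h4
    have h6 : Q ^ 10 ≤ (y ^ 2) ^ 10 := Nat.pow_le_pow_left h5 10
    have h7 := Nat.pow_le_pow_left (LL_ge_pow_eight y) 3
    have h8 : y ^ 20 * 3 ^ 4 ≤ (y ^ 8) ^ 3 := by
      calc y ^ 20 * 3 ^ 4 ≤ y ^ 20 * y ^ 4 := Nat.mul_le_mul_left _ (Nat.pow_le_pow_left h3 4)
        _ = (y ^ 8) ^ 3 := by ring
    have h9 : (y ^ 2) ^ 10 = y ^ 20 := by ring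
    have h10 : 0 < y ^ 20 := Nat.pow_pos (by omega)
    norm_num at h8
    omega
  · -- `Q ∣ q + 1`
    exfalso
    have h5 : Q ≤ y + 2 := Nat.le_of_dvd (by omega) h3
    have h6 : Q ^ 10 ≤ (y + 2) ^ 10 := Nat.pow_le_pow_left h5 10
    rcases Nat.lt_or_ge y 4 with hy4 | hy4
    · have : y = 1 ∨ y = 2 ∨ y = 3 := by omega
      rcases this with rfl | rfl | rfl
      · have : LL (1 + 1) = 168 := rfl
        rw [this] at h27
        norm_num at h27 h6
        omega
      · have : LL (2 + 1) = 5616 := rfl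
        rw [this] at h27
        norm_num at h27 h6
        omega
      · have : LL (3 + 1) = 60480 := rfl
        rw [this] at h27
        norm_num at h27 h6
        omega
    · have h7 := Nat.pow_le_pow_left (E5 hy4) 3
      have h8 : (y + 2) ^ 10 * 6 ^ 11 ≤ ((y + 2) ^ 7) ^ 3 := by
        calc (y + 2) ^ 10 * 6 ^ 11 ≤ (y + 2) ^ 10 * (y + 2) ^ 11 :=
              Nat.mul_le_mul_left _ (Nat.pow_le_pow_left (by omega) 11)
          _ = ((y + 2) ^ 7) ^ 3 := by ring
      have h10 : 0 < (y + 2) ^ 10 := Nat.pow_pos (by omega)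
      norm_num at h8
      omega
  · -- `d Q ∣ q² + q + 1`
    have hs : (y + 1) ^ 2 + (y + 1) + 1 = ss y := (ss_eq y).symm
    rw [hs] at h3
    have hs0 : 0 < ss y := by unfold ss; omega
    have h5 := Nat.le_of_dvd hs0 h3
    rcases Nat.lt_or_ge y 2 with hy2 | hy2
    · have hy1 : y = 1 := by omega
      subst hy1
      have hg1 : Nat.gcd 3 1 = 1 := by norm_num
      rw [hg1, one_mul] at hL h3
      have hLv : L = 168 := by rw [hL]; rfl
      have h7 : Q ∣ 7 := h3
      rcases (Nat.dvd_prime (by norm_num)).1 h7 with h8 | h8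
      · exfalso
        rw [h8, hLv] at hL3
        norm_num at hL3
      · rw [h8] at hc3 hN
        rw [hLv] at hLc
        have h9 : c ≤ 25 := by
          by_contra h
          have h10 : 26 ^ 3 ≤ c ^ 3 := Nat.pow_le_pow_left (by omega) 3
          norm_num at h10 hc3
          omega
        have h10 : 13 ≤ c := by
          by_contra h
          have h11 : c ^ 2 ≤ 12 ^ 2 := Nat.pow_le_pow_left (by omega) 2
          norm_num at h11
          omega
        have h11 : c * t = 24 := by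
          rw [hN, hLv] at ht
          have : 7 * (c * t) = 7 * 24 := by rw [← mul_assoc]; omega
          omega
        have h12 : t < 2 := by
          by_contra h
          have : 13 * 2 ≤ c * t := Nat.mul_le_mul h10 (by omega)
          omega
        have h13 : t ≠ 0 := by rintro rfl; omega
        omega
    · exfalso
      have h6 := LL_cube_ge hy2
      have h7 : LL (y + 1) ^ 3 < ss y ^ 10 := by
        rcases hg with hg | hg
        · rw [hg, one_mul] at h5
          rw [hdL, hg, one_pow, one_mul]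
          exact hL3.trans_le (Nat.pow_le_pow_left h5 10)
        · rw [hg] at h5
          have h8 : (3 * Q) ^ 10 ≤ ss y ^ 10 := Nat.pow_le_pow_left h5 10
          have h9 : (3 * Q) ^ 10 = 59049 * Q ^ 10 := by ring
          have h10 : 0 < Q ^ 10 := Nat.pow_pos hQ0
          omega
      omega

/-- cross characteristic, `PSL₂(Q)`, `Q` odd -/
theorem cross_L2_odd {p f ℓ m L t N Q c : ℕ} (hp : p.Prime) (hf : 1 ≤ f) (hℓ : ℓ.Prime) (hne : ℓ ≠ p)
    (hℓ2 : ℓ ≠ 2) (hQ : Q = ℓ ^ m) (hQ4 : 4 ≤ Q) (hN : N = Q * c) (hc : 2 * c = Q ^ 2 - 1) (htQ : t * Q < c)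
    (ht : N * t = L) (hL : Nat.gcd 3 (p ^ f - 1) * L = LL (p ^ f)) : t = 1 := by
  have hq : 2 ≤ p ^ f := hp.two_le.trans (Nat.le_self_pow (by omega) p)
  have hL0 : 0 < L := by
    rcases Nat.eq_zero_or_pos L with h | h
    · rw [h, mul_zero] at hL
      exact absurd hL (LL_pos hq).ne
    · exact h
  have hg : Nat.gcd 3 (p ^ f - 1) = 1 ∨ Nat.gcd 3 (p ^ f - 1) = 3 :=
    (Nat.dvd_prime Nat.prime_three).1 (Nat.gcd_dvd_left _ _)
  have hLc : L < c ^ 2 := by
    rw [← ht, hN]
    calc Q * c * t = c * (t * Q) := by ring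
      _ < c * c := Nat.mul_lt_mul_of_pos_left htQ (by omega)
      _ = c ^ 2 := by ring
  have hL4 : 4 * L < Q ^ 4 := by
    have h1 : (2 * c) ^ 2 ≤ (Q ^ 2) ^ 2 := Nat.pow_le_pow_left (by omega) 2
    have h2 : (2 * c) ^ 2 = 4 * c ^ 2 := by ring
    have h3 : (Q ^ 2) ^ 2 = Q ^ 4 := by ring
    omega
  have h12 : 4 * LL (p ^ f) < 3 * Q ^ 4 := by
    rw [← hL]
    rcases hg with hg | hg <;> rw [hg] <;> omega
  have hQL : ℓ ^ m ∣ L := by rw [← ht, hN, ← hQ]; exact (dvd_mul_right Q c).mul_right t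
  have hcases := Q_cases hp hf hℓ hne hQL hL
  rw [← hQ] at hcases
  obtain ⟨y, hy⟩ : ∃ y, p ^ f = y + 1 := ⟨p ^ f - 1, by omega⟩
  rw [hy] at hcases h12 hq hL hg
  rw [Nat.add_sub_cancel] at hcases hL hg
  rcases hcases with ⟨h2, h3⟩ | ⟨h2, h3, h4⟩ | ⟨h2, h3, h4⟩ | ⟨h2, h3⟩ | ⟨h2, h3⟩
  · exact absurd h2 hℓ2
  · exact absurd h2 hℓ2
  · exfalso
    have h5 : Q ≤ y ^ 2 := Nat.le_of_dvd (Nat.pow_pos (by omega)) h4
    have h6 : Q ^ 4 ≤ (y ^ 2) ^ 4 := Nat.pow_le_pow_left h5 4
    have h7 := LL_ge_pow_eight y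
    have h9 : (y ^ 2) ^ 4 = y ^ 8 := by ring
    have h10 : 0 < y ^ 8 := Nat.pow_pos (by omega)
    omega
  · exfalso
    have h5 : Q ≤ y + 2 := Nat.le_of_dvd (by omega) h3
    have h6 : Q ^ 4 ≤ (y + 2) ^ 4 := Nat.pow_le_pow_left h5 4
    rcases Nat.lt_or_ge y 4 with hy4 | hy4
    · have : y = 1 ∨ y = 2 ∨ y = 3 := by omega
      rcases this with rfl | rfl | rfl
      · have : LL (1 + 1) = 168 := rfl
        rw [this] at h12
        norm_num at h12 h6
        omega
      · have : LL (2 + 1) = 5616 := rfl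
        rw [this] at h12
        norm_num at h12 h6
        omega
      · have : LL (3 + 1) = 60480 := rfl
        rw [this] at h12
        norm_num at h12 h6
        omega
    · have h7 := E5 hy4
      have h8 : (y + 2) ^ 4 * 6 ^ 3 ≤ (y + 2) ^ 7 := by
        calc (y + 2) ^ 4 * 6 ^ 3 ≤ (y + 2) ^ 4 * (y + 2) ^ 3 :=
              Nat.mul_le_mul_left _ (Nat.pow_le_pow_left (by omega) 3)
          _ = (y + 2) ^ 7 := by ring
      have h10 : 0 < (y + 2) ^ 4 := Nat.pow_pos (by omega)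
      norm_num at h8
      omega
  · have hs : (y + 1) ^ 2 + (y + 1) + 1 = ss y := (ss_eq y).symm
    rw [hs] at h3
    have hs0 : 0 < ss y := by unfold ss; omega
    have h5 := Nat.le_of_dvd hs0 h3
    have hbig : 3 ≤ y → False := by
      intro hy3
      have h6 := fourB_ge hy3
      have h7 : ss y ^ 4 ≤ 4 * LL (y + 1) := by
        rw [LL_eq]
        calc ss y ^ 4 = ss y ^ 3 * ss y := by ring
          _ ≤ 4 * BB y * ss y := Nat.mul_le_mul_right _ h6
          _ = 4 * (BB y * ss y) := by ring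
      rcases hg with hg | hg
      · rw [hg, one_mul] at h5 hL
        have h8 : Q ^ 4 ≤ ss y ^ 4 := Nat.pow_le_pow_left h5 4
        rw [hL] at hL4
        omega
      · rw [hg] at h5
        have h8 : (3 * Q) ^ 4 ≤ ss y ^ 4 := Nat.pow_le_pow_left h5 4
        have h9 : (3 * Q) ^ 4 = 81 * Q ^ 4 := by ring
        omega
    rcases Nat.lt_or_ge y 3 with hy3 | hy3
    · have : y = 1 ∨ y = 2 := by (clear * - hq hy3; omega)
      rcases this with rfl | rfl
      · have hg1 : Nat.gcd 3 1 = 1 := by norm_num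
        rw [hg1, one_mul] at hL h3
        have hLv : L = 168 := by rw [hL]; rfl
        have h7 : Q ∣ 7 := h3
        rcases (Nat.dvd_prime (by norm_num)).1 h7 with h8 | h8
        · omega
        · rw [h8] at hc hN
          norm_num at hc
          have hc' : c = 24 := by omega
          rw [hc', ] at hN
          rw [hN, hLv] at ht
          omega
      · exfalso
        have hg1 : Nat.gcd 3 2 = 1 := by norm_num
        rw [hg1, one_mul] at hL h3
        have hLv : L = 5616 := by rw [hL]; rfl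
        have h7 : Q ∣ 13 := h3
        rcases (Nat.dvd_prime (by norm_num)).1 h7 with h8 | h8
        · omega
        · rw [h8] at hc hN
          norm_num at hc
          have hc' : c = 84 := by omega
          rw [hc', ] at hN
          rw [hN, hLv] at ht
          omega
    · exact (hbig hy3).elim

/-- cross characteristic, `PSL₂(Q)`, `Q` even -/
theorem cross_L2_even {p f m L t N Q c : ℕ} (hp : p.Prime) (hf : 1 ≤ f) (hne : 2 ≠ p)
    (hQ : Q = 2 ^ m) (hQ4 : 4 ≤ Q) (hN : N = Q * c) (hc : c = Q ^ 2 - 1) (htQ : t * Q < c)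
    (ht : N * t = L) (hL : Nat.gcd 3 (p ^ f - 1) * L = LL (p ^ f)) : False := by
  have hq : 2 ≤ p ^ f := hp.two_le.trans (Nat.le_self_pow (by omega) p)
  have hL0 : 0 < L := by
    rcases Nat.eq_zero_or_pos L with h | h
    · rw [h, mul_zero] at hL
      exact absurd hL (LL_pos hq).ne
    · exact h
  have hg : Nat.gcd 3 (p ^ f - 1) = 1 ∨ Nat.gcd 3 (p ^ f - 1) = 3 :=
    (Nat.dvd_prime Nat.prime_three).1 (Nat.gcd_dvd_left _ _)
  have hLc : L < c ^ 2 := by
    rw [← ht, hN]
    calc Q * c * t = c * (t * Q) := by ring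
      _ < c * c := Nat.mul_lt_mul_of_pos_left htQ (by omega)
      _ = c ^ 2 := by ring
  have hL4 : L < Q ^ 4 := by
    have h1 : c ^ 2 ≤ (Q ^ 2) ^ 2 := Nat.pow_le_pow_left (by omega) 2
    have h3 : (Q ^ 2) ^ 2 = Q ^ 4 := by ring
    omega
  have h12 : LL (p ^ f) < 3 * Q ^ 4 := by
    rw [← hL]
    rcases hg with hg | hg <;> rw [hg] <;> omega
  have hQL : 2 ^ m ∣ L := by rw [← ht, hN, ← hQ]; exact (dvd_mul_right Q c).mul_right t
  have hcases := Q_cases hp hf Nat.prime_two hne hQL hL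
  rw [← hQ] at hcases
  have hodd : ¬ 2 ∣ p ^ f := odd_of hp hne
  obtain ⟨y, hy⟩ : ∃ y, p ^ f = y + 1 := ⟨p ^ f - 1, by (clear * - hq; omega)⟩
  rw [hy] at hcases h12 hq hL hg hodd
  rw [Nat.add_sub_cancel] at hcases hL hg
  rcases hcases with ⟨-, h3⟩ | ⟨-, h3, h4⟩ | ⟨h2, h3, h4⟩ | ⟨h2, h3⟩ | ⟨h2, h3⟩
  · have h5 : Q ≤ 4 * (y + 2) := Nat.le_of_dvd (by omega) h3
    have h6 : Q ^ 4 ≤ (4 * (y + 2)) ^ 4 := Nat.pow_le_pow_left h5 4
    rcases Nat.lt_or_ge y 6 with hy6 | hy6
    · have : y = 2 ∨ y = 4 := by (clear * - hodd hq hy6; omega)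
      rcases this with rfl | rfl
      · have hg1 : Nat.gcd 3 2 = 1 := by norm_num
        rw [hg1, one_mul] at hL
        have hLv : L = 5616 := by rw [hL]; rfl
        have h7 : Q ≤ 16 := h5
        have h9 : Q ∣ 16 := h3
        have h10 : N ∣ 5616 := by rw [← hLv, ← ht]; exact dvd_mul_right _ _
        rw [hN, hc] at h10
        have h11 : Q = 4 ∨ Q = 8 ∨ Q = 16 := by
          interval_cases Q <;> first | (left; rfl) | (right; left; rfl) | (right; right; rfl) |
            (exfalso; revert h9; decide)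
        rcases h11 with rfl | rfl | rfl <;> revert h10 <;> norm_num
      · have hg1 : Nat.gcd 3 4 = 1 := by norm_num
        rw [hg1, one_mul] at hL
        have hLv : L = 372000 := by rw [hL]; rfl
        rw [hLv] at hL4
        norm_num at h6
        omega
    · have h7 := E7 hy6
      have h8 : (y + 2) ^ 4 * 8 ^ 3 ≤ (y + 2) ^ 7 := by
        calc (y + 2) ^ 4 * 8 ^ 3 ≤ (y + 2) ^ 4 * (y + 2) ^ 3 :=
              Nat.mul_le_mul_left _ (Nat.pow_le_pow_left (by omega) 3)
          _ = (y + 2) ^ 7 := by ring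
      have h9 : (4 * (y + 2)) ^ 4 = 256 * (y + 2) ^ 4 := by ring
      have h10 : 0 < (y + 2) ^ 4 := Nat.pow_pos (by omega)
      norm_num at h8
      omega
  · obtain ⟨k, hk⟩ := h4
    have hy0 : 4 ≤ y := by
      have := Nat.le_of_dvd (by omega) h3
      exact this
    have hk0 : 0 < k := by
      rcases Nat.eq_zero_or_pos k with h | h
      · rw [h, mul_zero] at hk
        have : 0 < y ^ 2 := Nat.pow_pos (by omega)
        omega
      · exact h
    have h8 := LL_ge_pow_eight y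
    have hk2 : k ≤ 2 := by
      by_contra h
      have h9 : 3 ^ 4 ≤ k ^ 4 := Nat.pow_le_pow_left (by omega) 4
      have h10 : Q ^ 4 * k ^ 4 = 16 * y ^ 8 := by
        calc Q ^ 4 * k ^ 4 = (Q * k) ^ 4 := by ring
          _ = (2 * y ^ 2) ^ 4 := by rw [hk]
          _ = 16 * y ^ 8 := by ring
      have h11 : Q ^ 4 * 81 ≤ Q ^ 4 * k ^ 4 := Nat.mul_le_mul_left _ h9
      have h13 : 0 < y ^ 8 := Nat.pow_pos (by omega)
      omega
    -- `y` is a power of two
    have hy2 : y ∣ 2 ^ m * 2 := by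
      rw [← hQ]
      have h14 : y ∣ Q * k := by rw [← hk]; exact (dvd_pow_self y two_ne_zero).mul_left 2
      have h15 : k ∣ 2 := by
        have : k = 1 ∨ k = 2 := by omega
        rcases this with rfl | rfl <;> norm_num
      exact h14.trans (Nat.mul_dvd_mul_left Q h15)
    rw [← pow_succ] at hy2
    obtain ⟨a, -, ha⟩ := (Nat.dvd_prime_pow Nat.prime_two).1 hy2
    have hg1 : Nat.gcd 3 y = 1 := by
      rcases hg with hg | hg
      · exact hg
      · exfalso
        have : 3 ∣ y := by rw [← hg]; exact Nat.gcd_dvd_right _ _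
        rw [ha] at this
        have := Nat.prime_three.dvd_of_dvd_pow this
        omega
    rw [hg1, one_mul] at hL
    have hk1 : k = 1 := by
      by_contra hne1
      have hk22 : k = 2 := by omega
      subst hk22
      have h14 : Q = y ^ 2 := by omega
      rw [hL, h14] at hL4
      have h15 : (y ^ 2) ^ 4 = y ^ 8 := by ring
      omega
    subst hk1
    have hQy : Q = 2 * y ^ 2 := by omega
    -- `2 y² - 1` divides `L`
    obtain ⟨w, hw⟩ : ∃ w, 2 * y ^ 2 = w + 1 := ⟨2 * y ^ 2 - 1, by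
      have : 0 < y ^ 2 := Nat.pow_pos (by omega)
      omega⟩
    have hwc : w ∣ c := by
      rw [hc, hQy, hw]
      refine ⟨w + 2, ?_⟩
      have : (w + 1) ^ 2 = w * (w + 2) + 1 := by ring
      rw [this, Nat.add_sub_cancel]
    have hwL : w ∣ LL (y + 1) := by
      rw [← hL, ← ht, hN]
      exact (hwc.mul_left Q).mul_right t
    have hw1 : Nat.Coprime w y := by
      have h14 : Nat.gcd w y ∣ 1 := by
        have h15 : Nat.gcd w y ∣ w + 1 := by
          rw [← hw]
          exact ((Nat.gcd_dvd_right w y).trans (dvd_pow_self y two_ne_zero)).mul_left 2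
        exact (Nat.dvd_add_right (Nat.gcd_dvd_left w y)).1 h15
      exact Nat.dvd_one.1 h14
    have hw2 : Nat.Coprime w (y + 1) := by
      have h14 : Nat.gcd w (y + 1) ∣ 1 := by
        obtain ⟨x, rfl⟩ : ∃ x, y = x + 1 := ⟨y - 1, by (clear * - hq; omega)⟩
        have h15 : w = 2 * x * (x + 1 + 1) + 1 := by
          have : 2 * (x + 1) ^ 2 = 2 * x * (x + 1 + 1) + 1 + 1 := by ring
          omega
        have h16 : Nat.gcd w (x + 1 + 1) ∣ 2 * x * (x + 1 + 1) := (Nat.gcd_dvd_right _ _).mul_left _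
        have h17 : Nat.gcd w (x + 1 + 1) ∣ 2 * x * (x + 1 + 1) + 1 := by
          have := Nat.gcd_dvd_left w (x + 1 + 1)
          rwa [← h15]
        exact (Nat.dvd_add_right h16).1 h17
      exact Nat.dvd_one.1 h14
    have hw3 : w ∣ (y + 2) * ss y := by
      rw [LL_eq] at hwL
      have h14 : BB y * ss y = (y + 1) ^ 3 * (y ^ 2 * ((y + 2) * ss y)) := by unfold BB; ring
      rw [h14] at hwL
      exact (Nat.Coprime.pow_right 2 hw1).dvd_of_dvd_mul_left
        ((Nat.Coprime.pow_right 3 hw2).dvd_of_dvd_mul_left hwL)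
    have hw4 : w ∣ 19 * y + 17 := by
      have h14 : 2 * ((y + 2) * ss y) = w * (y + 5) + (19 * y + 17) := by
        have h15 : 2 * ((y + 2) * ss y) = (2 * y ^ 2) * (y + 5) + (18 * y + 12) := by unfold ss; ring
        rw [h15, hw]
        ring
      have h16 : w ∣ w * (y + 5) + (19 * y + 17) := by rw [← h14]; exact hw3.mul_left 2
      exact (Nat.dvd_add_right (dvd_mul_right w (y + 5))).1 h16
    have hw5 := Nat.le_of_dvd (by (clear * -; omega)) hw4
    have hy10 : y ≤ 10 := by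
      by_contra h
      have : 11 * y ≤ y * y := Nat.mul_le_mul_right _ (by (clear * - h; omega))
      have h14 : y ^ 2 = y * y := by ring
      (clear * - hw hw5 h this h14; omega)
    have hy48 : y = 4 ∨ y = 8 := by (clear * - hq h3 hy10; omega)
    rcases hy48 with rfl | rfl
    · have hLv : L = 372000 := by rw [hL]; rfl
      have hQv : Q = 32 := by rw [hQy]; norm_num
      rw [hQv] at hN hc
      norm_num at hc
      rw [hc] at hN
      rw [hN, hLv] at ht
      omega
    · have hwv : w = 127 := by omega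
      rw [hwv] at hw4
      revert hw4
      norm_num
  · exact absurd rfl h2
  · exact absurd rfl h2
  · exact absurd rfl h2

end Cfsg.Agent.H725.ThreeNum
end

-- part: H725/SimpleCls
section
/-!
# The classification in the form used for codegrees (helper725)

* `classes` : alternating, Lie type with its order and a character of degree `|S|_p`, sporadic or Tits;
* `iso_two`, `iso_three` : simple groups of the order of `PSL₂(q)`, `PSL₃(q)`.
-/

set_option autoImplicit false

namespace Cfsg.Agent.H725.Cls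

open Cfsg Cfsg.Agent.OrdDiv Cfsg.Agent.H902 Cfsg.Agent.H902.Names

universe u v

theorem spor_real' {S : Type u} [Group S] (h : IsSporadicGroup S ∨ Lie.IsoTits S) :
    ∃ x ∈ spor, OrdDiv.Real x.1 S := by
  have key : ∀ g ∈ spor.map (fun x => x.1), OrdDiv.Real g S → ∃ x ∈ spor, OrdDiv.Real x.1 S := by
    intro g hg hr
    obtain ⟨x, hx, rfl⟩ := List.mem_map.1 hg
    exact ⟨x, hx, hr⟩
  rcases h with h | h
  · rcases h with h | h | h | h | h | h | h | h | h | h | h | h | h | h | h | h | h | h | h | h |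
      h | h | h | h | h | h
    · exact key .m11 (by decide) h
    · exact key .m12 (by decide) h
    · exact key .m22 (by decide) h
    · exact key .m23 (by decide) h
    · exact key .m24 (by decide) h
    · exact key .j1 (by decide) h
    · exact key .j2 (by decide) h
    · exact key .j3 (by decide) h
    · exact key .j4 (by decide) h
    · exact key .co1 (by decide) h
    · exact key .co2 (by decide) h
    · exact key .co3 (by decide) h
    · exact key .mcl (by decide) h
    · exact key .hs (by decide) h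
    · exact key .suz (by decide) h
    · exact key .he (by decide) h
    · exact key .ru (by decide) h
    · exact key .on (by decide) h
    · exact key .ly (by decide) h
    · exact key .fi22 (by decide) h
    · exact key .fi23 (by decide) h
    · exact key .fi24 (by decide) h
    · exact key .hn (by decide) h
    · exact key .th (by decide) h
    · exact key .b (by decide) h
    · exact key .m (by decide) h
  · exact key .tits (by decide) h

theorem exists_st {p : ℕ} (hp : p.Prime) {S : Type u} [Group S] [Finite S] [IsSimpleGroup S]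
    (h : IsLieTypeChar p S) : ∃ χ : IrrCharacter S, charDegree (χ : S → ℂ) = Art.P p (Nat.card S) := by
  have := Fact.mk hp
  obtain ⟨χ, hχ, h1⟩ := H163.Steinberg.exists_irr_of_hasSplit (H794.PP.hasSplit_of_isLieTypeChar hp h)
  refine ⟨⟨χ, hχ⟩, ?_⟩
  obtain ⟨h2, -⟩ := h1 default
  have h3 : charDegree (χ : S → ℂ) = Nat.card (default : Sylow p S) := by
    unfold charDegree
    rw [h2, Complex.natCast_re, Nat.floor_natCast]
  rw [show ((⟨χ, hχ⟩ : IrrCharacter S) : S → ℂ) = χ from rfl, h3, Sylow.card_eq_multiplicity]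
  rfl

theorem classes (T : OrderTable.{u}) {S : Type u} [Group S] [Finite S] [IsSimpleGroup S]
    (hK : IsKnownSimple' S) (hna : ¬ IsMulCommutative S) :
    (∃ n, 5 ≤ n ∧ Nonempty (S ≃* alternatingGroup (Fin n)) ∧ 2 * Nat.card S = n.factorial) ∨
    (∃ p X f, Art.Real X p f (Nat.card S) ∧ ∃ χ : IrrCharacter S, charDegree (χ : S → ℂ) = Art.P p (Nat.card S)) ∨
    (∃ x ∈ spor, OrdDiv.Real x.1 S ∧ Nat.card S = x.2) := by
  rcases OddHalf.Known.classify' hna hK with h1 | ⟨p, hp, h1⟩ | h1 | h1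
  · obtain ⟨n, hn, ⟨e⟩⟩ := h1
    refine Or.inl ⟨n, hn, ⟨e⟩, ?_⟩
    have : Nontrivial (Fin n) := Fin.nontrivial_iff_two_le.2 (by omega)
    rw [Nat.card_congr e.toEquiv, two_mul_nat_card_alternatingGroup, Nat.card_eq_fintype_card, Fintype.card_perm,
      Fintype.card_fin]
  · obtain ⟨X, f, hX⟩ := H284.SepOrd.real_of_lie T hp h1
    exact Or.inr (Or.inl ⟨p, X, f, hX, exists_st hp h1⟩)
  · obtain ⟨x, hx, h2⟩ := spor_real' (Or.inr h1)
    exact Or.inr (Or.inr ⟨x, hx, h2, T.spor S x hx h2⟩)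
  · obtain ⟨x, hx, h2⟩ := spor_real' (Or.inl h1)
    exact Or.inr (Or.inr ⟨x, hx, h2, T.spor S x hx h2⟩)

/-! ### groups of the order of `PSL₂(q)`, `PSL₃(q)` -/

theorem real_of_oodd {S : Type u} [Group S] {m q : ℕ} (hm : 3 ≤ m) (hq : Odd q)
    (h : OrdDiv.Real (.oodd m q) S) : ∃ p f, p.Prime ∧ q = p ^ f ∧ Art.Real (.C m) p f (Nat.card S) := by
  obtain ⟨F, _, _, hF, ⟨e⟩⟩ := h
  obtain ⟨p, f, hp, hf, hF'⟩ := exists_pp F
  refine ⟨p, f, hp, by rw [← hF, hF'], ?_⟩
  rw [Nat.card_congr e.toEquiv]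
  exact oodd_real hp hf hF' hm (by rw [← hF', hF]; exact hq)

theorem real_of_psp {S : Type u} [Group S] {m q : ℕ} (hm : 3 ≤ m)
    (h : OrdDiv.Real (.psp m q) S) : ∃ p f, p.Prime ∧ q = p ^ f ∧ Art.Real (.C m) p f (Nat.card S) := by
  obtain ⟨F, _, _, hF, ⟨e⟩⟩ := h
  obtain ⟨p, f, hp, hf, hF'⟩ := exists_pp F
  refine ⟨p, f, hp, by rw [← hF, hF'], ?_⟩
  rw [Nat.card_congr e.toEquiv]
  exact psp_real hp hf hF' (by omega) (by omega)

theorem not_both {n m p f p' f' M : ℕ} (h : Art.Real (.L n) p f M) (h' : Art.Real (.C m) p' f' M) (hm : 3 ≤ m)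
    (hodd : Odd (p' ^ f')) : False := by
  have key : ∀ N : ℕ, M = N → N < 3 ^ 9 * 2 → False := by
    rintro N rfl hN
    have h1 := h'.P_self
    have h2 : (p' ^ f') ^ Art.NN (.C m) ∣ M := by
      rw [← h1]
      exact Nat.ordProj_dvd M p'
    have h3 : 3 ≤ p' ^ f' := by
      have := h'.q_ge
      obtain ⟨k, hk⟩ := hodd
      omega
    have h4 : 9 ≤ Art.NN (.C m) := by
      change 9 ≤ m ^ 2
      nlinarith only [hm]
    have h5 : 3 ^ 9 ≤ (p' ^ f') ^ Art.NN (.C m) :=
      (Nat.pow_le_pow_left h3 9).trans (Nat.pow_le_pow_right (by omega) h4)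
    have h6 : M ≠ 0 := h'.M_ne
    obtain ⟨c, hc⟩ := h2
    have hc1 : c = 1 := by
      have : c ≠ 0 := by rintro rfl; exact h6 (by rw [hc, mul_zero])
      by_contra hne
      have h7 : 3 ^ 9 * 2 ≤ M := by
        rw [hc]; exact Nat.mul_le_mul h5 (by omega)
      omega
    have h8 := h'.eq
    rw [hc, hc1, mul_one, mul_comm] at h8
    have h9 := Nat.eq_of_mul_eq_mul_left (Nat.pow_pos (by omega)) h8
    have h10 : Art.dd (.C m) (p' ^ f') ≤ 2 := Nat.gcd_le_left _ (by norm_num)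
    have h11 : (p' ^ f') ^ 2 - 1 ∣ Art.num (.C m) (p' ^ f') := by
      change _ ∣ ∏ i ∈ Finset.range m, ((p' ^ f') ^ (2 * (i + 1)) - 1)
      exact (Finset.dvd_prod_of_mem (fun i => (p' ^ f') ^ (2 * (i + 1)) - 1) (Finset.mem_range.2 (by omega : 0 < m)) :)
    rw [← h9] at h11
    have h12 := Nat.le_of_dvd (Nat.pos_of_ne_zero h'.dd_ne) h11
    have h13 : 3 ^ 2 ≤ (p' ^ f') ^ 2 := Nat.pow_le_pow_left h3 2
    omega
  rcases eq_or_ne p p' with rfl | hne
  · rcases Art.same_char h h' with h1 | h1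
    · exact absurd h1.1 (by simp)
    · exact key _ h1 (by norm_num)
  · rcases Art.cross_char h h' hne with h1 | h1 | h1
    · exact key _ h1 (by norm_num)
    · exact key _ h1 (by norm_num)
    · exact key _ h1 (by norm_num)

/-- A simple group `S` of the order of the simple group `L = PSL_n(F)`. -/
theorem iso_of_card (T : OrderTable.{u}) (T' : OrderTable.{v}) {S : Type u} [Group S] [Finite S] [IsSimpleGroup S]
    (hK : IsKnownSimple' S) (hna : ¬ IsMulCommutative S) {L : Type v} [Group L] [Finite L] [IsSimpleGroup L]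
    (hKL : IsKnownSimple' L) (hnaL : ¬ IsMulCommutative L) {n p f : ℕ}
    (hL : Art.Real (.L n) p f (Nat.card L)) (hc : Nat.card S = Nat.card L) :
    Nonempty (S ≃* L) ∨ (Nat.card L = 20160 ∧ (OrdDiv.Real (.alt 8) S ∨ OrdDiv.Real (.psl 3 4) S)) := by
  have hna' : ¬ ∀ a b : S, a * b = b * a := fun h => hna ⟨⟨h⟩⟩
  have hnaL' : ¬ ∀ a b : L, a * b = b * a := fun h => hnaL ⟨⟨h⟩⟩
  obtain ⟨g, hg, hn⟩ := exists_nice T hK hna'
  obtain ⟨g', hg', hn'⟩ := exists_nice T' hKL hnaL'
  rw [← hc] at hn'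
  have h20 : OrdDiv.Real (.alt 8) S ∨ OrdDiv.Real (.alt 8) L → Nat.card L = 20160 := by
    rintro (⟨⟨e⟩⟩ | ⟨⟨e⟩⟩)
    · rw [← hc, Nat.card_congr e.toEquiv, nat_card_alternatingGroup, Nat.card_eq_fintype_card, Fintype.card_fin]
      rfl
    · rw [Nat.card_congr e.toEquiv, nat_card_alternatingGroup, Nat.card_eq_fintype_card, Fintype.card_fin]
      rfl
  rcases nice_cmp hn hn' with rfl | ⟨rfl, rfl⟩ | ⟨rfl, rfl⟩ | ⟨m, q, hm, hq, rfl, rfl⟩ | ⟨m, q, hm, hq, rfl, rfl⟩
  · exact Or.inl (Iso.real_unique _ hg hg')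
  · exact Or.inr ⟨h20 (Or.inl hg), Or.inl hg⟩
  · exact Or.inr ⟨h20 (Or.inr hg'), Or.inr hg⟩
  · exfalso
    obtain ⟨p', f', -, rfl, h1⟩ := real_of_oodd hm hq hg'
    exact not_both hL h1 hm hq
  · exfalso
    obtain ⟨p', f', -, rfl, h1⟩ := real_of_psp hm hg'
    exact not_both hL h1 hm hq

end Cfsg.Agent.H725.Cls
end

-- part: H725/CodCen
section
/-!
# Codegrees inside those of a quasisimple group: central minimal normal subgroups (helper725)

`good_of_noPCov` : if `H` has no perfect central extension of order `|V|` then `G` is good.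
-/

set_option autoImplicit false

namespace Cfsg.Agent.H725.Cod

open Cfsg Cfsg.Agent.H67
open scoped commutatorElement

universe u v w

/-- the commutator subgroup of a central extension of a perfect group is perfect -/
theorem perfect_commutator {X : Type u} {H : Type v} [Group X] [Group H] {b : X →* H}
    (hb : Function.Surjective b) (hk : b.ker ≤ Subgroup.center X) (hH : commutator H = ⊤) :
    commutator (commutator X) = ⊤ := by
  have h1 : ∀ x : X, ∃ d ∈ commutator X, ∃ k ∈ Subgroup.center X, x = d * k := by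
    intro x
    have h2 : b x ∈ (commutator X).map b := by
      rw [commutator_def, Subgroup.map_commutator, Subgroup.map_top_of_surjective b hb, ← commutator_def, hH]
      trivial
    obtain ⟨d, hd, hdx⟩ := h2
    refine ⟨d, hd, d⁻¹ * x, hk ?_, by group⟩
    rw [MonoidHom.mem_ker, map_mul, map_inv, hdx, inv_mul_cancel]
  have h2 : commutator X ≤ ⁅commutator X, commutator X⁆ := by
    conv_lhs => rw [commutator_def]
    rw [Subgroup.commutator_le]
    rintro x - y -
    obtain ⟨d, hd, k, hk, rfl⟩ := h1 x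
    obtain ⟨d', hd', k', hk', rfl⟩ := h1 y
    rw [Subgroup.mem_center_iff] at hk hk'
    have h3 : ⁅d * k, d' * k'⁆ = ⁅d, d'⁆ := by
      rw [commutatorElement_def, commutatorElement_def, mul_inv_rev, mul_inv_rev]
      have e1 : d * k * (d' * k') = d * d' * (k * k') := by
        rw [mul_assoc d k, ← mul_assoc k d', ← hk d']
        group
      have e2 : k⁻¹ * d⁻¹ * (k'⁻¹ * d'⁻¹) = (k * k')⁻¹ * (d⁻¹ * d'⁻¹) := by
        have h4 : d⁻¹ * k'⁻¹ = k'⁻¹ * d⁻¹ := by
          rw [← mul_inv_rev, ← mul_inv_rev, hk' d]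
        have h5 : k⁻¹ * k'⁻¹ = (k * k')⁻¹ := by rw [mul_inv_rev, ← mul_inv_rev, ← mul_inv_rev, hk' k]
        calc k⁻¹ * d⁻¹ * (k'⁻¹ * d'⁻¹) = k⁻¹ * (d⁻¹ * k'⁻¹) * d'⁻¹ := by group
          _ = k⁻¹ * (k'⁻¹ * d⁻¹) * d'⁻¹ := by rw [h4]
          _ = (k⁻¹ * k'⁻¹) * (d⁻¹ * d'⁻¹) := by group
          _ = _ := by rw [h5]
      calc d * k * (d' * k') * (k⁻¹ * d⁻¹) * (k'⁻¹ * d'⁻¹)
          = d * k * (d' * k') * (k⁻¹ * d⁻¹ * (k'⁻¹ * d'⁻¹)) := by group
        _ = d * d' * (k * k') * ((k * k')⁻¹ * (d⁻¹ * d'⁻¹)) := by rw [e1, e2]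
        _ = d * d' * d⁻¹ * d'⁻¹ := by group
    rw [h3]
    exact Subgroup.commutator_mem_commutator hd hd'
  rw [eq_top_iff]
  intro x _
  have h3 := h2 x.2
  rw [← Subgroup.map_subtype_commutator] at h3
  obtain ⟨y, hy, hyx⟩ := h3
  rwa [← Subtype.ext hyx]

/-- a perfect central extension of prime order `r` of `H` or `H / Z(H)` is good if `H` has no perfect central
extension of order `r` -/
theorem good_of_noPCov {H : Type v} [Group H] [Finite H] (hH : QS H) {G : Type u} [Group G] [Finite G]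
    (hperf : commutator G = ⊤) {V : Subgroup G} [V.Normal] (hV : V ≤ Subgroup.center G)
    (hVp : (Nat.card V).Prime) (hg : Good (G ⧸ V) H) (hno : NoPCov (Nat.card V) H) : Good G H := by
  have hmk := QuotientGroup.mk'_surjective V
  rcases hg with ⟨⟨e⟩⟩ | ⟨⟨e⟩⟩
  · exfalso
    have h1 : (e.toMonoidHom.comp (QuotientGroup.mk' V)).ker = V := by
      ext x
      rw [MonoidHom.mem_ker, MonoidHom.comp_apply]
      change e (QuotientGroup.mk' V x) = 1 ↔ _
      rw [map_eq_one_iff e e.injective]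
      exact QuotientGroup.eq_one_iff x
    have h2 := hno.not_dvd_card_ker hVp hperf (f := e.toMonoidHom.comp (QuotientGroup.mk' V))
      (e.surjective.comp hmk) (by rw [h1]; exact hV)
    rw [h1] at h2
    exact h2 dvd_rfl
  · let π : G →* H ⧸ Subgroup.center H := e.toMonoidHom.comp (QuotientGroup.mk' V)
    have hπ : Function.Surjective π := e.surjective.comp hmk
    have hπ1 : ∀ x, π x = 1 ↔ x ∈ V := by
      intro x
      change e (QuotientGroup.mk' V x) = 1 ↔ _
      rw [map_eq_one_iff e e.injective]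
      exact QuotientGroup.eq_one_iff x
    let ρ : H →* H ⧸ Subgroup.center H := QuotientGroup.mk' (Subgroup.center H)
    have hρ : Function.Surjective ρ := QuotientGroup.mk'_surjective _
    let X : Subgroup (G × H) := (π.comp (MonoidHom.fst G H)).eqLocus (ρ.comp (MonoidHom.snd G H))
    have hX : ∀ x : G × H, x ∈ X ↔ π x.1 = ρ x.2 := fun x => Iff.rfl
    let a : X →* G := (MonoidHom.fst G H).comp X.subtype
    let b : X →* H := (MonoidHom.snd G H).comp X.subtype
    have ha : Function.Surjective a := by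
      intro g
      obtain ⟨h, hh⟩ := hρ (π g)
      exact ⟨⟨(g, h), (hX _).2 hh.symm⟩, rfl⟩
    have hb : Function.Surjective b := by
      intro h
      obtain ⟨g, hg⟩ := hπ (ρ h)
      exact ⟨⟨(g, h), (hX _).2 hg⟩, rfl⟩
    have hbk : ∀ x : X, b x = 1 → (x : G × H).1 ∈ V ∧ (x : G × H).2 = 1 := by
      intro x hx
      have h1 : (x : G × H).2 = 1 := hx
      refine ⟨?_, h1⟩
      rw [← hπ1, (hX _).1 x.2, h1, map_one]
    have hbc : b.ker ≤ Subgroup.center X := by
      intro x hx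
      obtain ⟨h1, h2⟩ := hbk x hx
      rw [Subgroup.mem_center_iff]
      intro y
      apply Subtype.ext
      apply Prod.ext
      · exact Subgroup.mem_center_iff.1 (hV h1) _
      · change (y : G × H).2 * (x : G × H).2 = (x : G × H).2 * (y : G × H).2
        rw [h2, one_mul, mul_one]
    have hDp := perfect_commutator hb hbc hH.perf
    let D : Subgroup X := commutator X
    let b' : D →* H := b.comp D.subtype
    have hb' : Function.Surjective b' := by
      intro h
      have h2 : h ∈ (commutator X).map b := by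
        rw [commutator_def, Subgroup.map_commutator, Subgroup.map_top_of_surjective b hb, ← commutator_def,
          hH.perf]
        trivial
      obtain ⟨d, hd, hdx⟩ := h2
      exact ⟨⟨d, hd⟩, hdx⟩
    have hb'c : b'.ker ≤ Subgroup.center D := by
      intro x hx
      have h1 : (x : X) ∈ Subgroup.center X := hbc hx
      rw [Subgroup.mem_center_iff] at h1 ⊢
      intro y
      exact Subtype.ext (h1 y)
    have h3 := hno.not_dvd_card_ker hVp hDp hb' hb'c
    have h4 : Nat.card b'.ker ∣ Nat.card V := by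
      let f : b'.ker →* V :=
        { toFun := fun x => ⟨(((x : D) : X) : G × H).1, (hbk _ x.2).1⟩
          map_one' := rfl
          map_mul' := fun _ _ => rfl }
      refine Subgroup.card_dvd_of_injective f ?_
      intro x y hxy
      have h5 : (((x : D) : X) : G × H).1 = (((y : D) : X) : G × H).1 := congrArg Subtype.val hxy
      have h6 : (((x : D) : X) : G × H).2 = (((y : D) : X) : G × H).2 :=
        (hbk _ x.2).2.trans (hbk _ y.2).2.symm
      exact Subtype.ext (Subtype.ext (Subtype.ext (Prod.ext h5 h6)))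
    have h5 : Nat.card b'.ker = 1 := by
      rcases (Nat.dvd_prime hVp).1 h4 with h | h
      · exact h
      · exact absurd (by rw [h]) h3
    have h6 : b'.ker = ⊥ := Subgroup.card_eq_one.1 h5
    have h7 : Function.Injective b' := (MonoidHom.ker_eq_bot_iff b').1 h6
    let E : D ≃* H := MulEquiv.ofBijective b' ⟨h7, hb'⟩
    let a' : D →* G := a.comp D.subtype
    have ha' : Function.Surjective a' := by
      intro g
      have h2 : g ∈ (commutator X).map a := by
        rw [commutator_def, Subgroup.map_commutator, Subgroup.map_top_of_surjective a ha, ← commutator_def,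
          hperf]
        trivial
      obtain ⟨d, hd, hdx⟩ := h2
      exact ⟨⟨d, hd⟩, hdx⟩
    let c : H →* G := a'.comp E.symm.toMonoidHom
    have hc : Function.Surjective c := ha'.comp E.symm.surjective
    have hG1 : Nontrivial G := by
      by_contra hcon
      rw [not_nontrivial_iff_subsingleton] at hcon
      have : Nat.card V = 1 := Nat.card_unique
      rw [this] at hVp
      exact Nat.not_prime_one hVp
    rcases hH.nor c.ker inferInstance with h8 | h8 | h8
    · exfalso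
      obtain ⟨x, hx⟩ := exists_ne (1 : G)
      obtain ⟨h, rfl⟩ := hc x
      have : h ∈ c.ker := by rw [h8]; trivial
      exact hx this
    · exact Or.inl ⟨(MulEquiv.ofBijective c ⟨(MonoidHom.ker_eq_bot_iff c).1 h8, hc⟩).symm⟩
    · exact Or.inr ⟨(QuotientGroup.quotientKerEquivOfSurjective c hc).symm.trans
        (QuotientGroup.quotientMulEquivOfEq h8)⟩

end Cfsg.Agent.H725.Cod
end

-- part: H725/CenGen
section
/-!
# The central case: characters over a faithful central character (helper725)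
-/

set_option autoImplicit false

namespace Cfsg.Agent.H725.CenGen

open Cfsg Cfsg.Agent.H725.Cod Cfsg.Agent.H725.Lam
open Cfsg.Agent.H686.CharKit Cfsg.Agent.H677.CodPrime Cfsg.Agent.H677.CodMultiset
open Finset ComplexConjugate
open scoped commutatorElement

universe u v

/-- a character nontrivial on a central subgroup of prime order of a perfect group with simple quotient is
faithful -/
theorem chKer_bot {G : Type u} [Group G] [Finite G] (hperf : commutator G = ⊤) {V : Subgroup G} [V.Normal]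
    (hV : V ≤ Subgroup.center G) (hVp : (Nat.card V).Prime) [IsSimpleGroup (G ⧸ V)] {z : G} (hz : z ∈ V)
    {χ : IrrCharacter G} (h : (χ : G → ℂ) z ≠ (χ : G → ℂ) 1) : chKer χ = ⊥ := by
  have hK : (chKer χ).Normal := inferInstance
  have hzK : z ∉ chKer χ := fun h' => h h'
  have h1 : ((chKer χ).map (QuotientGroup.mk' V)).Normal := hK.map _ (QuotientGroup.mk'_surjective V)
  rcases h1.eq_bot_or_eq_top with h2 | h2
  · have h3 : chKer χ ≤ V := by
      rw [Subgroup.map_eq_bot_iff, QuotientGroup.ker_mk'] at h2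
      exact h2
    have h4 := Subgroup.card_dvd_of_le h3
    rcases (Nat.dvd_prime hVp).1 h4 with h5 | h5
    · exact Subgroup.card_eq_one.1 h5
    · exact absurd (by rw [Subgroup.eq_of_le_of_card_ge h3 h5.ge]; exact hz) hzK
  · exfalso
    have h3 : chKer χ ⊔ V = ⊤ := by
      have h4 := Subgroup.comap_map_eq (QuotientGroup.mk' V) (chKer χ)
      rw [h2, QuotientGroup.ker_mk', Subgroup.comap_top] at h4
      exact h4.symm
    have h5 : commutator G ≤ chKer χ := by
      rw [commutator_def, Subgroup.commutator_le]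
      intro a _ b _
      have ha : a ∈ chKer χ ⊔ V := by rw [h3]; trivial
      have hb : b ∈ chKer χ ⊔ V := by rw [h3]; trivial
      obtain ⟨k, hk, v, hv, rfl⟩ := Subgroup.mem_sup_of_normal_right.1 ha
      obtain ⟨k', hk', v', hv', rfl⟩ := Subgroup.mem_sup_of_normal_right.1 hb
      have e1 : (QuotientGroup.mk' (chKer χ)) ⁅k * v, k' * v'⁆ = 1 := by
        have hkk : QuotientGroup.mk' (chKer χ) k = 1 := (QuotientGroup.eq_one_iff k).2 hk
        have hkk' : QuotientGroup.mk' (chKer χ) k' = 1 := (QuotientGroup.eq_one_iff k').2 hk'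
        rw [map_commutatorElement, map_mul, map_mul, hkk, hkk', one_mul, one_mul, ← map_commutatorElement,
          commutatorElement_eq_one_iff_mul_comm.2 (Subgroup.mem_center_iff.1 (hV hv') v), map_one]
      exact (QuotientGroup.eq_one_iff _).1 e1
    rw [hperf] at h5
    exact hzK (h5 trivial)

/-- the sum of the squares over a central character -/
theorem sum_sq_Lam {G : Type u} [Group G] [Finite G] [Fintype (IrrCharacter G)] {z : G}
    (hz : z ∈ Subgroup.center G) {n : ℕ} (hzn : orderOf z = n) {c : ℂ} (hc : c ^ n = 1) :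
    n * ∑ χ ∈ Lam z c, charDegree (χ : G → ℂ) ^ 2 = Nat.card G := by
  have hn0 : n ≠ 0 := by rw [← hzn]; exact (orderOf_pos z).ne'
  have hn : z ^ n = 1 := by rw [← hzn, pow_orderOf_eq_one]
  have h1 := orth hz hn hn0 hc 1 1 (by
    intro k hk hk0 h
    rw [one_mul, isConj_one_left] at h
    have := orderOf_dvd_of_pow_eq_one h
    rw [hzn] at this
    exact absurd (Nat.le_of_dvd (Nat.pos_of_ne_zero hk0) this) (by omega)) (IsConj.refl _)
  have h2 : Nat.card (Subgroup.centralizer ({1} : Set G)) = Nat.card G := by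
    have : Subgroup.centralizer ({1} : Set G) = ⊤ := by
      rw [eq_top_iff]
      intro g _
      rw [Subgroup.mem_centralizer_singleton_iff, mul_one, one_mul]
    rw [this]
    exact Nat.card_congr Subgroup.topEquiv.toEquiv
  rw [h2] at h1
  have h3 : ∑ χ ∈ Lam z c, (χ : G → ℂ) 1 * conj ((χ : G → ℂ) 1) =
      ((∑ χ ∈ Lam z c, charDegree (χ : G → ℂ) ^ 2 : ℕ) : ℂ) := by
    rw [Nat.cast_sum]
    refine sum_congr rfl fun χ _ => ?_
    rw [← charDegree_irr, Complex.conj_natCast]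
    push_cast
    ring
  rw [h3, eq_inv_mul_iff_mul_eq₀ (Nat.cast_ne_zero.2 hn0)] at h1
  exact_mod_cast h1

theorem finrank_invariants {Q : Type*} [Group Q] [Fintype Q] {V : Type*} [AddCommGroup V] [Module ℂ V]
    [FiniteDimensional ℂ V] (τ : Representation ℂ Q V) :
    (Fintype.card Q : ℂ)⁻¹ * ∑ g : Q, LinearMap.trace ℂ V (τ g) = (Module.finrank ℂ τ.invariants : ℂ) := by
  classical
  have hc : (Fintype.card Q : ℂ) ≠ 0 := by
    have : 0 < Fintype.card Q := Fintype.card_pos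
    exact_mod_cast this.ne'
  have hinv : Invertible (Fintype.card Q : ℂ) := invertibleOfNonzero hc
  rw [← (Representation.isProj_averageMap τ).trace]
  simp only [Representation.averageMap, GroupAlgebra.average, map_sum, _root_.invOf_eq_inv, _root_.MonoidAlgebra.of_apply, _root_.map_smul, _root_.Representation.asAlgebraHom_single, _root_.one_smul, _root_.smul_eq_mul]

/-- the multiplicity of the principal character in the restriction to a subgroup -/
theorem exists_mult {G : Type u} [Group G] [Finite G] (χ : IrrCharacter G) (Q : Subgroup G) [Fintype Q] :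
    ∃ m : ℕ, ∑ g : Q, (χ : G → ℂ) g = (Nat.card Q : ℂ) * m := by
  obtain ⟨χ, n, ρ, hρ, rfl⟩ := χ
  refine ⟨Module.finrank ℂ (Representation.invariants (ρ.comp Q.subtype)), ?_⟩
  have h1 := finrank_invariants (ρ.comp Q.subtype)
  have hc : (Fintype.card Q : ℂ) ≠ 0 := by
    have : 0 < Fintype.card Q := Fintype.card_pos
    exact_mod_cast this.ne'
  rw [inv_mul_eq_iff_eq_mul₀ hc] at h1
  rw [Nat.card_eq_fintype_card, ← h1]
  rfl

/-- restriction of the sum of all characters over `c` to a subgroup of order prime to `n` -/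
theorem sum_mult {G : Type u} [Group G] [Finite G] [Fintype (IrrCharacter G)] {z : G}
    (hz : z ∈ Subgroup.center G) {n : ℕ} (hzn : orderOf z = n) {c : ℂ} (hc : c ^ n = 1) (Q : Subgroup G)
    (hQ : Nat.Coprime (Nat.card Q) n) (m : IrrCharacter G → ℕ)
    (hm : ∀ χ : IrrCharacter G, haveI := Fintype.ofFinite Q; ∑ g : Q, (χ : G → ℂ) g = (Nat.card Q : ℂ) * m χ) :
    n * (Nat.card Q * ∑ χ ∈ Lam z c, charDegree (χ : G → ℂ) * m χ) = Nat.card G := by
  classical
  let _ := Fintype.ofFinite Q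
  have hn0 : n ≠ 0 := by rw [← hzn]; exact (orderOf_pos z).ne'
  have hn : z ^ n = 1 := by rw [← hzn, pow_orderOf_eq_one]
  -- orthogonality with `1`
  have h1 : ∀ g : Q, g ≠ 1 → ∑ χ ∈ Lam z c, (χ : G → ℂ) g * conj ((χ : G → ℂ) 1) = 0 := by
    intro g hg
    refine orth_zero hz hn hn0 hc (g : G) 1 fun k hk h => ?_
    rw [isConj_one_left] at h
    apply hg
    have h2 : (g : G) = (z ^ k)⁻¹ := eq_inv_of_mul_eq_one_left h
    have h3 : orderOf (g : G) ∣ n := by
      rw [h2, orderOf_inv]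
      exact orderOf_dvd_of_pow_eq_one (by rw [← pow_mul, mul_comm, pow_mul, hn, one_pow])
    have h4 : orderOf (g : G) ∣ Nat.card Q := by
      rw [Subgroup.orderOf_coe]
      exact orderOf_dvd_natCard g
    have h5 : orderOf (g : G) ∣ 1 := by
      rw [← hQ.gcd_eq_one]
      exact Nat.dvd_gcd h4 h3
    exact Subtype.ext (orderOf_eq_one_iff.1 (Nat.dvd_one.1 h5))
  have h2 : ∑ g : Q, ∑ χ ∈ Lam z c, (χ : G → ℂ) g * conj ((χ : G → ℂ) 1) =
      ∑ χ ∈ Lam z c, (χ : G → ℂ) 1 * conj ((χ : G → ℂ) 1) := by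
    rw [Finset.sum_eq_single 1]
    · rfl
    · intro g _ hg
      exact h1 g hg
    · intro h
      exact absurd (Finset.mem_univ _) h
  rw [Finset.sum_comm] at h2
  have h3 : ∀ χ ∈ Lam z c, ∑ g : Q, (χ : G → ℂ) g * conj ((χ : G → ℂ) 1) =
      (Nat.card Q : ℂ) * ((charDegree (χ : G → ℂ) * m χ : ℕ) : ℂ) := by
    intro χ _
    rw [← Finset.sum_mul, hm χ, ← charDegree_irr, Complex.conj_natCast]
    push_cast
    ring
  rw [Finset.sum_congr rfl h3, ← Finset.mul_sum] at h2
  have h4 := sum_sq_Lam hz hzn hc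
  have h5 : ∑ χ ∈ Lam z c, (χ : G → ℂ) 1 * conj ((χ : G → ℂ) 1) =
      ((∑ χ ∈ Lam z c, charDegree (χ : G → ℂ) ^ 2 : ℕ) : ℂ) := by
    rw [Nat.cast_sum]
    refine sum_congr rfl fun χ _ => ?_
    rw [← charDegree_irr, Complex.conj_natCast]
    push_cast
    ring
  rw [h5] at h2
  have h6 : Nat.card Q * ∑ χ ∈ Lam z c, charDegree (χ : G → ℂ) * m χ =
      ∑ χ ∈ Lam z c, charDegree (χ : G → ℂ) ^ 2 := by exact_mod_cast h2
  rw [h6, h4]

/-- a generator of a group of prime order -/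
theorem exists_gen {G : Type u} [Group G] [Finite G] {V : Subgroup G} (hVp : (Nat.card V).Prime) :
    ∃ z ∈ V, orderOf z = Nat.card V ∧ V = Subgroup.zpowers z := by
  have := Fact.mk hVp
  obtain ⟨z, hz⟩ := exists_prime_orderOf_dvd_card' (G := V) (Nat.card V) dvd_rfl
  have h1 : orderOf (z : G) = Nat.card V := by rw [Subgroup.orderOf_coe, hz]
  refine ⟨z, z.2, h1, (Subgroup.eq_of_le_of_card_ge ?_ ?_).symm⟩
  · rw [Subgroup.zpowers_le]; exact z.2
  · rw [Nat.card_zpowers, h1]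

/-- the quotient is not the full cover unless the prime is the order of the centre -/
theorem no_full {H : Type v} [Group H] [Finite H] (hH : QS H) (hZ : (Nat.card (Subgroup.center H)).Prime)
    {G : Type u} [Group G] [Finite G] {V : Subgroup G} [V.Normal] (hV : V ≤ Subgroup.center G)
    (hVp : (Nat.card V).Prime) (hne : Nat.card V ≠ Nat.card (Subgroup.center H))
    (hq : ∀ (M : Subgroup G) [M.Normal], M ≠ ⊥ → M ≠ ⊤ → Good (G ⧸ M) H) (e : G ⧸ V ≃* H) : False := by
  obtain ⟨z₀, hz₀, hz₀o, -⟩ := exists_gen hZ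
  set d := Nat.card (Subgroup.center H) with hd
  set r := Nat.card V with hr
  obtain ⟨x, hx⟩ := (e.surjective.comp (QuotientGroup.mk'_surjective V)) z₀
  change e (QuotientGroup.mk' V x) = z₀ at hx
  have hcop : Nat.Coprime r d := (Nat.coprime_primes hVp hZ).2 hne
  -- the element `y = x ^ r`
  have hker : ∀ g : G, QuotientGroup.mk' V g = 1 ↔ g ∈ V := fun g => QuotientGroup.eq_one_iff g
  have hVr : ∀ g ∈ V, g ^ r = 1 := by
    intro g hg
    have := pow_card_eq_one' (x := (⟨g, hg⟩ : V))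
    exact congrArg Subtype.val this
  have hyc : x ^ r ∈ Subgroup.center G := by
    rw [Subgroup.mem_center_iff]
    intro g
    -- `[g, x] ∈ V`
    have h1 : g * x * g⁻¹ * x⁻¹ ∈ V := by
      rw [← hker]
      apply e.injective
      rw [map_mul, map_mul, map_mul, map_inv, map_inv, map_mul, map_mul, map_mul, map_inv, map_inv, hx, map_one,
        Subgroup.mem_center_iff.1 hz₀, mul_inv_cancel_right, mul_inv_cancel]
    set v := g * x * g⁻¹ * x⁻¹ with hv
    have h2 : g * x * g⁻¹ = v * x := by rw [hv]; group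
    have h3 : Commute v x := (Subgroup.mem_center_iff.1 (hV h1) x).symm
    have h4 : g * x ^ r * g⁻¹ = x ^ r := by
      rw [← conj_pow, h2, h3.mul_pow, hVr v h1, one_mul]
    exact mul_inv_eq_iff_eq_mul.1 h4
  have hyd : (x ^ r) ^ d = 1 := by
    have h1 : x ^ d ∈ V := by
      rw [← hker]
      apply e.injective
      rw [map_pow, map_pow, hx, ← hz₀o, pow_orderOf_eq_one, map_one]
    rw [← pow_mul, mul_comm, pow_mul, hVr _ h1]
  have hy1 : x ^ r ≠ 1 := by
    intro h
    have h1 : z₀ ^ r = 1 := by rw [← hx, ← map_pow, ← map_pow, h, map_one, map_one]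
    have h2 := orderOf_dvd_of_pow_eq_one h1
    rw [hz₀o] at h2
    exact hne ((Nat.prime_dvd_prime_iff_eq hZ hVp).1 h2).symm
  have hyo : orderOf (x ^ r) = d := by
    rcases (Nat.dvd_prime hZ).1 (orderOf_dvd_of_pow_eq_one hyd) with h | h
    · exact absurd (orderOf_eq_one_iff.1 h) hy1
    · exact h
  let W := Subgroup.zpowers (x ^ r)
  have hWc : W ≤ Subgroup.center G := by
    rw [Subgroup.zpowers_le]; exact hyc
  have hWn : W.Normal := ⟨fun n hn g => by
    rw [Subgroup.mem_center_iff.1 (hWc hn) g, mul_inv_cancel_right]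
    exact hn⟩
  have hWcard : Nat.card W = d := by rw [Nat.card_zpowers, hyo]
  have hWb : W ≠ ⊥ := by
    intro h
    rw [h, Subgroup.card_bot] at hWcard
    exact hZ.one_lt.ne hWcard
  have hG : Nat.card G = r * (d * (Subgroup.center H).index) := by
    rw [← Subgroup.card_mul_index V, Subgroup.index_eq_card, Nat.card_congr e.toEquiv, hd,
      Subgroup.card_mul_index]
  have hi : 0 < (Subgroup.center H).index := hH.index_pos
  have hi1 : (Subgroup.center H).index ≠ 1 := by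
    intro h
    exact hH.center_ne_top (Subgroup.index_eq_one.1 h)
  have hWt : W ≠ ⊤ := by
    intro h
    have h1 : Nat.card W = Nat.card G := by
      rw [h]; exact Nat.card_congr Subgroup.topEquiv.toEquiv
    rw [hWcard, hG] at h1
    have h2 : d * 1 < d * (r * (Subgroup.center H).index) := by
      refine Nat.mul_lt_mul_of_pos_left ?_ hZ.pos
      have := hVp.two_le
      nlinarith only [hi, this]
    rw [mul_one] at h2
    have h3 : r * (d * (Subgroup.center H).index) = d * (r * (Subgroup.center H).index) := by ring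
    omega
  have hGW : Nat.card (G ⧸ W) * d = Nat.card G := by
    have := Subgroup.card_mul_index W
    rw [hWcard, Subgroup.index_eq_card, mul_comm] at this
    exact this
  have hGW' : Nat.card (G ⧸ W) = r * (Subgroup.center H).index := by
    rw [hG] at hGW
    have : Nat.card (G ⧸ W) * d = (r * (Subgroup.center H).index) * d := by rw [hGW]; ring
    exact Nat.eq_of_mul_eq_mul_right hZ.pos this
  rcases hq W hWb hWt with ⟨⟨f⟩⟩ | ⟨⟨f⟩⟩
  · have h1 : Nat.card (G ⧸ W) = Nat.card H := Nat.card_congr f.toEquiv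
    rw [hGW', ← Subgroup.card_mul_index (Subgroup.center H)] at h1
    exact hne (Nat.eq_of_mul_eq_mul_right hi h1)
  · have h1 : Nat.card (G ⧸ W) = (Subgroup.center H).index := by
      rw [Subgroup.index_eq_card]; exact Nat.card_congr f.toEquiv
    rw [hGW'] at h1
    have h2 : r * (Subgroup.center H).index = 1 * (Subgroup.center H).index := by rw [h1, one_mul]
    exact hVp.one_lt.ne' (Nat.eq_of_mul_eq_mul_right hi h2)

end Cfsg.Agent.H725.CenGen
end

-- part: H725/SimTwo
section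
/-!
# Codegrees of `SL₂(q)`; simple groups with codegrees among them (helper725)

* `cod_two` : the codegrees of `SL₂(q)`;
* `t_cases` : `|L| = t |S|` with `t = 1` or `t = 2`.
-/

set_option autoImplicit false

namespace Cfsg.Agent.H725.SimTwo

open Cfsg Cfsg.Agent.H725.Cod Cfsg.Agent.H725.SLFacts
open Cfsg.Agent.H686.CharKit Cfsg.Agent.H677.CodPrime Cfsg.Agent.H677.CodMultiset

universe u v

/-- the possible quotients `|L| / cod` -/
def Dok (q D : ℕ) : Prop := D = q ∨ ∃ i, (i = 1 ∨ i = 2 ∨ i = 4) ∧ (i * D = q + 1 ∨ i * D = q - 1)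

theorem degrees {F : Type} [Field F] [Fintype F] (h5 : 5 ≤ Fintype.card F)
    {ψ : IrrCharacter (Matrix.SpecialLinearGroup (Fin 2) F)} (hψ : ψ ≠ one _) :
    (charDegree (ψ : Matrix.SpecialLinearGroup (Fin 2) F → ℂ) = Fintype.card F ∨ charDegree (ψ : Matrix.SpecialLinearGroup (Fin 2) F → ℂ) = Fintype.card F + 1 ∨
      charDegree (ψ : Matrix.SpecialLinearGroup (Fin 2) F → ℂ) = Fintype.card F - 1) ∨ (Odd (Fintype.card F) ∧
      (2 * charDegree (ψ : Matrix.SpecialLinearGroup (Fin 2) F → ℂ) = Fintype.card F + 1 ∨ 2 * charDegree (ψ : Matrix.SpecialLinearGroup (Fin 2) F → ℂ) = Fintype.card F - 1)) := by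
  have hne := degree_ne_one (qs_two (F := F) (by omega)).perf hψ
  have hirr := charDegree_irr ψ
  rcases Nat.even_or_odd (Fintype.card F) with he | ho
  · have h2 : ringChar F = 2 := FiniteField.even_card_iff_char_two.2 (Nat.even_iff.1 he)
    have : CharP F 2 := by rw [← h2]; infer_instance
    have h3 := (S2300.result (F := F)).1 ψ ψ.2
    rw [← hirr] at h3
    left
    rcases h3 with h | h | h | h
    · exact absurd (by exact_mod_cast h) hne
    · right; right
      have h4 : ((charDegree (ψ : Matrix.SpecialLinearGroup (Fin 2) F → ℂ) + 1 : ℕ) : ℂ) = (Fintype.card F : ℕ) := by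
        push_cast; rw [h]; ring
      have := Nat.cast_injective h4
      omega
    · left; exact_mod_cast h
    · right; left; exact_mod_cast h
  · have h3 := (S2299.result ho).1 ψ ψ.2
    rw [← hirr] at h3
    have ho' := ho
    obtain ⟨k, hk⟩ := ho
    rcases h3 with h | h | h | h | h | h
    · exact absurd (by exact_mod_cast h) hne
    · left; left; exact_mod_cast h
    · left; right; left; exact_mod_cast h
    · left; right; right
      have h4 : ((charDegree (ψ : Matrix.SpecialLinearGroup (Fin 2) F → ℂ) + 1 : ℕ) : ℂ) = (Fintype.card F : ℕ) := by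
        push_cast; rw [h]; ring
      have := Nat.cast_injective h4
      omega
    · right
      have := Nat.cast_injective h
      exact ⟨ho', Or.inl (by omega)⟩
    · right
      have := Nat.cast_injective h
      exact ⟨ho', Or.inr (by omega)⟩

theorem cod_two {F : Type} [Field F] [Fintype F] (h5 : 5 ≤ Fintype.card F)
    {ψ : IrrCharacter (Matrix.SpecialLinearGroup (Fin 2) F)} (hψ : ψ ≠ one _) :
    ∃ D, cod ψ * D = (Subgroup.center (Matrix.SpecialLinearGroup (Fin 2) F)).index ∧ Dok (Fintype.card F) D := by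
  have hQ := qs_two (F := F) (by omega)
  have h1 := cod_mul_index ψ
  have h2 := degrees h5 hψ
  have key : chKer ψ = Subgroup.center _ → ∃ D, cod ψ * D =
      (Subgroup.center (Matrix.SpecialLinearGroup (Fin 2) F)).index ∧ Dok (Fintype.card F) D := by
    intro hk
    rw [hk] at h1
    refine ⟨_, h1, ?_⟩
    rcases h2 with (h | h | h) | ⟨-, h | h⟩
    · exact Or.inl h
    · exact Or.inr ⟨1, Or.inl rfl, Or.inl (by rw [one_mul, h])⟩
    · exact Or.inr ⟨1, Or.inl rfl, Or.inr (by rw [one_mul, h])⟩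
    · exact Or.inr ⟨2, Or.inr (Or.inl rfl), Or.inl h⟩
    · exact Or.inr ⟨2, Or.inr (Or.inl rfl), Or.inr h⟩
  rcases hQ.ker hψ with hk | hk
  swap
  · exact key hk
  rcases hQ.zp with hz | hz
  · exact key (by rw [hk, (Subgroup.card_eq_one.1 hz)])
  · -- `|Z| = 2`
    have hc := card_center (F := F) (n := 2) (by norm_num)
    have hz2 : Nat.card (Subgroup.center (Matrix.SpecialLinearGroup (Fin 2) F)) = 2 := by
      rw [hc] at hz ⊢
      exact (Nat.prime_dvd_prime_iff_eq hz Nat.prime_two).1 (Nat.gcd_dvd_left _ _)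
    obtain ⟨z, hz1⟩ : ∃ z : Subgroup.center (Matrix.SpecialLinearGroup (Fin 2) F), orderOf z = 2 := by
      have := Fact.mk Nat.prime_two
      exact exists_prime_orderOf_dvd_card' 2 (by rw [hz2])
    have h3 := orderOf_dvd hQ.perf hk z.2
    rw [Subgroup.orderOf_coe, hz1] at h3
    obtain ⟨D, hD⟩ := h3
    have h4 := hQ.card_mul
    rw [hk, Subgroup.index_bot, ← h4, hz2, hD] at h1
    refine ⟨D, by
      have : 2 * (cod ψ * D) = 2 * (Subgroup.center (Matrix.SpecialLinearGroup (Fin 2) F)).index := by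
        rw [← h1]; ring
      omega, ?_⟩
    rw [hD] at h2
    have hodd : Fintype.card F % 2 = 1 := by
      rw [hc] at hz2
      have : 2 ∣ Fintype.card F - 1 := by rw [← hz2]; exact Nat.gcd_dvd_right _ _
      omega
    rcases h2 with (h | h | h) | ⟨-, h | h⟩
    · omega
    · exact Or.inr ⟨2, Or.inr (Or.inl rfl), Or.inl h⟩
    · exact Or.inr ⟨2, Or.inr (Or.inl rfl), Or.inr h⟩
    · exact Or.inr ⟨4, Or.inr (Or.inr rfl), Or.inl (by omega)⟩
    · exact Or.inr ⟨4, Or.inr (Or.inr rfl), Or.inr (by omega)⟩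

/-- The quotient of the orders is one or two. -/
theorem t_cases {S : Type u} [Group S] [Finite S] [IsSimpleGroup S] (hperf : commutator S = ⊤) {q t p f : ℕ}
    (hq5 : 5 ≤ q) (hp : p.Prime) (hqp : q = p ^ f)
    (h : ∀ χ : IrrCharacter S, χ ≠ one S → Dok q (t * charDegree (χ : S → ℂ))) : t = 1 ∨ (t = 2 ∧ Odd q) := by
  have hne : ∀ χ : IrrCharacter S, χ ≠ one S → charDegree (χ : S → ℂ) ≠ 1 := fun χ hχ => degree_ne_one hperf hχ
  have hdvd : ∀ χ : IrrCharacter S, charDegree (χ : S → ℂ) ∣ Nat.card S := charDegree_dvd_card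
  have hpos : ∀ χ : IrrCharacter S, 0 < charDegree (χ : S → ℂ) := charDegree_pos
  have hf : f ≠ 0 := by rintro rfl; rw [pow_zero] at hqp; omega
  have hpq : p ∣ q := by rw [hqp]; exact dvd_pow_self p hf
  by_cases h1 : ∃ χ : IrrCharacter S, χ ≠ one S ∧ t * charDegree (χ : S → ℂ) = q
  · obtain ⟨χ, hχ, h2⟩ := h1
    by_cases ht : t = 1
    · exact Or.inl ht
    exfalso
    have h3 : t ∣ p ^ f := by rw [← hqp, ← h2]; exact dvd_mul_right _ _
    obtain ⟨k, -, hk⟩ := (Nat.dvd_prime_pow hp).1 h3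
    have hk0 : k ≠ 0 := by rintro rfl; exact ht (by rw [hk, pow_zero])
    have hpt : p ∣ t := by rw [hk]; exact dvd_pow_self p hk0
    have hall : ∀ χ' : IrrCharacter S, χ' ≠ one S → charDegree (χ' : S → ℂ) = charDegree (χ : S → ℂ) := by
      intro χ' hχ'
      rcases h χ' hχ' with h4 | ⟨i, -, h4⟩
      · rw [← h2] at h4
        exact Nat.eq_of_mul_eq_mul_left (by rw [hk]; exact Nat.pow_pos hp.pos) h4
      · exfalso
        have h5 : p ∣ i * (t * charDegree (χ' : S → ℂ)) := (hpt.mul_right _).mul_left _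
        rcases h4 with h4 | h4
        · rw [h4] at h5
          exact hp.one_lt.ne' (Nat.dvd_one.1 ((Nat.dvd_add_right hpq).1 h5))
        · rw [h4] at h5
          have h6 := Nat.dvd_sub hpq h5
          rw [Nat.sub_sub_self (by omega)] at h6
          exact hp.one_lt.ne' (Nat.dvd_one.1 h6)
    obtain ⟨r, hr, hrd⟩ := Nat.exists_prime_and_dvd (hne χ hχ)
    obtain ⟨χ', hχ', h5⟩ := exists_not_dvd (G := S) hr (hrd.trans (hdvd χ))
    exact h5 (by rw [hall χ' hχ']; exact hrd)
  · push Not at h1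
    have h2 : ∀ χ : IrrCharacter S, χ ≠ one S → ∃ i, (i = 1 ∨ i = 2 ∨ i = 4) ∧
        (i * (t * charDegree (χ : S → ℂ)) = q + 1 ∨ i * (t * charDegree (χ : S → ℂ)) = q - 1) := by
      intro χ hχ
      exact (h χ hχ).resolve_left (h1 χ hχ)
    -- one sign only is impossible
    have key : ∀ N : ℕ, 0 < N → (∀ χ : IrrCharacter S, χ ≠ one S → ∃ i, (i = 1 ∨ i = 2 ∨ i = 4) ∧
        i * (t * charDegree (χ : S → ℂ)) = N) → False := by
      intro N hN h3
      have h4 : ∀ χ : IrrCharacter S, χ ≠ one S → ∃ i, (i = 1 ∨ i = 2 ∨ i = 4) ∧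
          i * charDegree (χ : S → ℂ) = N / t := by
        intro χ hχ
        obtain ⟨i, hi, h5⟩ := h3 χ hχ
        refine ⟨i, hi, ?_⟩
        have ht : 0 < t := by
          rcases Nat.eq_zero_or_pos t with h | h
          · rw [h] at h5; omega
          · exact h
        rw [← h5, show i * (t * charDegree (χ : S → ℂ)) = t * (i * charDegree (χ : S → ℂ)) by ring,
          Nat.mul_div_cancel_left _ ht]
      have h5 : ∀ r : ℕ, r.Prime → r ≠ 2 → ∀ χ : IrrCharacter S, χ ≠ one S → ¬ r ∣ charDegree (χ : S → ℂ) := by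
        intro r hr hr2 χ hχ hd
        obtain ⟨χ', hχ', h6⟩ := exists_not_dvd (G := S) hr (hd.trans (hdvd χ))
        obtain ⟨i, hi, h7⟩ := h4 χ hχ
        obtain ⟨j, hj, h8⟩ := h4 χ' hχ'
        have h9 : r ∣ j * charDegree (χ' : S → ℂ) := by
          rw [h8, ← h7]; exact hd.mul_left _
        rcases hr.dvd_mul.1 h9 with h10 | h10
        · have h11 : r ∣ 2 ^ 2 := by
            rcases hj with rfl | rfl | rfl
            · exact absurd (Nat.dvd_one.1 h10) hr.one_lt.ne'
            · exact h10.trans (by norm_num)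
            · exact h10
          exact hr2 ((Nat.prime_dvd_prime_iff_eq hr Nat.prime_two).1 (hr.dvd_of_dvd_pow h11))
        · exact h6 h10
      have h6 : ∀ χ : IrrCharacter S, χ ≠ one S → 2 ∣ charDegree (χ : S → ℂ) := by
        intro χ hχ
        obtain ⟨r, hr, hrd⟩ := Nat.exists_prime_and_dvd (hne χ hχ)
        by_cases hr2 : r = 2
        · rwa [hr2] at hrd
        · exact absurd hrd (h5 r hr hr2 χ hχ)
      -- there is a nonprincipal character
      obtain ⟨r, hr, hrd⟩ := Nat.exists_prime_and_dvd (Finite.one_lt_card (α := S)).ne'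
      obtain ⟨χ, hχ, -⟩ := exists_not_dvd (G := S) hr hrd
      obtain ⟨χ', hχ', h7⟩ := exists_not_dvd (G := S) Nat.prime_two ((h6 χ hχ).trans (hdvd χ))
      exact h7 (h6 χ' hχ')
    by_cases hpl : ∃ χ : IrrCharacter S, χ ≠ one S ∧ ∃ i, i * (t * charDegree (χ : S → ℂ)) = q + 1
    · by_cases hmi : ∃ χ : IrrCharacter S, χ ≠ one S ∧ ∃ i, i * (t * charDegree (χ : S → ℂ)) = q - 1
      · obtain ⟨χ, -, i, h3⟩ := hpl
        obtain ⟨χ', -, j, h4⟩ := hmi
        have h5 : t ∣ q + 1 := ⟨i * charDegree (χ : S → ℂ), by rw [← h3]; ring⟩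
        have h6 : t ∣ q - 1 := ⟨j * charDegree (χ' : S → ℂ), by rw [← h4]; ring⟩
        have h7 := Nat.dvd_sub h5 h6
        rw [show q + 1 - (q - 1) = 2 by omega] at h7
        rcases (Nat.dvd_prime Nat.prime_two).1 h7 with h8 | h8
        · exact Or.inl h8
        · refine Or.inr ⟨h8, ?_⟩
          rw [h8] at h5
          rw [Nat.odd_iff]
          omega
      · exfalso
        push Not at hmi
        refine key (q + 1) (by omega) fun χ hχ => ?_
        obtain ⟨i, hi, h3⟩ := h2 χ hχ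
        exact ⟨i, hi, h3.resolve_right (hmi χ hχ i)⟩
    · exfalso
      push Not at hpl
      refine key (q - 1) (by omega) fun χ hχ => ?_
      obtain ⟨i, hi, h3⟩ := h2 χ hχ
      exact ⟨i, hi, h3.resolve_left (hpl χ hχ i)⟩

/-- The order of a simple group with codegrees among those of `SL₂(q)`. -/
theorem order_two {F : Type} [Field F] [Fintype F] (h5 : 5 ≤ Fintype.card F) {S : Type u} [Group S] [Finite S]
    [IsSimpleGroup S] (hS : Sub S (Matrix.SpecialLinearGroup (Fin 2) F)) :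
    (Nat.card S = (Subgroup.center (Matrix.SpecialLinearGroup (Fin 2) F)).index ∨
      4 * Nat.card S = Fintype.card F * (Fintype.card F ^ 2 - 1) ∧ Odd (Fintype.card F)) ∧
    ∀ χ : IrrCharacter S, χ ≠ one S → ∃ t, Nat.card S * t =
      (Subgroup.center (Matrix.SpecialLinearGroup (Fin 2) F)).index ∧ Dok (Fintype.card F)
        (t * charDegree (χ : S → ℂ)) := by
  have hQ := qs_two (F := F) (by omega)
  obtain ⟨t, ht⟩ := hS.card_dvd hQ
  obtain ⟨p, f, hp, hf, hF⟩ := exists_pp F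
  have h1 : ∀ χ : IrrCharacter S, χ ≠ one S → Dok (Fintype.card F) (t * charDegree (χ : S → ℂ)) := by
    intro χ hχ
    obtain ⟨ψ, hψ⟩ := hS χ
    have hψ1 : ψ ≠ one _ := by
      rintro rfl
      rw [cod_one] at hψ
      exact hχ (cod_eq_one_iff.1 hψ)
    obtain ⟨D, hD, hok⟩ := cod_two h5 hψ1
    rw [← hψ, ht, ← cod_mul hχ, mul_assoc] at hD
    have h2 := Nat.eq_of_mul_eq_mul_left (cod_pos χ) hD
    rw [mul_comm t, ← h2]
    exact hok
  refine ⟨?_, fun χ hχ => ⟨t, ht.symm, h1 χ hχ⟩⟩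
  rcases t_cases (hS.perfect hQ.perf) h5 hp hF h1 with rfl | ⟨rfl, hodd⟩
  · left; rw [ht, mul_one]
  · right
    refine ⟨?_, hodd⟩
    have h2 := index_two (F := F)
    have h3 : Nat.gcd 2 (Fintype.card F - 1) = 2 := by
      apply Nat.gcd_eq_left
      obtain ⟨k, hk⟩ := hodd
      omega
    rw [h3, ht] at h2
    omega

end Cfsg.Agent.H725.SimTwo
end

-- part: H725/ThreeBasic
section
/-!
# Codegrees of `SL₃(q)`; simple groups with codegrees among them: basic facts (helper725)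
-/

set_option autoImplicit false

namespace Cfsg.Agent.H725.SimThree

open Cfsg Cfsg.Agent.H725.Cod Cfsg.Agent.H725.SLFacts
open Cfsg.Agent.H686.CharKit Cfsg.Agent.H677.CodPrime Cfsg.Agent.H677.CodMultiset

universe u v

/-- the `p`-part of `|SL₃(q)|` -/
theorem fact_three {F : Type} [Field F] [Fintype F] {p f : ℕ} (hp : p.Prime) (hf : 1 ≤ f)
    (hF : Fintype.card F = p ^ f) :
    p ^ (Nat.card (Matrix.SpecialLinearGroup (Fin 3) F)).factorization p = (p ^ f) ^ 3 := by
  have h1 : ¬ p ∣ ((p ^ f) ^ 2 - 1) * ((p ^ f) ^ 3 - 1) := by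
    rw [hp.dvd_mul]
    have hpf : p ∣ p ^ f := dvd_pow_self p (by omega)
    have hpos : 0 < p ^ f := Nat.pow_pos hp.pos
    rintro (h | h)
    · have h2 : p ∣ (p ^ f) ^ 2 := dvd_pow hpf two_ne_zero
      have h3 := Nat.dvd_sub h2 h
      rw [Nat.sub_sub_self (Nat.pow_pos hpos)] at h3
      exact hp.one_lt.ne' (Nat.dvd_one.1 h3)
    · have h2 : p ∣ (p ^ f) ^ 3 := dvd_pow hpf three_ne_zero
      have h3 := Nat.dvd_sub h2 h
      rw [Nat.sub_sub_self (Nat.pow_pos hpos)] at h3
      exact hp.one_lt.ne' (Nat.dvd_one.1 h3)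
  rw [card_three, hF, mul_assoc]
  have h2 := H902.Art.P_pow_self (k := f * 3) hp h1
  rw [pow_mul] at h2
  exact h2

/-- the codegrees of `SL₃(q)` -/
theorem cod_three {F : Type} [Field F] [Fintype F] {p f : ℕ} (hp : p.Prime) (hf : 1 ≤ f)
    (hF : Fintype.card F = p ^ f) {ψ : IrrCharacter (Matrix.SpecialLinearGroup (Fin 3) F)} (hψ : ψ ≠ one _) :
    ∃ D, cod ψ * D = (Subgroup.center (Matrix.SpecialLinearGroup (Fin 3) F)).index ∧
      (D = charDegree (ψ : Matrix.SpecialLinearGroup (Fin 3) F → ℂ) ∧ chKer ψ = Subgroup.center _ ∨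
        3 * D = charDegree (ψ : Matrix.SpecialLinearGroup (Fin 3) F → ℂ) ∧ chKer ψ = ⊥ ∧
        Nat.card (Subgroup.center (Matrix.SpecialLinearGroup (Fin 3) F)) = 3) ∧
      (¬ p ∣ cod ψ → D = (p ^ f) ^ 3) := by
  have hQ := qs_three (F := F)
  have h1 := cod_mul_index ψ
  have hcp : 0 < cod ψ := cod_pos ψ
  -- the Steinberg character
  have hst : ¬ p ∣ cod ψ → charDegree (ψ : Matrix.SpecialLinearGroup (Fin 3) F → ℂ) = (p ^ f) ^ 3 ∧
      chKer ψ = Subgroup.center _ := by
    intro hnd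
    have := charP_of hp hf hF
    have hpf := Fact.mk hp
    obtain ⟨M, hM⟩ := Blocks.ExistsModular.exists_isPModular hp
    obtain ⟨χ, hχ1, hχ2, hχ3⟩ := H615.SLSteinberg.exists_steinberg (F := F) (n := 3) (by norm_num) p
    have hpZ := H615.SLSteinberg.not_dvd_card_center (F := F) (n := 3) (by norm_num) p
    have hle : chKer ψ ≤ Subgroup.center _ := by
      rcases hQ.ker hψ with h | h
      · rw [h]; exact bot_le
      · rw [h]
    have hk : ¬ p ∣ Nat.card (Matrix.SpecialLinearGroup (Fin 3) F) /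
        charDegree (ψ : Matrix.SpecialLinearGroup (Fin 3) F → ℂ) := by
      rw [← cod_mul' ψ, ← mul_assoc, Nat.mul_div_cancel _ (charDegree_pos ψ), hp.dvd_mul]
      rintro (h | h)
      · exact hnd h
      · exact hpZ (h.trans (Subgroup.card_dvd_of_le hle))
    have he := H615.SLSteinberg.defect_zero_unique p M hM ψ χ hk hχ2
    subst he
    refine ⟨?_, ?_⟩
    · have h5 := charDegree_irr ψ
      rw [hχ1, fact_three hp hf hF] at h5
      exact_mod_cast h5
    · refine le_antisymm hle fun z hz => ?_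
      rw [mem_chKer]
      have := hχ3 z hz 1
      rwa [mul_one] at this
  have hdone : chKer ψ = Subgroup.center _ → ∃ D, cod ψ * D =
      (Subgroup.center (Matrix.SpecialLinearGroup (Fin 3) F)).index ∧
      (D = charDegree (ψ : Matrix.SpecialLinearGroup (Fin 3) F → ℂ) ∧ chKer ψ = Subgroup.center _ ∨
        3 * D = charDegree (ψ : Matrix.SpecialLinearGroup (Fin 3) F → ℂ) ∧ chKer ψ = ⊥ ∧
        Nat.card (Subgroup.center (Matrix.SpecialLinearGroup (Fin 3) F)) = 3) ∧
      (¬ p ∣ cod ψ → D = (p ^ f) ^ 3) := by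
    intro hk
    refine ⟨_, ?_, Or.inl ⟨rfl, hk⟩, fun h => (hst h).1⟩
    rw [hk] at h1
    exact h1
  rcases hQ.ker hψ with hk | hk
  swap
  · exact hdone hk
  rcases hQ.zp with hz | hz
  · exact hdone (by rw [hk, (Subgroup.card_eq_one.1 hz)])
  · have hc := card_center (F := F) (n := 3) (by norm_num)
    have hz2 : Nat.card (Subgroup.center (Matrix.SpecialLinearGroup (Fin 3) F)) = 3 := by
      rw [hc] at hz ⊢
      exact (Nat.prime_dvd_prime_iff_eq hz Nat.prime_three).1 (Nat.gcd_dvd_left _ _)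
    obtain ⟨z, hz1⟩ : ∃ z : Subgroup.center (Matrix.SpecialLinearGroup (Fin 3) F), orderOf z = 3 := by
      have := Fact.mk Nat.prime_three
      exact exists_prime_orderOf_dvd_card' 3 (by rw [hz2])
    have h3 := orderOf_dvd hQ.perf hk z.2
    rw [Subgroup.orderOf_coe, hz1] at h3
    obtain ⟨D, hD⟩ := h3
    have h4 := hQ.card_mul
    rw [hk, Subgroup.index_bot, ← h4, hz2, hD] at h1
    refine ⟨D, by
      have : 3 * (cod ψ * D) = 3 * (Subgroup.center (Matrix.SpecialLinearGroup (Fin 3) F)).index := by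
        rw [← h1]; ring
      omega, Or.inr ⟨hD.symm, hk, hz2⟩, fun h => ?_⟩
    exfalso
    have h5 := (hst h).2
    rw [hk] at h5
    rw [← h5, Subgroup.card_bot] at hz2
    omega

/-- the numerical data of a simple group with codegrees among those of `SL₃(q)` -/
theorem data_three {F : Type} [Field F] [Fintype F] {p f : ℕ} (hp : p.Prime) (hf : 1 ≤ f)
    (hF : Fintype.card F = p ^ f) {S : Type u} [Group S] [Finite S]
    [IsSimpleGroup S] (hS : Sub S (Matrix.SpecialLinearGroup (Fin 3) F)) :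
    ∃ t, Nat.card S * t = (Subgroup.center (Matrix.SpecialLinearGroup (Fin 3) F)).index ∧
      p ∣ Nat.card S ∧ (∀ χ : IrrCharacter S, χ ≠ one S → t * charDegree (χ : S → ℂ) ^ 2 < Nat.card S) ∧
      (∀ χ : IrrCharacter S, χ ≠ one S → ¬ p ∣ cod χ → t * charDegree (χ : S → ℂ) = (p ^ f) ^ 3) ∧
      (∀ χ : IrrCharacter S, χ ≠ one S → ∃ ψ : IrrCharacter (Matrix.SpecialLinearGroup (Fin 3) F), ψ ≠ one _ ∧
        (t * charDegree (χ : S → ℂ) = charDegree (ψ : Matrix.SpecialLinearGroup (Fin 3) F → ℂ) ∧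
          chKer ψ = Subgroup.center _ ∨
        3 * (t * charDegree (χ : S → ℂ)) = charDegree (ψ : Matrix.SpecialLinearGroup (Fin 3) F → ℂ) ∧ chKer ψ = ⊥ ∧
        Nat.card (Subgroup.center (Matrix.SpecialLinearGroup (Fin 3) F)) = 3)) := by
  have hQ := qs_three (F := F)
  obtain ⟨t, ht⟩ := hS.card_dvd hQ
  have ht0 : 0 < t := by
    rcases Nat.eq_zero_or_pos t with h | h
    · rw [h, mul_zero] at ht
      exact absurd ht hQ.index_pos.ne'
    · exact h
  have hkey : ∀ χ : IrrCharacter S, χ ≠ one S → ∃ ψ : IrrCharacter (Matrix.SpecialLinearGroup (Fin 3) F), ψ ≠ one _ ∧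
        (t * charDegree (χ : S → ℂ) = charDegree (ψ : Matrix.SpecialLinearGroup (Fin 3) F → ℂ) ∧
          chKer ψ = Subgroup.center _ ∨
        3 * (t * charDegree (χ : S → ℂ)) = charDegree (ψ : Matrix.SpecialLinearGroup (Fin 3) F → ℂ) ∧ chKer ψ = ⊥ ∧
        Nat.card (Subgroup.center (Matrix.SpecialLinearGroup (Fin 3) F)) = 3) ∧
        (¬ p ∣ cod χ → t * charDegree (χ : S → ℂ) = (p ^ f) ^ 3) := by
    intro χ hχ
    obtain ⟨ψ, hψ⟩ := hS χ
    have hψ1 : ψ ≠ one _ := by
      rintro rfl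
      rw [cod_one] at hψ
      exact hχ (cod_eq_one_iff.1 hψ)
    obtain ⟨D, hD, h1, h2⟩ := cod_three hp hf hF hψ1
    rw [← hψ, ht, ← cod_mul hχ, mul_assoc] at hD
    have h3 := Nat.eq_of_mul_eq_mul_left (cod_pos χ) hD
    rw [mul_comm] at h3
    rw [h3] at h1 h2
    rw [← hψ] at h2
    exact ⟨ψ, hψ1, h1, h2⟩
  refine ⟨t, ht.symm, ?_, ?_, fun χ hχ => (hkey χ hχ).elim fun ψ h => h.2.2, fun χ hχ => ?_⟩
  · by_contra hnp
    have hall : ∀ χ : IrrCharacter S, χ ≠ one S → t * charDegree (χ : S → ℂ) = (p ^ f) ^ 3 := by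
      intro χ hχ
      obtain ⟨ψ, -, -, h⟩ := hkey χ hχ
      exact h fun h' => hnp (h'.trans (cod_dvd_card χ))
    obtain ⟨r, hr, hrd⟩ := Nat.exists_prime_and_dvd (Finite.one_lt_card (α := S)).ne'
    obtain ⟨χ, hχ, -⟩ := exists_not_dvd (G := S) hr hrd
    have hne := degree_ne_one (hS.perfect hQ.perf) hχ
    obtain ⟨s, hs, hsd⟩ := Nat.exists_prime_and_dvd hne
    obtain ⟨χ', hχ', h5⟩ := exists_not_dvd (G := S) hs (hsd.trans (charDegree_dvd_card χ))
    have h6 := (hall χ hχ).trans (hall χ' hχ').symm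
    exact h5 (by rw [← Nat.eq_of_mul_eq_mul_left ht0 h6]; exact hsd)
  · intro χ hχ
    have h1 := hS.index_lt hQ hχ
    rw [ht] at h1
    have h2 := cod_mul hχ
    have h3 : 0 < charDegree (χ : S → ℂ) := charDegree_pos χ
    have h4 : Nat.card S * t * charDegree (χ : S → ℂ) ^ 2 < cod χ ^ 2 * charDegree (χ : S → ℂ) ^ 2 :=
      Nat.mul_lt_mul_of_pos_right h1 (Nat.pow_pos h3)
    have h5 : cod χ ^ 2 * charDegree (χ : S → ℂ) ^ 2 = Nat.card S * Nat.card S := by
      rw [← mul_pow, h2, pow_two]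
    rw [h5, mul_assoc] at h4
    exact Nat.lt_of_mul_lt_mul_left h4
  · obtain ⟨ψ, h1, h2, -⟩ := hkey χ hχ
    exact ⟨ψ, h1, h2⟩

/-- class number bound -/
theorem t_bound {S : Type u} [Group S] [Finite S] {t m : ℕ}
    (h : ∀ χ : IrrCharacter S, χ ≠ one S → t * charDegree (χ : S → ℂ) ^ 2 ≤ m) :
    t * (Nat.card S - 1) ≤ (Nat.card (ConjClasses S) - 1) * m := by
  classical
  have := Characters.Core.finite_irr (G := S)
  let _ := Fintype.ofFinite (IrrCharacter S)
  have h1 := sum_sq_ne (G := S)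
  rw [← Characters.Core.card_irr, Nat.card_eq_fintype_card (α := IrrCharacter S), ← h1, Nat.add_sub_cancel,
    Finset.mul_sum]
  refine (Finset.sum_le_card_nsmul _ _ m fun χ hχ => h χ (Finset.ne_of_mem_erase hχ)).trans ?_
  rw [Finset.card_erase_of_mem (Finset.mem_univ _), Finset.card_univ, smul_eq_mul]

theorem t_lt {S : Type u} [Group S] [Finite S] [Nontrivial S] {t : ℕ}
    (h : ∀ χ : IrrCharacter S, χ ≠ one S → t * charDegree (χ : S → ℂ) ^ 2 < Nat.card S) :
    t < Nat.card (ConjClasses S) := by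
  have h1 := t_bound (t := t) (m := Nat.card S - 1) fun χ hχ => by have := h χ hχ; omega
  have h2 : 1 < Nat.card S := Finite.one_lt_card
  have h3 := Nat.le_of_mul_le_mul_right h1 (by omega)
  have h4 : 0 < Nat.card (ConjClasses S) := Nat.card_pos
  omega

end Cfsg.Agent.H725.SimThree
end

-- part: H725/CenSmall
section
/-!
# The central case for `SL₂(9)` and `SL₃(2)` (helper725)
-/

set_option autoImplicit false

namespace Cfsg.Agent.H725.CenGen

open Cfsg Cfsg.Agent.H725.Cod Cfsg.Agent.H725.Lam Cfsg.Agent.H725.SLFacts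
open Cfsg.Agent.H686.CharKit Cfsg.Agent.H677.CodPrime Cfsg.Agent.H677.CodMultiset
open Finset ComplexConjugate

universe u v

/-- the faithful characters -/
theorem faithful_data {H : Type v} [Group H] [Finite H] (hH : QS H) {G : Type u} [Group G] [Finite G]
    (hperf : commutator G = ⊤) (hG : Sub G H) {V : Subgroup G} [V.Normal]
    (hV : V ≤ Subgroup.center G) (hVp : (Nat.card V).Prime) (e : G ⧸ V ≃* H ⧸ Subgroup.center H) {z : G}
    (hz : z ∈ V) {c : ℂ} (hc1 : c ≠ 1) [Fintype (IrrCharacter G)] {χ : IrrCharacter G} (hχ : χ ∈ Lam z c) :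
    chKer χ = ⊥ ∧ ∃ ψ : IrrCharacter H, ψ ≠ one H ∧ cod χ = cod ψ ∧ ∀ D, cod ψ * D = (Subgroup.center H).index →
      charDegree (χ : G → ℂ) = Nat.card V * D := by
  have hs : IsSimpleGroup (H ⧸ Subgroup.center H) := hH.simple
  have hs' : IsSimpleGroup (G ⧸ V) := by
    have : Nontrivial (G ⧸ V) := e.toEquiv.nontrivial
    exact IsSimpleGroup.isSimpleGroup_of_surjective e.symm.toMonoidHom e.symm.surjective
  have h1 : (χ : G → ℂ) z ≠ (χ : G → ℂ) 1 := by
    rw [mem_Lam.1 hχ]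
    intro h
    exact hc1 (mul_right_cancel₀ (deg_ne χ) (by rw [one_mul]; exact h))
  have hk := chKer_bot hperf hV hVp hz h1
  refine ⟨hk, ?_⟩
  obtain ⟨ψ, hψ⟩ := hG χ
  have hne : ψ ≠ one H := by
    rintro rfl
    rw [cod_one] at hψ
    have := cod_eq_one_iff.1 hψ
    subst this
    exact h1 rfl
  refine ⟨ψ, hne, hψ, fun D hD => ?_⟩
  have h2 := cod_mul_index χ
  rw [hk, Subgroup.index_bot] at h2
  have h3 : Nat.card G = Nat.card V * (Subgroup.center H).index := by
    rw [← Subgroup.card_mul_index V, Subgroup.index_eq_card, Nat.card_congr e.toEquiv, ← Subgroup.index_eq_card]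
  rw [h3, ← hD, hψ] at h2
  have h4 : cod ψ * charDegree (χ : G → ℂ) = cod ψ * (Nat.card V * D) := by rw [h2]; ring
  exact Nat.eq_of_mul_eq_mul_left (cod_pos ψ) h4

theorem card_eq_mul {H : Type v} [Group H] [Finite H] {G : Type u} [Group G] [Finite G]
    {V : Subgroup G} [V.Normal] (e : G ⧸ V ≃* H ⧸ Subgroup.center H) :
    Nat.card G = Nat.card V * (Subgroup.center H).index := by
  rw [← Subgroup.card_mul_index V, Subgroup.index_eq_card, Nat.card_congr e.toEquiv, ← Subgroup.index_eq_card]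

/-- `SL₃(2)` -/
theorem three_two {F : Type} [Field F] [Fintype F] (hF : Fintype.card F = 2) {G : Type u} [Group G] [Finite G]
    (hperf : commutator G = ⊤) (hG : Sub G (Matrix.SpecialLinearGroup (Fin 3) F)) {V : Subgroup G} [V.Normal]
    (hV : V ≤ Subgroup.center G) (hV2 : Nat.card V = 2)
    (e : G ⧸ V ≃* Matrix.SpecialLinearGroup (Fin 3) F ⧸ Subgroup.center (Matrix.SpecialLinearGroup (Fin 3) F)) :
    False := by
  classical
  have := Characters.Core.finite_irr (G := G)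
  let _ := Fintype.ofFinite (IrrCharacter G)
  have hQ := qs_three (F := F)
  have hVp : (Nat.card V).Prime := by rw [hV2]; exact Nat.prime_two
  have hidx : (Subgroup.center (Matrix.SpecialLinearGroup (Fin 3) F)).index = 168 := by
    have := index_three (F := F)
    rw [hF] at this
    norm_num at this
    exact this
  have hZ : Nat.card (Subgroup.center (Matrix.SpecialLinearGroup (Fin 3) F)) = 1 := by
    rw [card_center (by norm_num), hF]; norm_num
  obtain ⟨z, hzV, hzo, -⟩ := exists_gen hVp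
  rw [hV2] at hzo
  have hsum := sum_sq_Lam (hV hzV) hzo (c := -1) (by norm_num)
  rw [card_eq_mul e, hV2, hidx] at hsum
  have hsimp : IsSimpleGroup (Matrix.SpecialLinearGroup (Fin 3) F ⧸
    Subgroup.center (Matrix.SpecialLinearGroup (Fin 3) F)) := hQ.simple
  have hdeg : ∀ χ ∈ Lam z (-1), charDegree (χ : G → ℂ) = 6 ∨ charDegree (χ : G → ℂ) = 8 ∨
      charDegree (χ : G → ℂ) = 12 := by
    intro χ hχ
    obtain ⟨hk, ψ, hψ1, hcod, h1⟩ := faithful_data hQ hperf hG hV hVp e hzV (c := -1) (by norm_num) hχ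
    obtain ⟨D, hD, h2, -⟩ := SimThree.cod_three (p := 2) (f := 1) Nat.prime_two le_rfl (by rw [hF]; norm_num) hψ1
    have h3 := h1 D hD
    rw [hV2] at h3
    have h4 : charDegree (χ : G → ℂ) ^ 2 ≤ 168 := by
      have h5 : charDegree (χ : G → ℂ) ^ 2 ≤ ∑ χ ∈ Lam z (-1), charDegree (χ : G → ℂ) ^ 2 :=
        single_le_sum (f := fun χ : IrrCharacter G => charDegree (χ : G → ℂ) ^ 2) (fun _ _ => Nat.zero_le _) hχ
      omega
    have h5 : 3 ≤ D := by
      rcases h2 with ⟨h2, h6⟩ | ⟨-, -, h6⟩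
      · obtain ⟨ψ', hψ'⟩ := exists_infl (Subgroup.center (Matrix.SpecialLinearGroup (Fin 3) F)) ψ h6.ge
        have h7 : ψ' ≠ one _ := by
          rintro rfl
          apply hψ1
          rw [← hψ']
          apply Subtype.ext
          funext g
          rfl
        have h8 := H677.PslThree.charDegree_ge (F := F) (MulEquiv.refl _) ψ' h7
        rw [← charDegree_infl, hψ', ← h2, Nat.card_eq_fintype_card, hF] at h8
        exact h8
      · omega
    have h6 : D ∣ 168 := ⟨cod ψ, by rw [← hidx, ← hD]; ring⟩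
    have h7 : D ≤ 6 := by
      rw [h3] at h4
      nlinarith only [h4]
    interval_cases D
    · left; omega
    · right; left; omega
    · norm_num at h6
    · right; right; omega
  have h9 : ∀ χ ∈ Lam z (-1), charDegree (χ : G → ℂ) ^ 2 =
      36 * (if charDegree (χ : G → ℂ) = 6 then 1 else 0) + 64 * (if charDegree (χ : G → ℂ) = 8 then 1 else 0) +
      144 * (if charDegree (χ : G → ℂ) = 12 then 1 else 0) := by
    intro χ hχ
    rcases hdeg χ hχ with h | h | h <;> rw [h] <;> norm_num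
  rw [sum_congr rfl h9, sum_add_distrib, sum_add_distrib, ← mul_sum, ← mul_sum, ← mul_sum] at hsum
  generalize (∑ χ ∈ Lam z (-1), if charDegree (χ : G → ℂ) = 6 then 1 else 0) = a at hsum
  generalize (∑ χ ∈ Lam z (-1), if charDegree (χ : G → ℂ) = 8 then 1 else 0) = b at hsum
  generalize (∑ χ ∈ Lam z (-1), if charDegree (χ : G → ℂ) = 12 then 1 else 0) = c at hsum
  omega

/-- `SL₂(9)` -/
theorem two_nine {F : Type} [Field F] [Fintype F] (hF : Fintype.card F = 9) {G : Type u} [Group G] [Finite G]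
    (hperf : commutator G = ⊤) (hG : Sub G (Matrix.SpecialLinearGroup (Fin 2) F)) {V : Subgroup G} [V.Normal]
    (hV : V ≤ Subgroup.center G) (hV3 : Nat.card V = 3)
    (e : G ⧸ V ≃* Matrix.SpecialLinearGroup (Fin 2) F ⧸ Subgroup.center (Matrix.SpecialLinearGroup (Fin 2) F)) :
    False := by
  classical
  have := Characters.Core.finite_irr (G := G)
  let _ := Fintype.ofFinite (IrrCharacter G)
  have hQ := qs_two (F := F) (by omega)
  have hVp : (Nat.card V).Prime := by rw [hV3]; exact Nat.prime_three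
  have hidx : (Subgroup.center (Matrix.SpecialLinearGroup (Fin 2) F)).index = 360 := by
    have := index_two (F := F)
    rw [hF] at this
    norm_num at this
    omega
  obtain ⟨z, hzV, hzo, -⟩ := exists_gen hVp
  rw [hV3] at hzo
  obtain ⟨c, hc3, hc1⟩ : ∃ c : ℂ, c ^ 3 = 1 ∧ c ≠ 1 := by
    have h := Complex.isPrimitiveRoot_exp 3 (by norm_num)
    exact ⟨_, h.pow_eq_one, h.ne_one (by norm_num)⟩
  have hGc := card_eq_mul e
  rw [hV3, hidx] at hGc
  have hsum := sum_sq_Lam (hV hzV) hzo hc3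
  rw [hGc] at hsum
  have hdeg : ∀ χ ∈ Lam z c, charDegree (χ : G → ℂ) = 6 ∨ charDegree (χ : G → ℂ) = 12 ∨
      charDegree (χ : G → ℂ) = 15 := by
    intro χ hχ
    obtain ⟨hk, ψ, hψ1, hcod, h1⟩ := faithful_data hQ hperf hG hV hVp e hzV hc1 hχ
    obtain ⟨D, hD, h2⟩ := SimTwo.cod_two (by omega) hψ1
    have h3 := h1 D hD
    rw [hV3] at h3
    have h4 : charDegree (χ : G → ℂ) ^ 2 ≤ 360 := by
      have h5 : charDegree (χ : G → ℂ) ^ 2 ≤ ∑ χ ∈ Lam z c, charDegree (χ : G → ℂ) ^ 2 :=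
        single_le_sum (f := fun χ : IrrCharacter G => charDegree (χ : G → ℂ) ^ 2) (fun _ _ => Nat.zero_le _) hχ
      omega
    have h7 : D ≤ 6 := by
      rw [h3] at h4
      nlinarith only [h4]
    rw [hF] at h2
    rcases h2 with h2 | ⟨i, h6 | h6 | h6, h8⟩
    · omega
    all_goals subst h6; (clear * - h7 h8 h3; omega)
  have h9 : ∀ χ ∈ Lam z c, charDegree (χ : G → ℂ) ^ 2 =
      36 * (if charDegree (χ : G → ℂ) = 6 then 1 else 0) + 144 * (if charDegree (χ : G → ℂ) = 12 then 1 else 0) +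
      225 * (if charDegree (χ : G → ℂ) = 15 then 1 else 0) := by
    intro χ hχ
    rcases hdeg χ hχ with h | h | h <;> rw [h] <;> norm_num
  rw [sum_congr rfl h9, sum_add_distrib, sum_add_distrib, ← mul_sum, ← mul_sum, ← mul_sum] at hsum
  have h15 : (∑ χ ∈ Lam z c, if charDegree (χ : G → ℂ) = 15 then 1 else 0) = 0 := by
    generalize (∑ χ ∈ Lam z c, if charDegree (χ : G → ℂ) = 6 then 1 else 0) = a at hsum
    generalize (∑ χ ∈ Lam z c, if charDegree (χ : G → ℂ) = 12 then 1 else 0) = b at hsum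
    omega
  have heven : ∀ χ ∈ Lam z c, 2 ∣ charDegree (χ : G → ℂ) := by
    intro χ hχ
    rcases hdeg χ hχ with h | h | h
    · rw [h]; norm_num
    · rw [h]; norm_num
    · exfalso
      have h10 := (Finset.sum_eq_zero_iff.1 h15) χ hχ
      rw [if_pos h] at h10
      omega
  -- restriction to a Sylow 2-subgroup
  have := Fact.mk Nat.prime_two
  obtain ⟨P⟩ : Nonempty (Sylow 2 G) := inferInstance
  have hP : Nat.card P = 8 := by
    rw [P.card_eq_multiplicity, hGc]
    have h1 : (3 * 360 : ℕ) = 2 ^ 3 * 135 := by norm_num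
    have h2 := Cfsg.Agent.H902.Art.P_pow_self (r := 2) (k := 3) (a := 135) (by norm_num) (by norm_num)
    rw [← h1] at h2
    exact h2
  let _ := Fintype.ofFinite ↥(P : Subgroup G)
  have hm : ∀ χ : IrrCharacter G, ∃ m : ℕ, ∑ g : ↥(P : Subgroup G), (χ : G → ℂ) g = (Nat.card P : ℂ) * m :=
    fun χ => exists_mult χ _
  choose m hm using hm
  have h10 := sum_mult (hV hzV) hzo hc3 (P : Subgroup G) (by rw [hP]; norm_num) m hm
  rw [hGc, hP] at h10
  have h11 : 2 ∣ ∑ χ ∈ Lam z c, charDegree (χ : G → ℂ) * m χ :=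
    Finset.dvd_sum fun χ hχ => (heven χ hχ).mul_right _
  omega

end Cfsg.Agent.H725.CenGen
end
end

-- part: H725/AltEight_mg
section
prune_inst 0x215004003be000000000001400202010040000200004000000220000000000004002014002000000000200010004000002000000400000000a000000000401000000040000000008000010000000000000000000000000000000000000000000000000000
set_option linter.all false
open scoped Cfsg.Agent.FastGrp

-- part: H725/ThreeLie
section
/-!
# Orders of simple groups of Lie type and `q³(q² - 1)(q³ - 1)` (helper725)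
-/

set_option autoImplicit false

namespace Cfsg.Agent.H725.ThreeNum

open Cfsg.Agent.H902 Cfsg.Agent.H902.Art

theorem real_L2 {ℓ g N : ℕ} (h : Real (.L 2) ℓ g N) : 4 ≤ ℓ ^ g ∧ P ℓ N = ℓ ^ g ∧
    Nat.gcd 2 (ℓ ^ g - 1) * N = ℓ ^ g * ((ℓ ^ g) ^ 2 - 1) := by
  refine ⟨h.ok.2 rfl, ?_, ?_⟩
  · have h1 := h.P_self
    have h2 : NN (.L 2) = 1 := rfl
    rw [h2, pow_one] at h1
    exact h1
  · have h1 := h.eq
    have h2 : NN (.L 2) = 1 := rfl
    have h3 : num (.L 2) (ℓ ^ g) = (ℓ ^ g) ^ 2 - 1 := by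
      change ∏ i ∈ Finset.range 1, ((ℓ ^ g) ^ (i + 2) - 1) = _
      rw [Finset.prod_range_one]
    rw [h2, pow_one, h3] at h1
    exact h1

theorem NN_no {X : Sh} {p f : ℕ} (h : Ok X p f) (hN : NN X = 1 ∨ NN X = 5) : X = .L 2 := by
  cases X with
  | L n =>
    obtain ⟨h1, -⟩ := h
    change n * (n - 1) / 2 = 1 ∨ n * (n - 1) / 2 = 5 at hN
    rcases Nat.lt_or_ge n 5 with h2 | h2
    · interval_cases n
      · rfl
      · omega
      · omega
    · exfalso
      obtain ⟨k, rfl⟩ : ∃ k, n = k + 5 := ⟨n - 5, by omega⟩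
      have h3 : (k + 5) * (k + 5 - 1) = k ^ 2 + 9 * k + 20 := by
        rw [show k + 5 - 1 = k + 4 by omega]; ring
      rw [h3] at hN
      omega
  | C m =>
    exfalso
    obtain ⟨h1, -⟩ := h
    change m ^ 2 = 1 ∨ m ^ 2 = 5 at hN
    rcases Nat.lt_or_ge m 3 with h2 | h2
    · have : m = 2 := by omega
      subst this
      omega
    · have : 3 ^ 2 ≤ m ^ 2 := Nat.pow_le_pow_left h2 2
      omega
  | U n =>
    exfalso
    obtain ⟨h1, -⟩ := h
    change n * (n - 1) / 2 = 1 ∨ n * (n - 1) / 2 = 5 at hN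
    rcases Nat.lt_or_ge n 5 with h2 | h2
    · interval_cases n
      · omega
      · omega
    · obtain ⟨k, rfl⟩ : ∃ k, n = k + 5 := ⟨n - 5, by omega⟩
      have h3 : (k + 5) * (k + 5 - 1) = k ^ 2 + 9 * k + 20 := by
        rw [show k + 5 - 1 = k + 4 by omega]; ring
      rw [h3] at hN
      omega
  | D m =>
    exfalso
    have h1 : 4 ≤ m := h
    change m * (m - 1) = 1 ∨ m * (m - 1) = 5 at hN
    have : 4 * 3 ≤ m * (m - 1) := Nat.mul_le_mul h1 (by omega)
    omega
  | DD m =>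
    exfalso
    have h1 : 4 ≤ m := h
    change m * (m - 1) = 1 ∨ m * (m - 1) = 5 at hN
    have : 4 * 3 ≤ m * (m - 1) := Nat.mul_le_mul h1 (by omega)
    omega
  | G2 => exact absurd hN (by decide)
  | F4 => exact absurd hN (by decide)
  | E6 => exact absurd hN (by decide)
  | E7 => exact absurd hN (by decide)
  | E8 => exact absurd hN (by decide)
  | TE6 => exact absurd hN (by decide)
  | TD4 => exact absurd hN (by decide)
  | Sz => exact absurd hN (by decide)
  | Ree => exact absurd hN (by decide)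
  | TF4 => exact absurd hN (by decide)

/-- `(q² - 1)(q³ - 1)` in terms of `y = q - 1` -/
def mm (y : ℕ) : ℕ := y ^ 2 * (y + 2) * ss y

theorem mm_eq (y : ℕ) : ((y + 1) ^ 2 - 1) * ((y + 1) ^ 3 - 1) = mm y := by
  have h := RPart.fact_form (q := y + 1) (by omega)
  rw [h, Nat.add_sub_cancel]
  unfold mm ss
  ring

theorem two_mm {y : ℕ} (hy : 1 ≤ y) : (y + 1) ^ 5 ≤ 2 * mm y := by
  obtain ⟨z, rfl⟩ : ∃ z, y = z + 1 := ⟨y - 1, by omega⟩
  have : 2 * mm (z + 1) = (z + 1 + 1) ^ 5 + (1 * z ^ 5 + 10 * z ^ 4 + 38 * z ^ 3 + 66 * z ^ 2 + 48 * z + 10) := by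
    unfold mm ss; ring
  omega

theorem big_mm {y : ℕ} (hy : 15 ≤ y) : 20 * (y + 1) ^ 5 ≤ 21 * mm y := by
  obtain ⟨z, rfl⟩ : ∃ z, y = z + 15 := ⟨y - 15, by omega⟩
  have : 21 * mm (z + 15) = 20 * (z + 15 + 1) ^ 5 + (1 * z ^ 5 + 80 * z ^ 4 + 2539 * z ^ 3 + 39931 * z ^ 2 +
      310880 * z + 957205) := by
    unfold mm ss; ring
  omega

/-- the same characteristic -/
theorem same {X : Sh} {p f g N t : ℕ} (hf : 1 ≤ f) (h : Real X p g N) (hst : t * P p N = (p ^ f) ^ 3)
    (hL : Nat.gcd 3 (p ^ f - 1) * (N * t) = LL (p ^ f)) : t = 1 := by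
  have hp := h.hp
  have hq : 2 ≤ p ^ f := hp.two_le.trans (Nat.le_self_pow (by omega) p)
  have hQ0 : 0 < P p N := P_pos hp
  have hg : Nat.gcd 3 (p ^ f - 1) = 1 ∨ Nat.gcd 3 (p ^ f - 1) = 3 :=
    (Nat.dvd_prime Nat.prime_three).1 (Nat.gcd_dvd_left _ _)
  obtain ⟨c, hc⟩ := P_dvd p N
  have ht0 : 0 < t := by
    rcases Nat.eq_zero_or_pos t with h' | h'
    · rw [h', zero_mul] at hst
      exact absurd hst (Nat.pow_pos (by omega)).ne
    · exact h'
  have hdc : Nat.gcd 3 (p ^ f - 1) * c = ((p ^ f) ^ 2 - 1) * ((p ^ f) ^ 3 - 1) := by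
    have h1 : (p ^ f) ^ 3 * (Nat.gcd 3 (p ^ f - 1) * c) = (p ^ f) ^ 3 * (((p ^ f) ^ 2 - 1) * ((p ^ f) ^ 3 - 1)) := by
      rw [← mul_assoc ((p ^ f) ^ 3) ((p ^ f) ^ 2 - 1)]
      change _ = LL (p ^ f)
      rw [← hL, ← hst]
      have h2 : N * t = t * P p N * c := by
        calc N * t = (P p N * c) * t := by rw [← hc]
          _ = t * P p N * c := by ring
      rw [h2]
      ring
    exact Nat.eq_of_mul_eq_mul_left (Nat.pow_pos (by omega)) h1
  obtain ⟨y, hy⟩ : ∃ y, p ^ f = y + 1 := ⟨p ^ f - 1, by omega⟩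
  have hdc' : Nat.gcd 3 y * c = mm y := by
    rw [hy, mm_eq, Nat.add_sub_cancel] at hdc
    exact hdc
  by_cases hX : X = .L 2
  · -- `PSL₂`
    exfalso
    subst hX
    obtain ⟨h4, h5, h6⟩ := real_L2 h
    rw [h5] at hc hst
    have h7 : Nat.gcd 2 (p ^ g - 1) * c = (p ^ g) ^ 2 - 1 := by
      have h8 : p ^ g * (Nat.gcd 2 (p ^ g - 1) * c) = p ^ g * ((p ^ g) ^ 2 - 1) := by
        rw [← h6]
        calc p ^ g * (Nat.gcd 2 (p ^ g - 1) * c) = Nat.gcd 2 (p ^ g - 1) * (p ^ g * c) := by ring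
          _ = _ := by rw [← hc]
      exact Nat.eq_of_mul_eq_mul_left (by omega) h8
    have he : Nat.gcd 2 (p ^ g - 1) = 1 ∨ Nat.gcd 2 (p ^ g - 1) = 2 :=
      (Nat.dvd_prime Nat.prime_two).1 (Nat.gcd_dvd_left _ _)
    have h9 : Nat.gcd 3 (p ^ f - 1) * ((p ^ g) ^ 2 - 1) =
        Nat.gcd 2 (p ^ g - 1) * (((p ^ f) ^ 2 - 1) * ((p ^ f) ^ 3 - 1)) := by
      rw [← h7, ← hdc]
      ring
    rcases Nat.lt_or_ge g f with h10 | h10
    · have h11 : p ^ g < p ^ f := Nat.pow_lt_pow_right hp.one_lt h10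
      have h12 : (p ^ g) ^ 2 < (p ^ f) ^ 2 := Nat.pow_lt_pow_left h11 (by norm_num)
      have h13 : 0 < (p ^ g) ^ 2 := Nat.pow_pos (by omega)
      have h14 : 2 ^ 3 ≤ (p ^ f) ^ 3 := Nat.pow_le_pow_left hq 3
      have h15 : ((p ^ f) ^ 2 - 1) * 7 ≤ ((p ^ f) ^ 2 - 1) * ((p ^ f) ^ 3 - 1) := Nat.mul_le_mul_left _ (by omega)
      rcases hg with hg | hg <;> rcases he with he | he <;> rw [hg, he] at h9 <;> omega
    · have h11 : (p ^ f) ^ 2 ∣ (p ^ g) ^ 2 := pow_dvd_pow_of_dvd (pow_dvd_pow p h10) 2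
      have h12 : ((p ^ f) ^ 2 - 1) * ((p ^ f) ^ 3 - 1) + (p ^ f) ^ 2 + (p ^ f) ^ 3 = (p ^ f) ^ 5 + 1 := by
        have h13 : 1 ≤ (p ^ f) ^ 2 := Nat.one_le_pow _ _ (by omega)
        have h14 : 1 ≤ (p ^ f) ^ 3 := Nat.one_le_pow _ _ (by omega)
        obtain ⟨a, ha⟩ : ∃ a, (p ^ f) ^ 2 = a + 1 := ⟨_, (Nat.sub_add_cancel h13).symm⟩
        obtain ⟨b, hb⟩ : ∃ b, (p ^ f) ^ 3 = b + 1 := ⟨_, (Nat.sub_add_cancel h14).symm⟩
        have h15 : (p ^ f) ^ 5 = (p ^ f) ^ 2 * (p ^ f) ^ 3 := by ring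
        rw [h15, ha, hb, Nat.add_sub_cancel, Nat.add_sub_cancel]
        ring
      have h13 : Nat.gcd 3 (p ^ f - 1) * (p ^ g) ^ 2 + Nat.gcd 2 (p ^ g - 1) * ((p ^ f) ^ 2 + (p ^ f) ^ 3) =
          Nat.gcd 2 (p ^ g - 1) * (p ^ f) ^ 5 + (Nat.gcd 3 (p ^ f - 1) + Nat.gcd 2 (p ^ g - 1)) := by
        have h14 : 1 ≤ (p ^ g) ^ 2 := Nat.one_le_pow _ _ (by omega)
        obtain ⟨a, ha⟩ : ∃ a, (p ^ g) ^ 2 = a + 1 := ⟨_, (Nat.sub_add_cancel h14).symm⟩
        rw [ha, Nat.add_sub_cancel] at h9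
        calc Nat.gcd 3 (p ^ f - 1) * (p ^ g) ^ 2 + Nat.gcd 2 (p ^ g - 1) * ((p ^ f) ^ 2 + (p ^ f) ^ 3)
            = Nat.gcd 3 (p ^ f - 1) * a + Nat.gcd 3 (p ^ f - 1) +
              Nat.gcd 2 (p ^ g - 1) * ((p ^ f) ^ 2 + (p ^ f) ^ 3) := by rw [ha]; ring
          _ = Nat.gcd 2 (p ^ g - 1) * (((p ^ f) ^ 2 - 1) * ((p ^ f) ^ 3 - 1) + (p ^ f) ^ 2 + (p ^ f) ^ 3) +
              Nat.gcd 3 (p ^ f - 1) := by rw [h9]; ring
          _ = _ := by rw [h12]; ring
      have h14 : (p ^ f) ^ 2 ∣ Nat.gcd 2 (p ^ g - 1) * (p ^ f) ^ 5 +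
          (Nat.gcd 3 (p ^ f - 1) + Nat.gcd 2 (p ^ g - 1)) := by
        rw [← h13]
        refine dvd_add (h11.mul_left _) (Dvd.dvd.mul_left (dvd_add dvd_rfl (pow_dvd_pow _ (by norm_num))) _)
      have h15 : (p ^ f) ^ 2 ∣ Nat.gcd 3 (p ^ f - 1) + Nat.gcd 2 (p ^ g - 1) :=
        (Nat.dvd_add_right (Dvd.dvd.mul_left (pow_dvd_pow _ (by norm_num)) _)).1 h14
      have h16 := Nat.le_of_dvd (by rcases hg with hg | hg <;> rw [hg] <;> omega) h15
      have h17 : p ^ f = 2 := by
        by_contra hne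
        have : 3 ^ 2 ≤ (p ^ f) ^ 2 := Nat.pow_le_pow_left (by omega) 2
        rcases hg with hg | hg <;> rcases he with he | he <;> rw [hg, he] at h16 <;> omega
      rw [h17] at h15 h16
      have hg1 : Nat.gcd 3 (2 - 1) = 1 := by norm_num
      rw [hg1] at h16
      rcases he with he | he <;> rw [he] at h16 <;> omega
  · have hcube := h.cube hX
    have hc3 : c ^ 3 ≤ P p N ^ 5 := by
      have h1 : P p N ^ 3 * c ^ 3 ≤ P p N ^ 3 * P p N ^ 5 := by
        calc P p N ^ 3 * c ^ 3 = (P p N * c) ^ 3 := by ring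
          _ = N ^ 3 := by rw [← hc]
          _ ≤ P p N ^ 8 := hcube
          _ = P p N ^ 3 * P p N ^ 5 := by ring
      exact Nat.le_of_mul_le_mul_left h1 (Nat.pow_pos hQ0)
    by_contra ht1
    -- `t` is a power of `p`
    have htd : t ∣ p ^ (f * 3) := by rw [pow_mul, ← hst]; exact dvd_mul_right _ _
    obtain ⟨k, -, hk⟩ := (Nat.dvd_prime_pow hp).1 htd
    have hk0 : k ≠ 0 := by rintro rfl; exact ht1 (by rw [hk, pow_zero])
    have hpt : p ≤ t := by rw [hk]; exact Nat.le_self_pow hk0 p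
    have hm3 : mm y ^ 3 * t ^ 5 ≤ Nat.gcd 3 y ^ 3 * ((y + 1) ^ 5) ^ 3 := by
      rw [← hdc']
      calc (Nat.gcd 3 y * c) ^ 3 * t ^ 5 = Nat.gcd 3 y ^ 3 * (c ^ 3 * t ^ 5) := by ring
        _ ≤ Nat.gcd 3 y ^ 3 * (P p N ^ 5 * t ^ 5) := Nat.mul_le_mul_left _ (Nat.mul_le_mul_right _ hc3)
        _ = Nat.gcd 3 y ^ 3 * (t * P p N) ^ 5 := by ring
        _ = Nat.gcd 3 y ^ 3 * ((y + 1) ^ 5) ^ 3 := by rw [hst, hy]; ring
    have hy1 : 1 ≤ y := by omega
    have h2 := Nat.pow_le_pow_left (two_mm hy1) 3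
    have h2' : (2 * mm y) ^ 3 = 8 * mm y ^ 3 := by ring
    have hm0 : 0 < mm y ^ 3 := by
      apply Nat.pow_pos
      unfold mm ss
      (clear * - hy1; positivity)
    rw [hy, Nat.add_sub_cancel] at hg
    have ht2 : 2 ≤ t := hp.two_le.trans hpt
    rcases hg with hg | hg
    · rw [hg, one_pow, one_mul] at hm3
      have h3 : mm y ^ 3 * 2 ^ 5 ≤ mm y ^ 3 * t ^ 5 := Nat.mul_le_mul_left _ (Nat.pow_le_pow_left ht2 5)
      norm_num only [] at h3
      omega
    · rw [hg] at hm3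
      rcases Nat.lt_or_ge t 3 with ht3 | ht3
      swap
      · have h3 : mm y ^ 3 * 3 ^ 5 ≤ mm y ^ 3 * t ^ 5 := Nat.mul_le_mul_left _ (Nat.pow_le_pow_left ht3 5)
        norm_num only [] at h3 hm3
        omega
      have ht2' : t = 2 := by omega
      have hp2 : p = 2 := by have := hp.two_le; omega
      rw [ht2'] at hm3 hst
      rcases Nat.lt_or_ge y 15 with hy15 | hy15
      swap
      · have h3 := Nat.pow_le_pow_left (big_mm hy15) 3
        have h3' : (21 * mm y) ^ 3 = 9261 * mm y ^ 3 := by ring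
        have h3'' : (20 * (y + 1) ^ 5) ^ 3 = 8000 * ((y + 1) ^ 5) ^ 3 := by ring
        norm_num at hm3
        omega
      have h3y : 3 ∣ y := by rw [← hg]; exact Nat.gcd_dvd_right _ _
      have hy4 : y = 3 := by
        rw [hp2] at hy
        have hf4 : f < 4 := by
          by_contra hcon
          have : 2 ^ 4 ≤ 2 ^ f := Nat.pow_le_pow_right (by norm_num) (by omega)
          omega
        interval_cases f
        · omega
        · omega
        · omega
      have hP : P p N = 32 := by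
        rw [hy, hy4] at hst
        omega
      rw [h.P_self, hp2, ← pow_mul] at hP
      have h5 : g * NN X = 5 := Nat.pow_right_injective (le_refl 2) (show 2 ^ (g * NN X) = 2 ^ 5 by
        rw [hP])
      have h6 : NN X = 1 ∨ NN X = 5 := (Nat.dvd_prime (by norm_num)).1 ⟨g, by rw [mul_comm]; exact h5.symm⟩
      exact hX (NN_no h.ok h6)

/-- cross characteristic -/
theorem cross {X : Sh} {p f ℓ g N t : ℕ} (hp : p.Prime) (hf : 1 ≤ f) (hne : ℓ ≠ p) (h : Real X ℓ g N)
    (hb : t * P ℓ N ^ 2 < N) (hL : Nat.gcd 3 (p ^ f - 1) * (N * t) = LL (p ^ f)) : t = 1 := by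
  have hℓ := h.hp
  have hQ0 : 0 < P ℓ N := P_pos hℓ
  obtain ⟨c, hc⟩ := P_dvd ℓ N
  have htQ : t * P ℓ N < c := by
    have h1 : P ℓ N * (t * P ℓ N) < P ℓ N * c := by
      calc P ℓ N * (t * P ℓ N) = t * P ℓ N ^ 2 := by ring
        _ < N := hb
        _ = P ℓ N * c := hc
    exact Nat.lt_of_mul_lt_mul_left h1
  by_cases hX : X = .L 2
  · subst hX
    obtain ⟨h4, h5, h6⟩ := real_L2 h
    rw [h5] at hc htQ
    have h7 : Nat.gcd 2 (ℓ ^ g - 1) * c = (ℓ ^ g) ^ 2 - 1 := by
      have h8 : ℓ ^ g * (Nat.gcd 2 (ℓ ^ g - 1) * c) = ℓ ^ g * ((ℓ ^ g) ^ 2 - 1) := by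
        rw [← h6]
        calc ℓ ^ g * (Nat.gcd 2 (ℓ ^ g - 1) * c) = Nat.gcd 2 (ℓ ^ g - 1) * (ℓ ^ g * c) := by ring
          _ = _ := by rw [← hc]
      exact Nat.eq_of_mul_eq_mul_left (by omega) h8
    by_cases hℓ2 : ℓ = 2
    · exfalso
      subst hℓ2
      have h8 : Nat.gcd 2 (2 ^ g - 1) = 1 := by
        rcases (Nat.dvd_prime Nat.prime_two).1 (Nat.gcd_dvd_left 2 (2 ^ g - 1)) with h9 | h9
        · exact h9
        · exfalso
          have h10 : 2 ∣ 2 ^ g - 1 := by
            have h12 := Nat.gcd_dvd_right 2 (2 ^ g - 1)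
            rwa [h9] at h12
          have h11 : 2 ∣ 2 ^ g := dvd_pow_self 2 (by have := h.hf; omega)
          omega
      rw [h8, one_mul] at h7
      exact cross_L2_even hp hf hne rfl h4 hc h7 htQ rfl hL
    · have h8 : Nat.gcd 2 (ℓ ^ g - 1) = 2 := by
        apply Nat.gcd_eq_left
        have h9 : Odd (ℓ ^ g) := (hℓ.odd_of_ne_two hℓ2).pow
        obtain ⟨k, hk⟩ := h9
        omega
      rw [h8] at h7
      exact cross_L2_odd hp hf hℓ hne hℓ2 rfl h4 hc h7 htQ rfl hL
  · have hcube := h.cube hX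
    have hc3 : c ^ 3 ≤ P ℓ N ^ 5 := by
      have h1 : P ℓ N ^ 3 * c ^ 3 ≤ P ℓ N ^ 3 * P ℓ N ^ 5 := by
        calc P ℓ N ^ 3 * c ^ 3 = (P ℓ N * c) ^ 3 := by ring
          _ = N ^ 3 := by rw [← hc]
          _ ≤ P ℓ N ^ 8 := hcube
          _ = P ℓ N ^ 3 * P ℓ N ^ 5 := by ring
      exact Nat.le_of_mul_le_mul_left h1 (Nat.pow_pos hQ0)
    exact cross_nonL2 hp hf hℓ hne rfl hc hc3 htQ rfl hL

end Cfsg.Agent.H725.ThreeNum
end

-- part: H725/ThreeAlt
section
/-!
# Orders of alternating groups and `q³(q² - 1)(q³ - 1)` (helper725)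
-/

set_option autoImplicit false

namespace Cfsg.Agent.H725.ThreeNum

/-- `n`, `n!`, `3 fib (n + 1) n!` for `5 ≤ n ≤ 48` -/
def altTbl : List (ℕ × ℕ × ℕ) :=
  (List.range 44).map fun i => (i + 5, (i + 5).factorial, 3 * Nat.fib (i + 6) * (i + 5).factorial)

def altChk (L q : ℕ) (l : List (ℕ × ℕ × ℕ)) : Bool :=
  l.all fun x => Nat.ble x.2.2 L || (!(Nat.beq (L % x.2.1) 0) || (Nat.beq q 4 && (Nat.beq x.1 7 || Nat.beq x.1 8)))

private theorem _root_.Cfsg.Agent.KO725ab3e.e0.{ku, kv} {α : Type kv} {M : List α → Sort ku} (φ : ∀ l, M l) {z : M List.nil} {s : ∀ a l, M l → M (List.cons a l)} (h0 : φ List.nil = z) (hs : ∀ a l, φ (List.cons a l) = s a l (φ l)) (l : List α) : φ l = @List.rec α M z s l := List.rec h0 (fun a l ih => (hs a l).trans (congrArg (s a l) ih)) l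
private noncomputable def _root_.Cfsg.Agent.KO725ab3e.k1.{ku0, ku1} : type_of% @List.map.{ku0, ku1} := @(fun x0 x1 x2 x3 => @List.rec.{(ku1+1), ku0} @x0 @(fun x4 => @List.{ku1} @x1) [] @(fun x4 x5 x6 => (@x2 @x4) :: @x6) @x3)
private theorem _root_.Cfsg.Agent.KO725ab3e.e1.{ku0, ku1} : @List.map.{ku0, ku1} = @_root_.Cfsg.Agent.KO725ab3e.k1.{ku0, ku1} := by delta _root_.Cfsg.Agent.KO725ab3e.k1; funext a0 a1 a2 a3; refine (_root_.Cfsg.Agent.KO725ab3e.e0 (fun a3 => @List.map.{ku0, ku1} a0 a1 a2 a3) ?_ (fun c0 c1 => ?_) a3 :) <;> (rfl')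
private theorem _root_.Cfsg.Agent.KO725ab3e.e2.{ku} {M : Nat → Sort ku} (φ : ∀ n, M n) {z : M Nat.zero} {s : ∀ n, M n → M (Nat.succ n)} (h0 : φ Nat.zero = z) (hs : ∀ n, φ (Nat.succ n) = s n (φ n)) (n : Nat) : φ n = @Nat.rec M z s n := Nat.rec h0 (fun n ih => (hs n).trans (congrArg (s n) ih)) n
private noncomputable def _root_.Cfsg.Agent.KO725ab3e.k3 : type_of% @Nat.factorial := @(fun x0 => @Nat.rec.{1} @(fun x1 => ℕ) (nat_lit 1) @(fun x1 x2 => @Nat.mul (@Nat.succ @x1) @x2) @x0)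
private theorem _root_.Cfsg.Agent.KO725ab3e.e3 : @Nat.factorial = @_root_.Cfsg.Agent.KO725ab3e.k3 := by delta _root_.Cfsg.Agent.KO725ab3e.k3; funext a0; refine (_root_.Cfsg.Agent.KO725ab3e.e2 (fun a0 => @Nat.factorial a0) ?_ (fun c0 => ?_) a0 :) <;> (rfl')
private noncomputable def _root_.Cfsg.Agent.KO725ab3e.k4.{ku0} : type_of% @Nat.iterate.{ku0} := @(fun x0 x1 x2 x3 => @Nat.rec.{ku0} @(fun x4 => @x0 → @x0) @(fun x4 => @x4) @(fun x4 x5 x6 => @x5 (@x1 @x6)) @x2 @x3)
private theorem _root_.Cfsg.Agent.KO725ab3e.e4.{ku0} : @Nat.iterate.{ku0} = @_root_.Cfsg.Agent.KO725ab3e.k4.{ku0} := by delta _root_.Cfsg.Agent.KO725ab3e.k4; funext a0 a1 a2 a3; refine (congrFun (_root_.Cfsg.Agent.KO725ab3e.e2 (fun a2 a3 => @Nat.iterate.{ku0} a0 a1 a2 a3) ?_ (fun c0 => ?_) a2) a3 :) <;> (rfl')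
private noncomputable def _root_.Cfsg.Agent.KO725ab3e.k5 : type_of% @Nat.fib := @(fun x0 => @Prod.fst.{0, 0} _ _ (@Cfsg.Agent.KO725ab3e.k4.{1} _ @(fun x1 => (@Prod.snd.{0, 0} _ _ @x1, @Nat.add (@Prod.fst.{0, 0} _ _ @x1) (@Prod.snd.{0, 0} _ _ @x1))) @x0 ((nat_lit 0, nat_lit 1))))
private theorem _root_.Cfsg.Agent.KO725ab3e.e5 : @Nat.fib = @_root_.Cfsg.Agent.KO725ab3e.k5 := by delta _root_.Cfsg.Agent.KO725ab3e.k5; rewrite [← Cfsg.Agent.KO725ab3e.e4.{1}]; rfl'
private noncomputable def _root_.Cfsg.Agent.KO725ab3e.k6 : type_of% @List.range.loop := @(fun x0 x1 => @Nat.rec.{1} @(fun x2 => (@List.{0} ℕ) → @List.{0} ℕ) @(fun x2 => @x2) @(fun x2 x3 x4 => @x3 (@x2 :: @x4)) @x0 @x1)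
private theorem _root_.Cfsg.Agent.KO725ab3e.e6 : @List.range.loop = @_root_.Cfsg.Agent.KO725ab3e.k6 := by delta _root_.Cfsg.Agent.KO725ab3e.k6; funext a0 a1; refine (congrFun (_root_.Cfsg.Agent.KO725ab3e.e2 (fun a0 a1 => @List.range.loop a0 a1) ?_ (fun c0 => ?_) a0) a1 :) <;> (rfl')
private noncomputable def _root_.Cfsg.Agent.KO725ab3e.k7 : type_of% @List.range := @(fun x0 => @Cfsg.Agent.KO725ab3e.k6 @x0 [])
private theorem _root_.Cfsg.Agent.KO725ab3e.e7 : @List.range = @_root_.Cfsg.Agent.KO725ab3e.k7 := by delta _root_.Cfsg.Agent.KO725ab3e.k7; rewrite [← Cfsg.Agent.KO725ab3e.e6]; rfl'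
private noncomputable def _root_.Cfsg.Agent.KO725ab3e.k8.{ku0} : type_of% @List.all.{ku0} := @(fun x0 x1 x2 => @List.rec.{(ku0+1), ku0} @x0 @(fun x3 => (@x0 → @Bool) → @Bool) @(fun x3 => @Bool.true) @(fun x3 x4 x5 x6 => @Bool.rec.{1} @(fun x7 => @Bool) @Bool.false (@x5 @x6) (@x6 @x3)) @x1 @x2)
private theorem _root_.Cfsg.Agent.KO725ab3e.e8.{ku0} : @List.all.{ku0} = @_root_.Cfsg.Agent.KO725ab3e.k8.{ku0} := by delta _root_.Cfsg.Agent.KO725ab3e.k8; funext a0 a1 a2; refine (congrFun (_root_.Cfsg.Agent.KO725ab3e.e0 (fun a1 a2 => @List.all.{ku0} a0 a1 a2) ?_ (fun c0 c1 => ?_) a1) a2 :) <;> (rfl')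
private noncomputable def _root_.Cfsg.Agent.KO725ab3e.k9 : type_of% @Bool.or := @(fun x0 x1 => @Bool.rec.{1} @(fun x2 => @Bool) @x1 @Bool.true @x0)
private theorem _root_.Cfsg.Agent.KO725ab3e.e9 : @Bool.or = @_root_.Cfsg.Agent.KO725ab3e.k9 := by delta _root_.Cfsg.Agent.KO725ab3e.k9; rfl'
private noncomputable def _root_.Cfsg.Agent.KO725ab3e.k10 : (by first | exact type_of% @Cfsg.Agent.H725.ThreeNum.altChk | exact Unit : Sort _) := by first | (refine @Subtype.val _ (fun g => @Cfsg.Agent.H725.ThreeNum.altChk = @g) (@Subtype.mk _ _ (@(fun x0 x1 x2 => @Cfsg.Agent.KO725ab3e.k8.{0} _ @x2 @(fun x3 => @Bool.rec.{1} @(fun x4 => @Bool) (@Bool.rec.{1} @(fun x4 => @Bool) (@Bool.rec.{1} @(fun x4 => @Bool) @Bool.false (@Bool.rec.{1} @(fun x4 => @Bool) (@Nat.beq (@Prod.fst.{0, 0} _ _ @x3) (nat_lit 8)) @Bool.true (@Nat.beq (@Prod.fst.{0, 0} _ _ @x3) (nat_lit 7))) (@Nat.beq @x1 (nat_lit 4))) @Bool.true (@Bool.rec.{1} @(fun x4 => @Bool) @Bool.true @Bool.false (@Nat.beq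 (@Nat.mod @x0 (@Prod.fst.{0, 0} _ _ (@Prod.snd.{0, 0} _ _ @x3))) (nat_lit 0)))) @Bool.true (@Nat.ble (@Prod.snd.{0, 0} _ _ (@Prod.snd.{0, 0} _ _ @x3)) @x0)))) ?_); rewrite [← Cfsg.Agent.KO725ab3e.e8.{0}]; rfl') | exact @Cfsg.Agent.H725.ThreeNum.altChk | exact ()
private theorem _root_.Cfsg.Agent.KO725ab3e.e10 : (by first | exact @Cfsg.Agent.H725.ThreeNum.altChk = @_root_.Cfsg.Agent.KO725ab3e.k10 | exact True : Prop) := by first | (delta _root_.Cfsg.Agent.KO725ab3e.k10; exact @Subtype.property _ (fun g => @Cfsg.Agent.H725.ThreeNum.altChk = @g) _) | rfl | trivial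
private noncomputable def _root_.Cfsg.Agent.KO725ab3e.k11 : (by first | exact type_of% @Cfsg.Agent.H725.ThreeNum.LL | exact Unit : Sort _) := by first | (refine @Subtype.val _ (fun g => @Cfsg.Agent.H725.ThreeNum.LL = @g) (@Subtype.mk _ _ (@(fun x0 => @Nat.mul (@Nat.mul (@Nat.pow @x0 (nat_lit 3)) (@Nat.sub (@Nat.pow @x0 (nat_lit 2)) (nat_lit 1))) (@Nat.sub (@Nat.pow @x0 (nat_lit 3)) (nat_lit 1)))) ?_); rfl') | exact @Cfsg.Agent.H725.ThreeNum.LL | exact ()
private theorem _root_.Cfsg.Agent.KO725ab3e.e11 : (by first | exact @Cfsg.Agent.H725.ThreeNum.LL = @_root_.Cfsg.Agent.KO725ab3e.k11 | exact True : Prop) := by first | (delta _root_.Cfsg.Agent.KO725ab3e.k11; exact @Subtype.property _ (fun g => @Cfsg.Agent.H725.ThreeNum.LL = @g) _) | rfl | trivial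

theorem altChk_all : (List.range 49).all (fun p => (List.range 31).all fun f => Nat.ble p 1 || Nat.beq f 0 ||
    altChk (2 * LL (p ^ f)) (p ^ f) altTbl) = true := by
  (first | (delta Cfsg.Agent.H725.ThreeNum.altTbl; rewrite [Cfsg.Agent.KO725ab3e.e8.{0}, Cfsg.Agent.KO725ab3e.e7, Cfsg.Agent.KO725ab3e.e9, Cfsg.Agent.KO725ab3e.e10, Cfsg.Agent.KO725ab3e.e11, Cfsg.Agent.KO725ab3e.e1.{0, 0}, Cfsg.Agent.KO725ab3e.e3, Cfsg.Agent.KO725ab3e.e5]; decide +kernel) | decide +kernel)

theorem alt_fin {p f n : ℕ} (hp : 2 ≤ p) (hp' : p ≤ 48) (hf : 1 ≤ f) (hf' : f ≤ 30) (hn : 5 ≤ n) (hn' : n ≤ 48)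
    (h1 : 2 * LL (p ^ f) < 3 * Nat.fib (n + 1) * n.factorial) (h2 : n.factorial ∣ 2 * LL (p ^ f)) :
    p ^ f = 4 ∧ (n = 7 ∨ n = 8) := by
  have h := altChk_all
  rw [List.all_eq_true] at h
  have h3 := h p (List.mem_range.2 (by omega))
  rw [List.all_eq_true] at h3
  have h4 := h3 f (List.mem_range.2 (by omega))
  simp only [Bool.or_eq_true, Nat.ble_eq, Nat.beq_eq] at h4
  rcases h4 with (h4 | h4) | h4
  · omega
  · omega
  · unfold altChk at h4
    rw [List.all_eq_true] at h4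
    have h5 := h4 (n, n.factorial, 3 * Nat.fib (n + 1) * n.factorial) (by
      unfold altTbl
      rw [List.mem_map]
      refine ⟨n - 5, List.mem_range.2 (by omega), ?_⟩
      rw [show n - 5 + 5 = n by omega, show n - 5 + 6 = n + 1 by omega])
    simp only [Bool.or_eq_true, Bool.and_eq_true, Bool.not_eq_true', Nat.ble_eq, Nat.beq_eq] at h5
    rcases h5 with h5 | h5 | h5
    · omega
    · exfalso
      rw [Nat.mod_eq_zero_of_dvd h2] at h5
      exact absurd h5 (by decide)
    · exact h5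

theorem pow_v_le {p n : ℕ} (hp : p.Prime) (hn : 1 ≤ n) : p ^ (n.factorial.factorization p) ≤ 2 ^ (n - 1) := by
  have := Fact.mk hp
  have h1 := sub_one_mul_padicValNat_factorial (p := p) n
  rw [← Nat.factorization_def _ hp] at h1
  have h2 : 1 ≤ (p.digits n).sum := by
    by_contra h
    have h3 : (p.digits n).sum = 0 := by omega
    rw [List.sum_eq_zero_iff] at h3
    have h4 : p.digits n ≠ [] := Nat.digits_ne_nil_iff_ne_zero.2 (by omega)
    have h5 := h3 _ (List.getLast_mem h4)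
    exact Nat.getLast_digit_ne_zero p (by omega) h5
  have h3 : (p - 1) * n.factorial.factorization p ≤ n - 1 := by omega
  have h4 : p ≤ 2 ^ (p - 1) := by
    have := Nat.lt_two_pow_self (n := p - 1)
    have := hp.two_le
    omega
  calc p ^ (n.factorial.factorization p) ≤ (2 ^ (p - 1)) ^ (n.factorial.factorization p) :=
        Nat.pow_le_pow_left h4 _
    _ = 2 ^ ((p - 1) * n.factorial.factorization p) := (pow_mul _ _ _).symm
    _ ≤ 2 ^ (n - 1) := Nat.pow_le_pow_right (by norm_num) h3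

theorem fact_big {n : ℕ} (hn : 49 ≤ n) : 2 ^ (13 * n - 15) ≤ n.factorial ^ 3 := by
  induction n, hn using Nat.le_induction with
  | base => decide +kernel
  | succ n hn ih =>
    rw [Nat.factorial_succ, mul_pow, show 13 * (n + 1) - 15 = 13 + (13 * n - 15) by omega, pow_add]
    refine Nat.mul_le_mul ?_ ih
    calc 2 ^ 13 ≤ 50 ^ 3 := by norm_num
      _ ≤ (n + 1) ^ 3 := Nat.pow_le_pow_left (by omega) 3

/-- alternating groups -/
theorem alt_num {p f n N t k : ℕ} (hp : p.Prime) (hf : 1 ≤ f) (hn : 5 ≤ n) (h2 : 2 * N = n.factorial)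
    (hpN : p ∣ N) (ht : t < k) (hk : k ≤ Nat.fib (n + 1)) (hk' : k ≤ 2 ^ (n - 2))
    (hL : Nat.gcd 3 (p ^ f - 1) * (N * t) = LL (p ^ f)) : p ^ f = 4 ∧ (n = 7 ∨ n = 8) := by
  have hq : 2 ≤ p ^ f := hp.two_le.trans (Nat.le_self_pow (by omega) p)
  have hL0 := LL_pos hq
  have ht0 : t ≠ 0 := by rintro rfl; rw [mul_zero, mul_zero] at hL; omega
  have hN0 : N ≠ 0 := by rintro rfl; rw [zero_mul, mul_zero] at hL; omega
  -- `q³ ≤ 2 ^ (n - 1) * t`
  have hcop : Nat.Coprime ((p ^ f) ^ 3) (Nat.gcd 3 (p ^ f - 1)) := by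
    apply Nat.Coprime.pow_left
    have h3 : Nat.gcd (p ^ f) (Nat.gcd 3 (p ^ f - 1)) ∣ 1 := by
      have h4 : Nat.gcd (p ^ f) (Nat.gcd 3 (p ^ f - 1)) ∣ p ^ f := Nat.gcd_dvd_left _ _
      have h5 : Nat.gcd (p ^ f) (Nat.gcd 3 (p ^ f - 1)) ∣ p ^ f - 1 :=
        (Nat.gcd_dvd_right _ _).trans (Nat.gcd_dvd_right _ _)
      have h6 := Nat.dvd_sub h4 h5
      rwa [Nat.sub_sub_self (by omega)] at h6
    exact Nat.dvd_one.1 h3
  have h3 : (p ^ f) ^ 3 ∣ N * t := by
    refine hcop.dvd_of_dvd_mul_left ?_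
    rw [hL]
    unfold LL
    exact (dvd_mul_right _ _).mul_right _
  have h4 : (p ^ f) ^ 3 ≤ 2 ^ (n - 1) * t := by
    rw [← pow_mul] at h3 ⊢
    have h5 := (hp.pow_dvd_iff_le_factorization (Nat.mul_ne_zero hN0 ht0)).1 h3
    rw [Nat.factorization_mul hN0 ht0, Finsupp.add_apply] at h5
    calc p ^ (f * 3) ≤ p ^ (N.factorization p + t.factorization p) := Nat.pow_le_pow_right hp.pos h5
      _ = p ^ (N.factorization p) * p ^ (t.factorization p) := pow_add _ _ _
      _ ≤ 2 ^ (n - 1) * t := by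
        refine Nat.mul_le_mul ?_ (Nat.ordProj_le p ht0)
        refine le_trans (Nat.pow_le_pow_right hp.pos ?_) (pow_v_le hp (n := n) (by omega))
        rw [← h2]
        exact (Nat.factorization_le_iff_dvd hN0 (by omega)).2 (dvd_mul_left _ _) p
  have ht' : t ≤ 2 ^ (n - 2) := by omega
  have hNt : N * t ≤ LL (p ^ f) := by
    rw [← hL]
    have : 0 < Nat.gcd 3 (p ^ f - 1) := Nat.gcd_pos_of_pos_left _ (by norm_num)
    exact Nat.le_mul_of_pos_left _ this
  have hn48 : n ≤ 48 := by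
    by_contra hcon
    have h5 := fact_big (n := n) (by omega)
    have h6 : (N * t) ^ 3 < (2 ^ (n - 1) * t) ^ 8 := by
      calc (N * t) ^ 3 ≤ LL (p ^ f) ^ 3 := Nat.pow_le_pow_left hNt 3
        _ < ((p ^ f) ^ 8) ^ 3 := Nat.pow_lt_pow_left (LL_lt_pow hq) (by norm_num)
        _ = ((p ^ f) ^ 3) ^ 8 := by ring
        _ ≤ _ := Nat.pow_le_pow_left h4 8
    have h7 : N ^ 3 < (2 ^ (n - 1)) ^ 8 * t ^ 5 := by
      have h8 : t ^ 3 * N ^ 3 < t ^ 3 * ((2 ^ (n - 1)) ^ 8 * t ^ 5) := by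
        calc t ^ 3 * N ^ 3 = (N * t) ^ 3 := by ring
          _ < (2 ^ (n - 1) * t) ^ 8 := h6
          _ = _ := by ring
      exact Nat.lt_of_mul_lt_mul_left h8
    have h8 : (2 ^ (n - 1)) ^ 8 * t ^ 5 ≤ 2 ^ (13 * n - 18) := by
      calc (2 ^ (n - 1)) ^ 8 * t ^ 5 ≤ (2 ^ (n - 1)) ^ 8 * (2 ^ (n - 2)) ^ 5 :=
            Nat.mul_le_mul_left _ (Nat.pow_le_pow_left ht' 5)
        _ = 2 ^ (13 * n - 18) := by
          rw [← pow_mul, ← pow_mul, ← pow_add]
          congr 1
          omega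
    have h9 : n.factorial ^ 3 = 8 * N ^ 3 := by rw [← h2]; ring
    have h10 : 2 ^ (13 * n - 15) = 8 * 2 ^ (13 * n - 18) := by
      rw [show (8 : ℕ) = 2 ^ 3 by norm_num, ← pow_add]
      congr 1
      omega
    omega
  have hpn : p ≤ 48 := by
    have h5 : p ∣ n.factorial := by rw [← h2]; exact hpN.mul_left 2
    have := (hp.dvd_factorial).1 h5
    omega
  have hf30 : f ≤ 30 := by
    by_contra hcon
    have h5 : 2 ^ 93 ≤ (p ^ f) ^ 3 := by
      calc 2 ^ 93 = (2 ^ 31) ^ 3 := by norm_num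
        _ ≤ (p ^ f) ^ 3 := Nat.pow_le_pow_left ((Nat.pow_le_pow_right (by norm_num) (by omega)).trans
          (Nat.pow_le_pow_left hp.two_le f)) 3
    have h6 : 2 ^ (n - 1) * t < 2 ^ 93 := by
      calc 2 ^ (n - 1) * t < 2 ^ (n - 1) * 2 ^ (n - 2) :=
            Nat.mul_lt_mul_of_pos_left (by omega) (by positivity)
        _ ≤ 2 ^ 47 * 2 ^ 46 := Nat.mul_le_mul (Nat.pow_le_pow_right (by norm_num) (by omega))
            (Nat.pow_le_pow_right (by norm_num) (by omega))
        _ = 2 ^ 93 := by norm_num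
    omega
  refine alt_fin hp.two_le hpn hf hf30 hn hn48 ?_ ?_
  · rw [← hL]
    have hg : Nat.gcd 3 (p ^ f - 1) ≤ 3 := Nat.gcd_le_left _ (by norm_num)
    calc 2 * (Nat.gcd 3 (p ^ f - 1) * (N * t)) = Nat.gcd 3 (p ^ f - 1) * (2 * N) * t := by ring
      _ ≤ 3 * (2 * N) * t := Nat.mul_le_mul_right _ (Nat.mul_le_mul_right _ hg)
      _ = 3 * n.factorial * t := by rw [h2]
      _ < 3 * n.factorial * Nat.fib (n + 1) :=
        Nat.mul_lt_mul_of_pos_left (by omega) (by have := Nat.factorial_pos n; omega)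
      _ = _ := by ring
  · rw [← hL, ← h2]
    exact ⟨Nat.gcd 3 (p ^ f - 1) * t, by ring⟩

end Cfsg.Agent.H725.ThreeNum
end

-- part: H725/ThreeSpor
section
/-!
# Orders of sporadic groups and `q³(q² - 1)(q³ - 1)` (helper725)
-/

set_option autoImplicit false

namespace Cfsg.Agent.H725.ThreeNum

/-- `(3, q - 1) N` does not divide `q³(q² - 1)(q³ - 1)`, except for `J₁` -/
def good (N q : ℕ) : Bool :=
  Nat.ble q 1 || !(Nat.beq (LL q % (Nat.gcd 3 (q - 1) * N)) 0) || (Nat.beq N 175560 && Nat.beq q 11)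

/-- all candidates `q < B` -/
def sporChk (N e B : ℕ) : Bool :=
  Nat.ble (3 * N * N) (4 * LL B) && Nat.beq (N % 2 ^ e) 0 && Nat.ble 3 e &&
    ((List.range (B / 2 ^ (e / 2) + 1)).all fun j => good N (1 + 2 ^ (e / 2) * j)) &&
    ((List.range (B / 2 ^ (e - 2) + 2)).all fun j => good N (2 ^ (e - 2) * j - 1)) &&
    ((List.range (Nat.log2 B + 1)).all fun f => good N (2 ^ f))

/-- `|G|`, the exponent of two, a bound for `q` -/
def sporTbl : List (ℕ × ℕ × ℕ) :=
  [(17971200, 11, 63),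
    (7920, 4, 10),
    (95040, 6, 17),
    (443520, 7, 25),
    (10200960, 7, 55),
    (244823040, 10, 121),
    (175560, 3, 20),
    (604800, 7, 27),
    (50232960, 7, 82),
    (86775571046077562880, 21, 93107),
    (4157776806543360000, 21, 43562),
    (42305421312000, 18, 2461),
    (495766656000, 10, 810),
    (898128000, 7, 168),
    (44352000, 9, 79),
    (448345497600, 13, 790),
    (4030387200, 10, 244),
    (145926144000, 14, 597),
    (460815505920, 9, 795),
    (51765179004000000, 8, 14551),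
    (64561751654400, 17, 2735),
    (4089470473293004800, 18, 43381),
    (1255205709190661721292800, 21, 1021084),
    (273030912000000, 14, 3922),
    (90745943887872000, 15, 16744),
    (4154781481226426191177580544000000, 41, 244917437)]

private noncomputable def _root_.Cfsg.Agent.KO725ab3e.k12 : (by first | exact type_of% @Cfsg.Agent.H725.ThreeNum.good | exact Unit : Sort _) := by first | (refine @Subtype.val _ (fun g => @Cfsg.Agent.H725.ThreeNum.good = @g) (@Subtype.mk _ _ (@(fun x0 x1 => @Bool.rec.{1} @(fun x2 => @Bool) (@Bool.rec.{1} @(fun x2 => @Bool) @Bool.false (@Nat.beq @x1 (nat_lit 11)) (@Nat.beq @x0 (nat_lit 175560))) @Bool.true (@Bool.rec.{1} @(fun x2 => @Bool) (@Bool.rec.{1} @(fun x2 => @Bool) @Bool.true @Bool.false (@Nat.beq (@Nat.mod (@Cfsg.Agent.KO725ab3e.k11 @x1) (@Nat.mul (@Nat.gcd (nat_lit 3) (@Nat.sub @x1 (nat_lit 1))) @x0)) (nat_lit 0))) @Bool.true (@Nat.ble @x1 (nat_lit 1))))) ?_); rewrite [← Cfsg.Agent.KO725ab3e.e11]; (try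 delta Cfsg.Agent.H725.ThreeNum.good); (try generalize @Cfsg.Agent.H725.ThreeNum.LL = g0); rfl') | exact @Cfsg.Agent.H725.ThreeNum.good | exact ()
private theorem _root_.Cfsg.Agent.KO725ab3e.e12 : (by first | exact @Cfsg.Agent.H725.ThreeNum.good = @_root_.Cfsg.Agent.KO725ab3e.k12 | exact True : Prop) := by first | (delta _root_.Cfsg.Agent.KO725ab3e.k12; exact @Subtype.property _ (fun g => @Cfsg.Agent.H725.ThreeNum.good = @g) _) | rfl | trivial
private noncomputable def _root_.Cfsg.Agent.KO725ab3e.k13 : (by first | exact type_of% @Cfsg.Agent.H725.ThreeNum.sporChk | exact Unit : Sort _) := by first | (refine @Subtype.val _ (fun g => @Cfsg.Agent.H725.ThreeNum.sporChk = @g) (@Subtype.mk _ _ (@(fun x0 x1 x2 => @Bool.rec.{1} @(fun x3 => @Bool) @Bool.false (@Cfsg.Agent.KO725ab3e.k8.{0} _ (@Cfsg.Agent.KO725ab3e.k6 (@Nat.add (@Nat.log2 @x2) (nat_lit 1)) []) @(fun x3 => @Cfsg.Agent.KO725ab3e.k12 @x0 (@Nat.pow (nat_lit 2) @x3))) (@Bool.rec.{1} @(fun x3 => @Bool)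 @Bool.false (@Cfsg.Agent.KO725ab3e.k8.{0} _ (@Cfsg.Agent.KO725ab3e.k6 (@Nat.add (@Nat.div @x2 (@Nat.pow (nat_lit 2) (@Nat.sub @x1 (nat_lit 2)))) (nat_lit 2)) []) @(fun x3 => @Cfsg.Agent.KO725ab3e.k12 @x0 (@Nat.sub (@Nat.mul (@Nat.pow (nat_lit 2) (@Nat.sub @x1 (nat_lit 2))) @x3) (nat_lit 1)))) (@Bool.rec.{1} @(fun x3 => @Bool) @Bool.false (@Cfsg.Agent.KO725ab3e.k8.{0} _ (@Cfsg.Agent.KO725ab3e.k6 (@Nat.add (@Nat.div @x2 (@Nat.pow (nat_lit 2) (@Nat.div @x1 (nat_lit 2)))) (nat_lit 1)) []) @(fun x3 => @Cfsg.Agent.KO725ab3e.k12 @x0 (@Nat.add (nat_lit 1) (@Nat.mul (@Nat.pow (nat_lit 2) (@Nat.div @x1 (nat_lit 2))) @x3)))) (@Bool.rec.{1} @(fun x3 => @Bool) @Bool.false (@Nat.ble (nat_lit 3) @x1) (@Bool.rec.{1} @(fun x3 => @Bool) @Bool.false (@Nat.beq (@Nat.mod @x0 (@Nat.pow (nat_lit 2) @x1)) (nat_lit 0)) (@Nat.ble (@Nat.mul (@Nat.mul (nat_lit 3) @x0) @x0) (@Nat.mul (nat_lit 4) (@Cfsg.Agent.KO725ab3e.k11 @x2))))))))) ?_); rewrite [← Cfsg.Agent.KO725ab3e.e11,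 ← Cfsg.Agent.KO725ab3e.e12, ← Cfsg.Agent.KO725ab3e.e6, ← Cfsg.Agent.KO725ab3e.e8.{0}]; (try delta Cfsg.Agent.H725.ThreeNum.sporChk); (try generalize @Cfsg.Agent.H725.ThreeNum.good = g0); (try generalize @Cfsg.Agent.H725.ThreeNum.LL = g1); rfl') | exact @Cfsg.Agent.H725.ThreeNum.sporChk | exact ()
private theorem _root_.Cfsg.Agent.KO725ab3e.e13 : (by first | exact @Cfsg.Agent.H725.ThreeNum.sporChk = @_root_.Cfsg.Agent.KO725ab3e.k13 | exact True : Prop) := by first | (delta _root_.Cfsg.Agent.KO725ab3e.k13; exact @Subtype.property _ (fun g => @Cfsg.Agent.H725.ThreeNum.sporChk = @g) _) | rfl | trivial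

theorem sporChk_all : (sporTbl.all fun x => sporChk x.1 x.2.1 x.2.2) = true := by
  (first | (rewrite [Cfsg.Agent.KO725ab3e.e8.{0}, Cfsg.Agent.KO725ab3e.e13]; decide +kernel) | decide +kernel)

/-- the order of the monster -/
def MM : ℕ := 808017424794512875886459904961710757005754368000000000

def mChk : Bool :=
  Nat.ble (3 * MM * MM) (4 * LL 28922633844248) && Nat.beq (MM % (2 ^ 46 * 3 ^ 20)) 0 &&
    ((List.range 60).all fun j => good MM (1 + 495338913792 * j)) &&
    ((List.range 8297).all fun j => good MM (3486784401 * j - 1)) &&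
    ((List.range 4).all fun j => good MM (17592186044416 * j - 1)) &&
    ((List.range 46).all fun f => good MM (2 ^ f)) &&
    ((List.range 30).all fun f => good MM (3 ^ f))

theorem mChk_true : mChk = true := by
  decide +kernel

theorem LL_mono {a b : ℕ} (h : a ≤ b) : LL a ≤ LL b :=
  Nat.mul_le_mul (Nat.mul_le_mul (Nat.pow_le_pow_left h 3) (Nat.sub_le_sub_right (Nat.pow_le_pow_left h 2) 1))
    (Nat.sub_le_sub_right (Nat.pow_le_pow_left h 3) 1)

theorem lt_of_LL {q B N : ℕ} (h : 3 * N * N ≤ 4 * LL B) (h2 : 4 * LL q < 3 * N * N) : q < B := by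
  by_contra hcon
  have := LL_mono (Nat.le_of_not_lt hcon)
  omega

theorem sieve_two {q e : ℕ} (hq : 2 ≤ q) (he : 3 ≤ e) (hodd : ¬ 2 ∣ q) (h : 2 ^ e ∣ LL q) :
    2 ^ (e / 2) ∣ q - 1 ∨ 2 ^ (e - 2) ∣ q + 1 := by
  have hcop : Nat.Coprime (2 ^ e) (q ^ 3) := by
    apply Nat.Coprime.pow
    exact (Nat.Prime.coprime_iff_not_dvd Nat.prime_two).2 hodd
  have h0 : 2 ^ e ∣ (q ^ 2 - 1) * (q ^ 3 - 1) := by
    have h1 : 2 ^ e ∣ q ^ 3 * ((q ^ 2 - 1) * (q ^ 3 - 1)) := by
      rw [← mul_assoc]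
      exact h
    exact hcop.dvd_of_dvd_mul_left h1
  rcases RPart.cases hq Nat.prime_two h0 with ⟨-, h1⟩ | ⟨-, h1, h2⟩ | ⟨h1, -⟩ | ⟨h1, -⟩ | ⟨h1, -⟩ | ⟨h1, -⟩
  · right
    have h2 : 2 ^ e = 4 * 2 ^ (e - 2) := by
      rw [show (4 : ℕ) = 2 ^ 2 by norm_num, ← pow_add]
      congr 1
      omega
    rw [h2] at h1
    exact Nat.dvd_of_mul_dvd_mul_left (by norm_num) h1
  · left
    have hy : q - 1 ≠ 0 := by omega
    have h3 : 2 ^ (e - 1) ∣ (q - 1) ^ 2 := by
      have h4 : 2 ^ e = 2 * 2 ^ (e - 1) := by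
        rw [← pow_succ']
        congr 1
        omega
      rw [h4] at h2
      exact Nat.dvd_of_mul_dvd_mul_left (by norm_num) h2
    have h4 := (Nat.prime_two.pow_dvd_iff_le_factorization (pow_ne_zero 2 hy)).1 h3
    rw [Nat.factorization_pow, Finsupp.smul_apply, smul_eq_mul] at h4
    exact (Nat.prime_two.pow_dvd_iff_le_factorization hy).2 (by omega)
  · omega
  · exact absurd rfl h1
  · exact absurd rfl h1
  · exact absurd rfl h1

theorem sieve_three {p f L a : ℕ} (hp : p.Prime) (hf : 1 ≤ f) (hne : 3 ≠ p) (ha : 1 ≤ a)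
    (hQ : 3 ^ (2 * a) ∣ L) (hL : Nat.gcd 3 (p ^ f - 1) * L = LL (p ^ f)) :
    3 ^ a ∣ p ^ f - 1 ∨ 3 ^ (2 * a) ∣ p ^ f + 1 := by
  have hq : 2 ≤ p ^ f := hp.two_le.trans (Nat.le_self_pow (by omega) p)
  rcases Q_cases hp hf Nat.prime_three hne hQ hL with ⟨h1, -⟩ | ⟨h1, -⟩ | ⟨-, -, h1⟩ | ⟨-, h1⟩ | ⟨-, h1⟩
  · omega
  · omega
  · left
    rw [mul_comm 2 a, pow_mul] at h1
    exact (Nat.pow_dvd_pow_iff two_ne_zero).1 h1
  · exact Or.inr h1
  · exfalso
    have h2 : 3 ∣ (p ^ f) ^ 2 + p ^ f + 1 := by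
      refine dvd_trans ?_ h1
      exact (dvd_pow_self 3 (by omega)).mul_left _
    have h3 : p ^ f % 3 = 1 := by
      have h4 : p ^ f % 3 = 0 ∨ p ^ f % 3 = 1 ∨ p ^ f % 3 = 2 := by (clear * -; omega)
      rcases h4 with h4 | h4 | h4
      · exfalso
        have := Nat.dvd_iff_mod_eq_zero.1 h2
        simp only [Nat.add_mod, Nat.pow_mod, h4, _root_.ne_eq, _root_.OfNat.ofNat_ne_zero, _root_.not_false_eq_true, _root_.zero_pow, _root_.Nat.zero_mod, _root_.add_zero, _root_.Nat.one_mod, _root_.zero_add, _root_.one_ne_zero] at this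
      · exact h4
      · exfalso
        have := Nat.dvd_iff_mod_eq_zero.1 h2
        simp [Nat.add_mod, Nat.pow_mod, h4] at this
    obtain ⟨k, hk⟩ : ∃ k, p ^ f = 3 * k + 1 := ⟨p ^ f / 3, by omega⟩
    have hg : Nat.gcd 3 (p ^ f - 1) = 3 := Nat.gcd_eq_left ⟨k, by (clear * - hk; omega)⟩
    rw [hg] at h1
    have h5 : 9 ∣ (p ^ f) ^ 2 + p ^ f + 1 := by
      refine dvd_trans ?_ h1
      have : (9 : ℕ) = 3 * 3 := by norm_num
      rw [this]
      exact Nat.mul_dvd_mul_left 3 (dvd_pow_self 3 (by omega))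
    rw [hk] at h5
    have h6 : (3 * k + 1) ^ 2 + (3 * k + 1) + 1 = 9 * (k ^ 2 + k) + 3 := by ring
    rw [h6] at h5
    omega

theorem good_elim {N q : ℕ} (h : good N q = true) (hq : 2 ≤ q) (hd : Nat.gcd 3 (q - 1) * N ∣ LL q) :
    N = 175560 ∧ q = 11 := by
  unfold good at h
  simp only [Bool.or_eq_true, Bool.and_eq_true, Bool.not_eq_true', Nat.ble_eq, Nat.beq_eq] at h
  rcases h with (h | h) | h
  · omega
  · exfalso
    rw [Nat.mod_eq_zero_of_dvd hd] at h
    exact absurd h (by decide)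
  · exact h

theorem MM_dvd : 2 ^ 46 * 3 ^ 20 ∣ MM := by
  refine Nat.dvd_of_mod_eq_zero ?_
  decide +kernel

theorem m_all : 3 * MM * MM ≤ 4 * LL 28922633844248 ∧ (∀ j < 60, good MM (1 + 495338913792 * j) = true) ∧
    (∀ j < 8297, good MM (3486784401 * j - 1) = true) ∧ (∀ j < 4, good MM (17592186044416 * j - 1) = true) ∧
    (∀ f < 46, good MM (2 ^ f) = true) ∧ (∀ f < 30, good MM (3 ^ f) = true) := by
  have h1 := mChk_true
  unfold mChk at h1
  simp only [Bool.and_eq_true, Nat.ble_eq, List.all_eq_true, List.mem_range] at h1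
  obtain ⟨⟨⟨⟨⟨⟨h2, -⟩, h4⟩, h5⟩, h6⟩, h7⟩, h8⟩ := h1
  exact ⟨h2, h4, h5, h6, h7, h8⟩

theorem MM_eq : MM = 808017424794512875886459904961710757005754368000000000 := rfl

theorem MM_ne : MM ≠ 175560 := by decide +kernel

attribute [irreducible] MM

theorem ar1 {q j : ℕ} (hB : q < 28922633844248) (hj : q = 1 + 495338913792 * j) : j < 60 := by omega
theorem ar2 {q j : ℕ} (hB : q < 28922633844248) (hj : q + 1 = 3486784401 * j) : j < 8297 := by omega
theorem ar3 {q j : ℕ} (hB : q < 28922633844248) (hj : q + 1 = 17592186044416 * j) : j < 4 := by omega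
theorem ar4 {f : ℕ} (hB : 2 ^ f < 28922633844248) : f < 46 := by
  by_contra hcon
  have : 2 ^ 46 ≤ 2 ^ f := Nat.pow_le_pow_right (by norm_num) (by omega)
  norm_num at this
  omega
theorem ar5 {f : ℕ} (hB : 3 ^ f < 28922633844248) : f < 30 := by
  by_contra hcon
  have : 3 ^ 30 ≤ 3 ^ f := Nat.pow_le_pow_right (by norm_num) (by omega)
  norm_num at this
  omega
theorem ar6 {q j : ℕ} (hj : q - 1 = 495338913792 * j) (hq : 2 ≤ q) : q = 1 + 495338913792 * j := by omega

/-- the monster -/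
theorem m_num {p f t : ℕ} (hp : p.Prime) (hf : 1 ≤ f) (hL : Nat.gcd 3 (p ^ f - 1) * (MM * t) = LL (p ^ f))
    (hd : Nat.gcd 3 (p ^ f - 1) * MM ∣ LL (p ^ f)) (hbd : 4 * LL (p ^ f) < 3 * MM * MM) : False := by
  have hq : 2 ≤ p ^ f := hp.two_le.trans (Nat.le_self_pow (by omega) p)
  obtain ⟨h2, h4, h5, h6, h7, h8⟩ := m_all
  have hB : p ^ f < 28922633844248 := lt_of_LL h2 hbd
  clear h2 hbd
  have hge : ∀ q, q = p ^ f → good MM q = true → False := by
    intro q hq' hg
    rw [← hq'] at hq hd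
    exact MM_ne (good_elim hg hq hd).1
  by_cases hp2 : p = 2
  · subst hp2
    exact hge (2 ^ f) rfl (h7 f (ar4 hB))
  by_cases hp3 : p = 3
  · subst hp3
    exact hge (3 ^ f) rfl (h8 f (ar5 hB))
  have hodd : ¬ 2 ∣ p ^ f := fun h8 =>
    hp2 ((Nat.prime_dvd_prime_iff_eq Nat.prime_two hp).1 (Nat.prime_two.dvd_of_dvd_pow h8)).symm
  have h9 : 2 ^ 46 ∣ LL (p ^ f) := (((dvd_mul_right _ _).trans MM_dvd).mul_left _).trans hd
  have h10 : 3 ^ (2 * 10) ∣ MM * t := ((dvd_mul_left (3 ^ 20) (2 ^ 46)).trans MM_dvd).mul_right t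
  have e1 : (2 : ℕ) ^ (46 / 2) * 3 ^ 10 = 495338913792 := by norm_num
  have e2 : (3 : ℕ) ^ (2 * 10) = 3486784401 := by norm_num
  have e3 : (2 : ℕ) ^ (46 - 2) = 17592186044416 := by norm_num
  have ht := sieve_two hq (by norm_num) hodd h9
  have hth := sieve_three hp hf (Ne.symm hp3) (by norm_num) h10 hL
  rw [e2] at hth
  rw [e3] at ht
  rcases ht with ha | ⟨j, hj⟩
  · rcases hth with hb' | ⟨j, hj⟩
    · have h11 : 2 ^ (46 / 2) * 3 ^ 10 ∣ p ^ f - 1 :=
        Nat.Coprime.mul_dvd_of_dvd_of_dvd (by norm_num) ha hb'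
      rw [e1] at h11
      obtain ⟨j, hj⟩ := h11
      have hj' := ar6 hj hq
      exact hge _ hj'.symm (h4 j (ar1 hB hj'))
    · exact hge (3486784401 * j - 1) (Nat.sub_eq_of_eq_add hj.symm) (h5 j (ar2 hB hj))
  · exact hge (17592186044416 * j - 1) (Nat.sub_eq_of_eq_add hj.symm) (h6 j (ar3 hB hj))

/-- sporadic groups -/
theorem spor_num {x : OrdDiv.Grp × ℕ} (hx : x ∈ OrdDiv.spor) {p f t : ℕ} (hp : p.Prime) (hf : 1 ≤ f)
    (hb : 4 * t < x.2) (hL : Nat.gcd 3 (p ^ f - 1) * (x.2 * t) = LL (p ^ f)) :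
    x.2 = 175560 ∧ p ^ f = 11 := by
  have hq : 2 ≤ p ^ f := hp.two_le.trans (Nat.le_self_pow (by omega) p)
  have hd : Nat.gcd 3 (p ^ f - 1) * x.2 ∣ LL (p ^ f) := ⟨t, by rw [← hL]; ring⟩
  have hbd : 4 * LL (p ^ f) < 3 * x.2 * x.2 := by
    have hg : Nat.gcd 3 (p ^ f - 1) ≤ 3 := Nat.gcd_le_left _ (by norm_num)
    have hx0 : 0 < x.2 := by omega
    rw [← hL]
    calc 4 * (Nat.gcd 3 (p ^ f - 1) * (x.2 * t)) = Nat.gcd 3 (p ^ f - 1) * (x.2 * (4 * t)) := by ring
      _ ≤ 3 * (x.2 * (4 * t)) := Nat.mul_le_mul_right _ hg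
      _ = 3 * x.2 * (4 * t) := by ring
      _ < 3 * x.2 * x.2 := Nat.mul_lt_mul_of_pos_left hb (by omega)
  have hsmall : ∀ e B, (x.2, e, B) ∈ sporTbl → x.2 = 175560 ∧ p ^ f = 11 := by
    intro e B hmem
    have h := sporChk_all
    rw [List.all_eq_true] at h
    have h1 := h _ hmem
    unfold sporChk at h1
    simp only [Bool.and_eq_true, Nat.ble_eq, Nat.beq_eq, List.all_eq_true, List.mem_range] at h1
    obtain ⟨⟨⟨⟨⟨h2, h3⟩, h4⟩, h5⟩, h6⟩, h7⟩ := h1
    have hB : p ^ f < B := lt_of_LL h2 hbd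
    by_cases hp2 : p = 2
    · subst hp2
      have h8 : f < Nat.log2 B + 1 := by
        have h9 : 2 ^ f ≤ B := by omega
        have h10 : f ≤ Nat.log 2 B := Nat.le_log_of_pow_le (by norm_num) h9
        rw [Nat.log2_eq_log_two]
        omega
      exact good_elim (h7 f h8) hq hd
    · have hodd : ¬ 2 ∣ p ^ f := fun h8 =>
        hp2 ((Nat.prime_dvd_prime_iff_eq Nat.prime_two hp).1 (Nat.prime_two.dvd_of_dvd_pow h8)).symm
      have h8 : 2 ^ e ∣ LL (p ^ f) := by
        have h9 : 2 ^ e ∣ x.2 := Nat.dvd_of_mod_eq_zero h3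
        exact (h9.mul_left _).trans hd
      rcases sieve_two hq h4 hodd h8 with ⟨j, hj⟩ | ⟨j, hj⟩
      · have h9 : p ^ f = 1 + 2 ^ (e / 2) * j := by (clear * - hq hj; omega)
        rw [h9] at hq hd hB ⊢
        refine good_elim (h5 j ?_) hq hd
        have h10 : 2 ^ (e / 2) * j ≤ B := by omega
        have := (Nat.le_div_iff_mul_le (Nat.pow_pos (by norm_num : 0 < 2))).2 (le_of_eq_of_le (mul_comm _ _) h10)
        omega
      · have h9 : p ^ f = 2 ^ (e - 2) * j - 1 := by (clear * - hj; omega)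
        rw [h9] at hq hd hB ⊢
        refine good_elim (h6 j ?_) hq hd
        have h10 : 2 ^ (e - 2) * j ≤ B := by omega
        have := (Nat.le_div_iff_mul_le (Nat.pow_pos (by norm_num : 0 < 2))).2 (le_of_eq_of_le (mul_comm _ _) h10)
        omega
  have hbig : x.2 = MM → x.2 = 175560 ∧ p ^ f = 11 := by
    intro hxM
    rw [hxM] at hd hbd hL
    exact (m_num hp hf hL hd hbd).elim
  simp only [OrdDiv.spor, List.mem_cons, List.not_mem_nil, or_false] at hx
  rcases hx with rfl | rfl | rfl | rfl | rfl | rfl | rfl | rfl | rfl | rfl | rfl | rfl | rfl | rfl | rfl | rfl | rfl |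
    rfl | rfl | rfl | rfl | rfl | rfl | rfl | rfl | rfl | rfl
  · exact hsmall 11 63 (by decide)
  · exact hsmall 4 10 (by decide)
  · exact hsmall 6 17 (by decide)
  · exact hsmall 7 25 (by decide)
  · exact hsmall 7 55 (by decide)
  · exact hsmall 10 121 (by decide)
  · exact hsmall 3 20 (by decide)
  · exact hsmall 7 27 (by decide)
  · exact hsmall 7 82 (by decide)
  · exact hsmall 21 93107 (by decide)
  · exact hsmall 21 43562 (by decide)
  · exact hsmall 18 2461 (by decide)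
  · exact hsmall 10 810 (by decide)
  · exact hsmall 7 168 (by decide)
  · exact hsmall 9 79 (by decide)
  · exact hsmall 13 790 (by decide)
  · exact hsmall 10 244 (by decide)
  · exact hsmall 14 597 (by decide)
  · exact hsmall 9 795 (by decide)
  · exact hsmall 8 14551 (by decide)
  · exact hsmall 17 2735 (by decide)
  · exact hsmall 18 43381 (by decide)
  · exact hsmall 21 1021084 (by decide)
  · exact hsmall 14 3922 (by decide)
  · exact hsmall 15 16744 (by decide)
  · exact hsmall 41 244917437 (by decide)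
  · exact hbig MM_eq.symm

end Cfsg.Agent.H725.ThreeNum
end

-- part: H725/SimThree
section
/-!
# Simple groups with codegrees among those of `SL₃(q)` (helper725)
-/

set_option autoImplicit false

namespace Cfsg.Agent.H725.SimThree

open Cfsg Cfsg.Agent.H725.Cod Cfsg.Agent.H725.SLFacts Cfsg.Agent.OrdDiv Cfsg.Agent.H725.ThreeNum
open Cfsg.Agent.H686.CharKit Cfsg.Agent.H677.CodPrime Cfsg.Agent.H677.CodMultiset

universe u v

/-- If the Sylow `p`-subgroups have order `p` there is a nonprincipal irreducible character of degree at least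
`p - 1`. -/
theorem exists_big {S : Type u} [Group S] [Finite S] [IsSimpleGroup S] (hperf : commutator S = ⊤) {p : ℕ}
    (hp : p.Prime) (hp2 : p ≠ 2) (h1 : p ∣ Nat.card S) (h2 : ¬ p ^ 2 ∣ Nat.card S) :
    ∃ χ : IrrCharacter S, χ ≠ _root_.Cfsg.Agent.H677.CodMultiset.one S ∧ p - 1 ≤ charDegree (χ : S → ℂ) := by
  classical
  have := Fact.mk hp
  obtain ⟨P⟩ : Nonempty (Sylow p S) := inferInstance
  have hP : Nat.card P = p := by
    rw [P.card_eq_multiplicity]
    have h3 : (Nat.card S).factorization p = 1 := by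
      have h4 := (hp.pow_dvd_iff_le_factorization (k := 1) (n := Nat.card S) Nat.card_pos.ne').1 (by rwa [pow_one])
      have h5 : ¬ 2 ≤ (Nat.card S).factorization p := fun h =>
        h2 ((hp.pow_dvd_iff_le_factorization Nat.card_pos.ne').2 h)
      omega
    rw [h3, pow_one]
  have hne : Nat.card S ≠ p := by
    intro h
    obtain ⟨χ, hχ, -⟩ := exists_not_dvd (G := S) hp h1
    have : IsCyclic S := isCyclic_of_prime_card h
    have h3 : commutator S = ⊥ := by
      rw [commutator_eq_closure, Subgroup.closure_eq_bot_iff]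
      rintro _ ⟨a, b, rfl⟩
      rw [Set.mem_singleton_iff, commutatorElement_eq_one_iff_mul_comm]
      exact IsCyclic.commGroup.mul_comm a b
    rw [hperf] at h3
    exact top_ne_bot h3
  set e := (Subgroup.centralizer (P : Set S)).relIndex (Subgroup.normalizer (P : Set S)) with he
  have he1 : e ≠ 1 := SmallSimple.BurnsideNC.relIndex_ne_one h1 hne P
  have hed : e ∣ p - 1 := SmallSimple.BurnsideNC.relIndex_dvd_of_card_eq_prime P hP
  have he0 : e ≠ 0 := by
    intro h
    rw [h] at hed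
    have h3 := Nat.eq_zero_of_zero_dvd hed
    have := hp.two_le
    omega
  obtain ⟨t, ht⟩ := hed
  obtain ⟨NE, X, ε, d, hdisj, hNE, hX, hε, hd, ⟨χ₁, hχ₁, hχ₁1, hε1⟩, hdegN, -⟩ :=
    M23.SylowTools.blockData hperf p hp2 P hP e t rfl ht.symm
  obtain ⟨χ, hχ⟩ : (NE.erase χ₁).Nonempty := by
    rw [← Finset.card_pos, Finset.card_erase_of_mem hχ₁, hNE]
    (clear * - he1 he0 hNE hd; omega)
  have hχN := Finset.mem_of_mem_erase hχ
  have hne1 : χ ≠ _root_.Cfsg.Agent.H677.CodMultiset.one S := by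
    rintro rfl
    exact Finset.ne_of_mem_erase hχ (Subtype.ext hχ₁1.symm)
  refine ⟨χ, hne1, ?_⟩
  have h3 := degree_ne_one hperf hne1
  have h4 : 0 < charDegree (χ : S → ℂ) := charDegree_pos χ
  have h5 := hdegN χ hχN
  have hp3 := hp.two_le
  rcases hε χ hχN with h6 | h6
  · rw [h6] at h5
    obtain ⟨k, hk⟩ := h5
    have hk1 : 1 ≤ k := by
      by_contra h
      have h7 : (p : ℤ) * k ≤ 0 := mul_nonpos_of_nonneg_of_nonpos (by omega) (by omega)
      omega
    have h7 : (p : ℤ) * 1 ≤ p * k := mul_le_mul_of_nonneg_left hk1 (by omega)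
    omega
  · rw [h6] at h5
    obtain ⟨k, hk⟩ := h5
    have hk1 : 1 ≤ k := by
      by_contra h
      have h7 : (p : ℤ) * k ≤ 0 := mul_nonpos_of_nonneg_of_nonpos (by omega) (by omega)
      omega
    have h7 : (p : ℤ) * 1 ≤ p * k := mul_le_mul_of_nonneg_left hk1 (by omega)
    omega

theorem card_conj_le {S : Type u} {A : Type v} [Group S] [Group A] [Finite A] (e : S ≃* A) :
    Nat.card (ConjClasses S) ≤ Nat.card (ConjClasses A) := by
  have : Finite (ConjClasses A) := Quotient.finite _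
  refine Nat.card_le_card_of_injective (ConjClasses.map e.toMonoidHom) ?_
  intro a b h
  have h1 : ∀ c : ConjClasses S, ConjClasses.map e.symm.toMonoidHom (ConjClasses.map e.toMonoidHom c) = c := by
    intro c
    induction c using Quotient.inductionOn with
    | h x =>
      change ConjClasses.mk (e.symm (e x)) = ConjClasses.mk x
      rw [e.symm_apply_apply]
  rw [← h1 a, ← h1 b, h]

theorem psl_nonab {F : Type} [Field F] [Fintype F] :
    ¬ IsMulCommutative (Matrix.ProjectiveSpecialLinearGroup (Fin 3) F) :=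
  (qs_three (F := F)).quotient_nonabelian

/-- The quotient of the orders is one, except possibly for `A₈`-like exceptions. -/
theorem t_one (T : OrderTable.{u})
    (hK : ∀ (S : Type u) [Group S] [Finite S] [IsSimpleGroup S], IsKnownSimple' S)
    {F : Type} [Field F] [Fintype F] {S : Type u} [Group S] [Finite S] [IsSimpleGroup S]
    (hS : Sub S (Matrix.SpecialLinearGroup (Fin 3) F)) :
    Nat.card S = (Subgroup.center (Matrix.SpecialLinearGroup (Fin 3) F)).index ∨
      (Fintype.card F = 4 ∧ Nonempty (S ≃* alternatingGroup (Fin 8))) := by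
  have hQ := qs_three (F := F)
  obtain ⟨p, f, hp, hf, hF⟩ := exists_pp F
  have hna := hS.nonabelian hQ
  have hperf := hS.perfect hQ.perf
  have hidx := index_three (F := F)
  obtain ⟨t, ht, hpS, hb, hst, -⟩ := data_three hp hf hF hS
  rw [← ht, hF] at hidx
  change _ = LL (p ^ f) at hidx
  have hone : t = 1 → Nat.card S = (Subgroup.center (Matrix.SpecialLinearGroup (Fin 3) F)).index := by
    intro h
    rw [← ht, h, mul_one]
  obtain ⟨r, hr, hrd⟩ := Nat.exists_prime_and_dvd (Finite.one_lt_card (α := S)).ne'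
  obtain ⟨χ₀, hχ₀, -⟩ := exists_not_dvd (G := S) hr hrd
  rcases Cls.classes T (hK S) hna with ⟨n, hn, ⟨e⟩, h3⟩ | ⟨ℓ, X, g, h3, χ, hχ⟩ | ⟨x, hx, -, h3⟩
  · -- alternating
    have hk := card_conj_le e
    have htk := t_lt hb
    obtain ⟨h4, h5⟩ := S4198.result n hn
    have h6 := H539.PartCount.card_conjClasses_perm_le_fib (Fin n)
    rw [Fintype.card_fin] at h6
    obtain ⟨h7, h8⟩ := alt_num hp hf hn h3 hpS htk (by omega) (by omega) hidx
    have hd3 : Nat.gcd 3 (p ^ f - 1) = 3 := by rw [h7]; norm_num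
    have hLv : LL (p ^ f) = 60480 := by rw [h7]; rfl
    rw [hd3, hLv] at hidx
    rcases h8 with rfl | rfl
    · exfalso
      have h9 : Nat.card S = 2520 := by
        have : Nat.factorial 7 = 5040 := rfl
        omega
      rw [h9] at hidx hb
      have ht8 : t = 8 := by omega
      rw [ht8] at hb
      have h10 := t_bound (t := 8) (m := 2512) (S := S) fun χ hχ => by have := hb χ hχ; omega
      rw [h9] at h10
      have h11 := H525.AltK.alt_seven
      have h12 : (Nat.card (ConjClasses S) - 1) * 2512 ≤ 8 * 2512 := Nat.mul_le_mul_right _ (by omega)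
      omega
    · right
      exact ⟨by rw [hF, h7], ⟨e⟩⟩
  · -- Lie type
    left
    apply hone
    have hNN := H902.Art.NN_pos h3
    have hPS := h3.P_self
    have hq2 := h3.q_ge
    have hP2 : 2 ≤ H902.Art.P ℓ (Nat.card S) := by
      rw [hPS]
      exact hq2.trans (Nat.le_self_pow (by omega) _)
    have hχ1 : χ ≠ _root_.Cfsg.Agent.H677.CodMultiset.one S := by
      rintro rfl
      rw [charDegree_one] at hχ
      omega
    by_cases hpl : ℓ = p
    · subst hpl
      have h4 : ¬ ℓ ∣ cod χ := by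
        have h5 := cod_mul hχ1
        rw [hχ] at h5
        intro h6
        obtain ⟨k, hk⟩ := h6
        have h7 : ℓ ^ ((Nat.card S).factorization ℓ + 1) ∣ Nat.card S := by
          refine ⟨k, ?_⟩
          conv_lhs => rw [← h5, hk]
          unfold H902.Art.P
          ring
        exact Nat.pow_succ_factorization_not_dvd Nat.card_pos.ne' hp h7
      have h5 := hst χ hχ1 h4
      rw [hχ] at h5
      exact same hf h3 h5 hidx
    · have h4 := hb χ hχ1
      rw [hχ] at h4
      exact cross hp hf hpl h3 h4 hidx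
  · -- sporadic
    exfalso
    have h4 : 4 * t < x.2 := by
      have h5 := hb χ₀ hχ₀
      have h6 := degree_ne_one hperf hχ₀
      have h7 : 0 < charDegree (χ₀ : S → ℂ) := charDegree_pos χ₀
      have h8 : 2 ^ 2 ≤ charDegree (χ₀ : S → ℂ) ^ 2 := Nat.pow_le_pow_left (by omega) 2
      have h9 : t * 4 ≤ t * charDegree (χ₀ : S → ℂ) ^ 2 := Nat.mul_le_mul_left _ h8
      omega
    rw [h3] at hidx
    obtain ⟨h5, h6⟩ := spor_num hx hp hf h4 hidx
    rw [h5] at hidx h3
    have hd3 : Nat.gcd 3 (p ^ f - 1) = 1 := by rw [h6]; norm_num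
    have hLv : LL (p ^ f) = 212427600 := by rw [h6]; rfl
    rw [hd3, hLv] at hidx
    have ht : t = 1210 := by omega
    obtain ⟨χ, hχ, h7⟩ := exists_big hperf (p := 19) (by norm_num) (by norm_num) (by rw [h3]; norm_num)
      (by rw [h3]; norm_num)
    have h8 := hb χ hχ
    have h9 : 18 ^ 2 ≤ charDegree (χ : S → ℂ) ^ 2 := Nat.pow_le_pow_left h7 2
    rw [ht, h3] at h8
    omega

/-- **Simple groups**: except for `A₈` and `SL₃(4)`. -/
theorem simple_three (T : OrderTable.{u}) (T' : OrderTable.{0})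
    (hK : ∀ (S : Type u) [Group S] [Finite S] [IsSimpleGroup S], IsKnownSimple' S)
    {F : Type} [Field F] [Fintype F] {S : Type u} [Group S] [Finite S] [IsSimpleGroup S]
    (hS : Sub S (Matrix.SpecialLinearGroup (Fin 3) F)) :
    _root_.Cfsg.Agent.H725.Cod.Good S (Matrix.SpecialLinearGroup (Fin 3) F) ∨
      (Fintype.card F = 4 ∧ Nonempty (S ≃* alternatingGroup (Fin 8))) := by
  have hQ := qs_three (F := F)
  obtain ⟨p, f, hp, hf, hF⟩ := exists_pp F
  have hna := hS.nonabelian hQ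
  have hidx := index_three (F := F)
  rcases t_one T hK hS with h1 | h1
  swap
  · exact Or.inr h1
  have hsim : IsSimpleGroup (Matrix.ProjectiveSpecialLinearGroup (Fin 3) F) := hQ.simple
  have hreal : H902.Art.Real (.L 3) p f (Nat.card (Matrix.ProjectiveSpecialLinearGroup (Fin 3) F)) :=
    H902.Names.psl_real hp hf hF (by norm_num) (by norm_num)
  have hKL : IsKnownSimple' (Matrix.ProjectiveSpecialLinearGroup (Fin 3) F) := by
    have h32 : (3 : ℕ) = 2 → 4 ≤ Fintype.card F := fun h => absurd h (by decide)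
    exact Or.inr (Or.inr (Or.inl ⟨F, _, _, 3, by norm_num, h32, ⟨MulEquiv.refl _⟩⟩))
  rcases Cls.iso_of_card T T' (hK S) hna hKL psl_nonab hreal h1 with ⟨⟨e⟩⟩ | ⟨h3, h4⟩
  · exact Or.inl (Or.inr ⟨e⟩)
  · have h5 : (Subgroup.center (Matrix.SpecialLinearGroup (Fin 3) F)).index = 20160 := h3
    rw [h5] at hidx
    change _ = LL (Fintype.card F) at hidx
    have hq4 : Fintype.card F = 4 := by
      have hg : Nat.gcd 3 (Fintype.card F - 1) ≤ 3 := Nat.gcd_le_left _ (by norm_num)
      have hg0 : 0 < Nat.gcd 3 (Fintype.card F - 1) := Nat.gcd_pos_of_pos_left _ (by norm_num)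
      by_contra hne
      rcases Nat.lt_or_ge (Fintype.card F) 4 with h6 | h6
      · have h7 := LL_mono (show Fintype.card F ≤ 3 by omega)
        have h8 : LL 3 = 5616 := rfl
        omega
      · have h7 := LL_mono (show 5 ≤ Fintype.card F by omega)
        have h8 : LL 5 = 372000 := rfl
        omega
    rcases h4 with h4 | h4
    · exact Or.inr ⟨hq4, h4⟩
    · left
      right
      exact H902.Iso.real_unique (.psl 3 4) h4 ⟨F, _, _, hq4, ⟨MulEquiv.refl _⟩⟩

end Cfsg.Agent.H725.SimThree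
end

-- part: H725/AltEight
section
/-!
# `A₈` and `SL₃(4)` (helper725)
-/

set_option autoImplicit false

namespace Cfsg.Agent.H725.AltEight

open Cfsg Cfsg.Agent.H725.Cod Cfsg.Agent.H725.Lam Cfsg.Agent.H725.SLFacts Cfsg.Agent.H725.CenGen
open Cfsg.Agent.H686.CharKit Cfsg.Agent.H677.CodPrime Cfsg.Agent.H677.CodMultiset Matrix Finset
open Cfsg.Agent.H677.PslThree ComplexConjugate

universe u

/-- the centraliser of a transvection -/
theorem card_centralizer_tv {F : Type} [Field F] [Fintype F] :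
    Nat.card (Subgroup.centralizer ({tv ((1 : F), (0 : F))} : Set (_root_.Matrix.SpecialLinearGroup (Fin 3) F))) ≤
      (Fintype.card F - 1) * Fintype.card F ^ 3 := by
  classical
  have key : ∀ g : _root_.Matrix.SpecialLinearGroup (Fin 3) F, g ∈ Subgroup.centralizer ({tv ((1 : F), (0 : F))} : Set _) →
      g.1 1 0 = 0 ∧ g.1 2 0 = 0 ∧ g.1 2 1 = 0 ∧ g.1 2 2 = g.1 0 0 ∧ g.1 0 0 * g.1 0 0 * g.1 1 1 = 1 := by
    intro g hg
    rw [Subgroup.mem_centralizer_singleton_iff] at hg
    have h1 : g.1 * !![1, 0, (1 : F); 0, 1, 0; 0, 0, 1] = !![1, 0, (1 : F); 0, 1, 0; 0, 0, 1] * g.1 :=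
      congrArg Subtype.val hg
    have e02 := congrFun (congrFun h1 0) 2
    have e12 := congrFun (congrFun h1 1) 2
    have e22 := congrFun (congrFun h1 2) 2
    have e01 := congrFun (congrFun h1 0) 1
    simp only [Matrix.mul_apply, Fin.sum_univ_three, _root_.Fin.isValue, _root_.Matrix.of_apply, _root_.Matrix.cons_val', _root_.Matrix.cons_val, _root_.Matrix.cons_val_fin_one, _root_.Matrix.cons_val_zero, _root_.mul_one, _root_.Matrix.cons_val_one, _root_.MulZeroClass.mul_zero, _root_.add_zero, _root_.one_mul, _root_.MulZeroClass.zero_mul, _root_.zero_add, _root_.add_eq_right, _root_.left_eq_add] at e02 e12 e22 e01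
    have h2 := g.2
    rw [Matrix.det_fin_three, e12, e22, e01] at h2
    have e3 : g.1 2 2 = g.1 0 0 := by linear_combination -e02
    refine ⟨e12, e22, e01, e3, ?_⟩
    rw [e3] at h2
    linear_combination h2
  let f : Subgroup.centralizer ({tv ((1 : F), (0 : F))} : Set (_root_.Matrix.SpecialLinearGroup (Fin 3) F)) → Fˣ × F × F × F :=
    fun g => (⟨g.1.1 0 0, g.1.1 0 0 * g.1.1 1 1, by rw [← mul_assoc]; exact (key g.1 g.2).2.2.2.2, by
      rw [mul_comm, ← mul_assoc]; exact (key g.1 g.2).2.2.2.2⟩, g.1.1 0 1, g.1.1 0 2, g.1.1 1 2)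
  have hf : Function.Injective f := by
    rintro g h hgh
    obtain ⟨h1, h2⟩ := Prod.ext_iff.1 hgh
    obtain ⟨h3, h4⟩ := Prod.ext_iff.1 h2
    obtain ⟨h5, h6⟩ := Prod.ext_iff.1 h4
    have h1' : g.1.1 0 0 = h.1.1 0 0 := congrArg Units.val h1
    change g.1.1 0 1 = h.1.1 0 1 at h3
    change g.1.1 0 2 = h.1.1 0 2 at h5
    change g.1.1 1 2 = h.1.1 1 2 at h6
    obtain ⟨a1, a2, a3, a4, a5⟩ := key g.1 g.2
    obtain ⟨b1, b2, b3, b4, b5⟩ := key h.1 h.2
    have h7 : g.1.1 1 1 = h.1.1 1 1 := by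
      rw [h1'] at a5
      have h8 : h.1.1 0 0 * h.1.1 0 0 ≠ 0 := left_ne_zero_of_mul_eq_one b5
      exact mul_left_cancel₀ h8 (a5.trans b5.symm)
    apply Subtype.ext
    apply Subtype.ext
    ext i j
    fin_cases i <;> fin_cases j
    · exact h1'
    · exact h3
    · exact h5
    · exact a1.trans b1.symm
    · exact h7
    · exact h6
    · exact a2.trans b2.symm
    · exact a3.trans b3.symm
    · exact a4.trans (h1'.trans b4.symm)
  refine (Nat.card_le_card_of_injective f hf).trans ?_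
  rw [Nat.card_prod, Nat.card_prod, Nat.card_prod, Nat.card_units, Nat.card_eq_fintype_card, pow_succ,
    pow_two, mul_assoc]

/-- no character of degree `56` -/
theorem no_56 {F : Type} [Field F] [Fintype F] (hF : Fintype.card F = 4)
    (ψ : IrrCharacter (_root_.Matrix.SpecialLinearGroup (Fin 3) F)) (hk : chKer ψ = Subgroup.center _) (hψ : ψ ≠ _root_.Cfsg.Agent.H677.CodMultiset.one _) :
    charDegree (ψ : _root_.Matrix.SpecialLinearGroup (Fin 3) F → ℂ) ≠ 56 := by
  classical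
  intro hdeg
  have := Characters.Core.finite_irr (G := _root_.Matrix.SpecialLinearGroup (Fin 3) F)
  let _ := Fintype.ofFinite (IrrCharacter (_root_.Matrix.SpecialLinearGroup (Fin 3) F))
  have hcp := charP_of (F := F) (p := 2) (f := 2) Nat.prime_two (by norm_num) (by rw [hF]; norm_num)
  have hZ3 : Nat.card (Subgroup.center (_root_.Matrix.SpecialLinearGroup (Fin 3) F)) = 3 := by
    rw [card_center (by norm_num), hF]; norm_num
  obtain ⟨z, hz, hzo, hzz⟩ := exists_gen (V := Subgroup.center (_root_.Matrix.SpecialLinearGroup (Fin 3) F))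
    (by rw [hZ3]; exact Nat.prime_three)
  rw [hZ3] at hzo
  have hz3 : z ^ 3 = 1 := orderOf_dvd_iff_pow_eq_one.1 hzo.dvd
  set t := tv ((1 : F), (0 : F)) with ht
  have ht2 : t ^ 2 = 1 := by
    rw [pow_two, ht, tv_mul]
    have h1 : ((1 : F), (0 : F)) + ((1 : F), (0 : F)) = (0 : F × F) := by
      refine Prod.ext ?_ ?_
      · change (1 : F) + 1 = 0
        exact CharTwo.add_self_eq_zero 1
      · change (0 : F) + 0 = 0
        exact add_zero 0
    rw [h1, tv_zero]
  -- the value at `t` is an integer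
  obtain ⟨n, hn⟩ : ∃ n : ℤ, (ψ : _root_.Matrix.SpecialLinearGroup (Fin 3) F → ℂ) t = n := by
    obtain ⟨d, hd⟩ : ∃ d : ℕ → ℕ, ∀ m : ℕ, (ψ : _root_.Matrix.SpecialLinearGroup (Fin 3) F → ℂ) (t ^ m) =
        ∑ j ∈ range 2, (d j : ℂ) * (-1) ^ (j * m) := by
      obtain ⟨χ, m, ρ, hρ, rfl⟩ := ψ
      exact Characters.Galois.exists_nat_coeffs ρ t (by norm_num) ht2 (IsPrimitiveRoot.neg_one 0 (by norm_num))
    have h1 := hd 1
    rw [pow_one, sum_range_succ, sum_range_one] at h1
    refine ⟨(d 0 : ℤ) - d 1, ?_⟩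
    rw [h1]
    push_cast
    ring
  -- restriction to the transvection group
  have hcf := Characters.Core.isIrr_isClassFunction ψ.2
  have hinj : Function.Injective (tvHom (F := F)) := by
    rw [injective_iff_map_eq_one]
    intro v hv
    have h1 : tv v.toAdd ∈ Subgroup.center (_root_.Matrix.SpecialLinearGroup (Fin 3) F) := by
      change tvHom v ∈ _
      rw [hv]
      exact Subgroup.one_mem _
    exact tv_center h1
  let _ := Fintype.ofFinite (tvHom (F := F)).range
  have hcard : Nat.card (tvHom (F := F)).range = 16 := by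
    rw [← Nat.card_congr (MonoidHom.ofInjective hinj).toEquiv]
    change Nat.card (F × F) = _
    rw [Nat.card_prod, Nat.card_eq_fintype_card, hF]
  obtain ⟨m, hm⟩ := exists_mult ψ (tvHom (F := F)).range
  have hsum : ∑ g : (tvHom (F := F)).range, (ψ : _root_.Matrix.SpecialLinearGroup (Fin 3) F → ℂ) g =
      ∑ v : F × F, (ψ : _root_.Matrix.SpecialLinearGroup (Fin 3) F → ℂ) (tv v) := by
    let E : F × F ≃ (tvHom (F := F)).range := Multiplicative.ofAdd.trans (MonoidHom.ofInjective hinj).toEquiv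
    exact (Equiv.sum_comp E (fun g => (ψ : _root_.Matrix.SpecialLinearGroup (Fin 3) F → ℂ) g)).symm
  have hval : ∀ v : F × F, v ≠ 0 → (ψ : _root_.Matrix.SpecialLinearGroup (Fin 3) F → ℂ) (tv v) = n := by
    intro v hv
    obtain ⟨g, hg⟩ := isConj_iff.1 (isConj_tv hv)
    rw [← hg, (Characters.Core.isClassFunction_def.1 hcf) _ g, ← ht, hn]
  rw [hsum, ← add_sum_erase univ _ (mem_univ (0 : F × F)), sum_congr rfl fun v hv => hval v (ne_of_mem_erase hv),
    sum_const, card_erase_of_mem (mem_univ _), card_univ, Fintype.card_prod, hF, tv_zero, ← charDegree_irr, hdeg,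
    hcard, nsmul_eq_mul] at hm
  have hm' : (56 : ℤ) + 15 * n = 16 * m := by
    have : ((56 + 15 * n : ℤ) : ℂ) = ((16 * m : ℤ) : ℂ) := by
      push_cast at hm ⊢
      exact hm
    exact_mod_cast this
  have hn64 : 64 ≤ n ^ 2 := by
    have h1 : n ≤ -8 ∨ 8 ≤ n := by omega
    rcases h1 with h1 | h1 <;> nlinarith only [hm', h1]
  -- column orthogonality
  have ho := orth hz hz3 three_ne_zero (c := 1) (by norm_num) t t (by
    intro k hk3 hk0 hcj
    obtain ⟨g, hg⟩ := isConj_iff.1 hcj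
    have h1 : (t * z ^ k) ^ 2 = 1 := by
      have h2 : (g * (t * z ^ k) * g⁻¹) ^ 2 = 1 := by rw [hg, ht2]
      rw [conj_pow, mul_inv_eq_one] at h2
      exact mul_left_cancel (h2.trans (mul_one g).symm)
    have hc : Commute t (z ^ k) := (Commute.pow_right (Subgroup.mem_center_iff.1 hz t) k)
    rw [hc.mul_pow, ht2, one_mul, ← pow_mul] at h1
    have h3 := orderOf_dvd_of_pow_eq_one h1
    rw [hzo] at h3
    omega) (IsConj.refl _)
  have hC := card_centralizer_tv (F := F)
  rw [← ht, hF] at hC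
  have h1 : ∑ χ ∈ Lam z 1, Complex.normSq ((χ : _root_.Matrix.SpecialLinearGroup (Fin 3) F → ℂ) t) ≤ 64 := by
    have h2 : ((∑ χ ∈ Lam z 1, Complex.normSq ((χ : _root_.Matrix.SpecialLinearGroup (Fin 3) F → ℂ) t) : ℝ) : ℂ) =
        (((3 : ℝ)⁻¹ * (Nat.card (Subgroup.centralizer ({t} : Set (_root_.Matrix.SpecialLinearGroup (Fin 3) F))) : ℝ) : ℝ) : ℂ) := by
      push_cast
      rw [Nat.cast_ofNat] at ho
      rw [← ho]
      exact sum_congr rfl fun χ _ => (Complex.mul_conj _).symm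
    have h3 := Complex.ofReal_injective h2
    rw [h3]
    have h4 : (Nat.card (Subgroup.centralizer ({t} : Set (_root_.Matrix.SpecialLinearGroup (Fin 3) F))) : ℝ) ≤ 192 := by
      exact_mod_cast hC.trans (by norm_num)
    linarith only [h4]
  have hone : _root_.Cfsg.Agent.H677.CodMultiset.one (_root_.Matrix.SpecialLinearGroup (Fin 3) F) ∈ Lam z 1 := by
    rw [mem_Lam, one_mul]; rfl
  have hψm : ψ ∈ Lam z 1 := by
    rw [mem_Lam, one_mul]
    have : z ∈ chKer ψ := by rw [hk]; exact hz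
    exact this
  have h2 : ∑ χ ∈ ({_root_.Cfsg.Agent.H677.CodMultiset.one _, ψ} : Finset (IrrCharacter (_root_.Matrix.SpecialLinearGroup (Fin 3) F))),
      Complex.normSq ((χ : _root_.Matrix.SpecialLinearGroup (Fin 3) F → ℂ) t) ≤ 64 := by
    refine le_trans (sum_le_sum_of_subset_of_nonneg ?_ fun _ _ _ => Complex.normSq_nonneg _) h1
    intro χ hχ
    rw [mem_insert, mem_singleton] at hχ
    rcases hχ with rfl | rfl
    · exact hone
    · exact hψm
  rw [sum_pair hψ.symm, hn] at h2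
  have h3 : (one (_root_.Matrix.SpecialLinearGroup (Fin 3) F) : _root_.Matrix.SpecialLinearGroup (Fin 3) F → ℂ) t = 1 := rfl
  rw [h3, map_one, Complex.normSq_intCast] at h2
  have h4 : (64 : ℝ) ≤ (n : ℝ) * n := by
    have : (64 : ℤ) ≤ n * n := by linarith only [hn64]
    exact_mod_cast this
  linarith only [h2, h4]

/-- the unipotent character of degree `56` of `GL₄(2)` -/
theorem exists_56 {F : Type} [Field F] [Fintype F] (hF : Fintype.card F = 2) :
    ∃ χ : IrrCharacter (GL (Fin 4) F), charDegree (χ : GL (Fin 4) F → ℂ) = 56 := by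
  let ν : Fin 4 → ℕ := ![0, 1, 1, 2]
  have hmono : Monotone ν := by
    intro i j hij
    fin_cases i <;> fin_cases j <;> simp only [ν, _root_.Fin.zero_eta, _root_.Fin.isValue, _root_.Std.le_refl, _root_.Matrix.cons_val_zero, _root_.Fin.mk_one, _root_.zero_le, _root_.Matrix.cons_val_one, _root_.Fin.reduceFinMk, _root_.Matrix.cons_val, _root_.nonpos_iff_eq_zero, _root_.one_ne_zero, _root_.Fin.reduceLE, _root_.Nat.one_le_ofNat, _root_.Fin.reduceEq] at hij ⊢
  have hsum : ∑ i, ν i = 4 := by simp [ν, Fin.sum_univ_four]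
  have h1 := S2421.result (F := F) ν hmono hsum
  have h2 := S2424.result (F := F) hF ν hmono hsum
  refine ⟨⟨_, h1⟩, ?_⟩
  have e1 : ∏ i : Fin 4, ∏ j ∈ Finset.range (ν i + i.val), ((∑ l ∈ Finset.range (j + 1), 2 ^ l : ℕ) : ℂ) = 615195 := by
    rw [Fin.prod_univ_four]
    simp only [ν, Finset.prod_range_succ, Finset.sum_range_succ, _root_.Fin.isValue, _root_.Matrix.cons_val_zero, _root_.Fin.coe_ofNat_eq_mod, _root_.Nat.zero_mod, _root_.add_zero, _root_.Finset.range_zero, _root_.Nat.cast_add, _root_.Nat.cast_sum, _root_.Nat.cast_pow, _root_.Nat.cast_ofNat, _root_.Finset.prod_empty, _root_.Matrix.cons_val_one, _root_.Nat.one_mod, _root_.Nat.reduceAdd, _root_.Finset.range_one, _root_.Finset.prod_singleton, _root_.Finset.sum_empty, _root_.pow_zero, _root_.zero_add, _root_.Finset.sum_singleton, _root_.pow_one, _root_.one_mul, _root_.Matrix.cons_val, _root_.Nat.reduceMod, _root_.Nat.mod_succ]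
    norm_num
  have e2 : (∏ j ∈ Finset.range 4, ((∑ l ∈ Finset.range (j + 1), 2 ^ l : ℕ) : ℂ)) = 315 := by
    simp only [Finset.prod_range_succ, Finset.sum_range_succ, _root_.Nat.cast_add, _root_.Nat.cast_sum, _root_.Nat.cast_pow, _root_.Nat.cast_ofNat, _root_.Finset.range_one, _root_.Finset.prod_singleton, _root_.Finset.range_zero, _root_.Finset.sum_empty, _root_.pow_zero, _root_.zero_add, _root_.Finset.sum_singleton, _root_.pow_one, _root_.one_mul]
    norm_num
  have e3 : ∏ i : Fin 4, ∏ j ∈ Finset.univ.filter (fun j : Fin 4 => i < j),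
      (((∑ l ∈ Finset.range (ν j + j.val), 2 ^ l : ℕ) : ℂ) - ((∑ l ∈ Finset.range (ν i + i.val), 2 ^ l : ℕ) : ℂ)) =
      1749888 := by
    have f0 : Finset.univ.filter (fun j : Fin 4 => (0 : Fin 4) < j) = {1, 2, 3} := by decide
    have f1 : Finset.univ.filter (fun j : Fin 4 => (1 : Fin 4) < j) = {2, 3} := by decide
    have f2 : Finset.univ.filter (fun j : Fin 4 => (2 : Fin 4) < j) = {3} := by decide
    have f3 : Finset.univ.filter (fun j : Fin 4 => (3 : Fin 4) < j) = ∅ := by decide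
    rw [Fin.prod_univ_four, f0, f1, f2, f3]
    simp only [ν, Finset.sum_range_succ, _root_.Fin.isValue, _root_.Nat.cast_sum, _root_.Nat.cast_pow, _root_.Nat.cast_ofNat, _root_.Matrix.cons_val_zero, _root_.Fin.coe_ofNat_eq_mod, _root_.Nat.zero_mod, _root_.add_zero, _root_.Finset.range_zero, _root_.Finset.sum_empty, _root_.CharP.cast_eq_zero, _root_.sub_zero, _root_.Finset.mem_insert, _root_.Fin.reduceEq, _root_.Finset.mem_singleton, _root_.or_self, _root_.not_false_eq_true, _root_.Finset.prod_insert, _root_.Matrix.cons_val_one, _root_.Nat.one_mod, _root_.Nat.reduceAdd, _root_.Finset.range_one, _root_.Finset.sum_singleton, _root_.pow_zero, _root_.pow_one, _root_.Matrix.cons_val, _root_.Nat.reduceMod, _root_.Finset.prod_singleton, _root_.Nat.mod_succ, _root_.Nat.reducePow, _root_.Finset.prod_empty, _root_.mul_one]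
    norm_num
  rw [e1, e2, e3] at h2
  have h3 : unipotentCharacterGL 4 F ν 1 = 56 := by
    have h4 : (4 * (4 - 1) * (4 - 2) / 6) = 4 := by norm_num
    rw [h4] at h2
    push_cast at h2
    have h5 : unipotentCharacterGL 4 F ν 1 * 9843120 = 56 * 9843120 := by
      rw [show (56 : ℂ) * 9843120 = 315 * 1749888 by norm_num, ← h2]
      ring
    exact mul_right_cancel₀ (by norm_num) h5
  change charDegree (unipotentCharacterGL 4 F ν) = 56
  unfold charDegree
  rw [h3]
  norm_num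

/-- the codegrees of `A₈` are not among those of `SL₃(4)` -/
theorem no_alt {F : Type} [Field F] [Fintype F] (hF : Fintype.card F = 4) {S : Type u} [Group S] [Finite S]
    [IsSimpleGroup S] (hS : Sub S (_root_.Matrix.SpecialLinearGroup (Fin 3) F)) (e : S ≃* alternatingGroup (Fin 8)) : False := by
  classical
  have hQ := qs_three (F := F)
  have hidx : (Subgroup.center (_root_.Matrix.SpecialLinearGroup (Fin 3) F)).index = 20160 := by
    have := index_three (F := F)
    rw [hF] at this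
    norm_num at this
    omega
  have hSc : Nat.card S = 20160 := by
    rw [Nat.card_congr e.toEquiv]
    have h1 := two_mul_nat_card_alternatingGroup (α := Fin 8)
    rw [Nat.card_perm, Nat.card_fin] at h1
    have h2 : Nat.factorial 8 = 40320 := by decide
    omega
  obtain ⟨t, ht, -, -, -, hdata⟩ := SimThree.data_three (p := 2) (f := 2) Nat.prime_two (by norm_num)
    (by rw [hF]; norm_num) hS
  rw [hSc, hidx] at ht
  have ht1 : t = 1 := by omega
  subst ht1
  obtain ⟨e'⟩ := H168.gl_equiv (F := ZMod 2) (ZMod.card 2)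
  obtain ⟨χ, hχ⟩ := exists_56 (F := ZMod 2) (ZMod.card 2)
  let E : S ≃* GL (Fin 4) (ZMod 2) := e.trans e'.symm
  have hχ' : charDegree (pull E χ : S → ℂ) = 56 := by
    rw [← hχ]
    unfold charDegree
    rw [pull_apply, map_one]
  have hne : pull E χ ≠ _root_.Cfsg.Agent.H677.CodMultiset.one S := by
    intro h
    rw [h, charDegree_one] at hχ'
    omega
  obtain ⟨ψ, hψ, h1⟩ := hdata _ hne
  rw [hχ', one_mul] at h1
  rcases h1 with ⟨h1, h2⟩ | ⟨h1, h2, h3⟩
  · exact no_56 hF ψ h2 hψ h1.symm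
  · have := Characters.Core.finite_irr (G := _root_.Matrix.SpecialLinearGroup (Fin 3) F)
    let _ := Fintype.ofFinite (IrrCharacter (_root_.Matrix.SpecialLinearGroup (Fin 3) F))
    obtain ⟨z, hz, hzo, hzz⟩ := exists_gen (V := Subgroup.center (_root_.Matrix.SpecialLinearGroup (Fin 3) F))
      (by rw [h3]; exact Nat.prime_three)
    rw [h3] at hzo
    have hz3 : z ^ 3 = 1 := orderOf_dvd_iff_pow_eq_one.1 hzo.dvd
    obtain ⟨c, hc, hcψ⟩ := Lam.exists_scalar ψ hz hz3
    have hmem : ψ ∈ Lam z c := by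
      rw [mem_Lam]
      have := hcψ 1
      rwa [one_mul] at this
    have h4 := sum_sq_Lam hz hzo hc
    have h5 : charDegree (ψ : _root_.Matrix.SpecialLinearGroup (Fin 3) F → ℂ) ^ 2 ≤
        ∑ χ ∈ Lam z c, charDegree (χ : _root_.Matrix.SpecialLinearGroup (Fin 3) F → ℂ) ^ 2 :=
      single_le_sum (f := fun χ : IrrCharacter (_root_.Matrix.SpecialLinearGroup (Fin 3) F) =>
        charDegree (χ : _root_.Matrix.SpecialLinearGroup (Fin 3) F → ℂ) ^ 2) (fun _ _ => Nat.zero_le _) hmem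
    rw [← Subgroup.card_mul_index (Subgroup.center (_root_.Matrix.SpecialLinearGroup (Fin 3) F)), h3, hidx] at h4
    rw [← h1] at h5
    omega

end Cfsg.Agent.H725.AltEight
end

-- part: H725/SevenComb
section
/-!
# A combinatorial lemma for self-centralising elements of order seven (helper725)
-/

set_option autoImplicit false

namespace Cfsg.Agent.H725.Seven

open Finset

theorem comb {ι : Type*} [DecidableEq ι] (Λ : Finset ι) (s r deg : ι → ℤ) (hdeg : ∀ i ∈ Λ, 0 < deg i)
    (hs : ∑ i ∈ Λ, s i ^ 2 = 14) (hr : ∑ i ∈ Λ, r i ^ 2 = 2) (hpar : ∀ i ∈ Λ, (2 : ℤ) ∣ s i - r i)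
    (hsd : ∑ i ∈ Λ, s i * deg i = 0) (hrd : ∑ i ∈ Λ, r i * deg i = 0) (h7 : ∀ i ∈ Λ, (7 : ℤ) ∣ deg i + 3 * s i) :
    ∃ (c σ : ℤ) (E N : Finset ι), E ⊆ Λ ∧ N ⊆ Λ ∧ Disjoint E N ∧ E.card = 2 ∧ N.card = 3 ∧ (σ = 1 ∨ σ = -1) ∧
      (∀ i ∈ E, s i = σ ∧ deg i = c) ∧ (∀ i ∈ N, s i = 2 ∨ s i = -2) ∧
      (∀ i ∈ Λ, i ∉ E → i ∉ N → s i = 0) ∧ ∑ i ∈ N, s i * deg i + 2 * σ * c = 0 := by
  set E := Λ.filter (fun i => r i ≠ 0) with hE
  have hEr : ∑ i ∈ E, r i ^ 2 = 2 := by
    rw [← hr, hE, sum_filter]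
    refine sum_congr rfl fun i _ => ?_
    split_ifs with h
    · rfl
    · rw [not_not.1 h]; norm_num
  have hge : ∀ i ∈ E, 1 ≤ r i ^ 2 := by
    intro i hi
    have h1 := (mem_filter.1 hi).2
    have : 0 < r i ^ 2 := by positivity
    omega
  have hEc : E.card = 2 := by
    have h1 : (E.card : ℤ) ≤ 2 := by
      rw [← hEr]
      have := card_nsmul_le_sum E (fun i => r i ^ 2) 1 hge
      simpa using this
    have h2 : E.card ≤ 2 := by exact_mod_cast h1
    interval_cases h : E.card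
    · rw [card_eq_zero] at h
      rw [h, sum_empty] at hEr
      omega
    · exfalso
      obtain ⟨e, he⟩ := card_eq_one.1 h
      rw [he, sum_singleton] at hEr
      have h3 : r e < 2 := by nlinarith only [hEr]
      have h4 : -2 < r e := by nlinarith only [hEr]
      interval_cases r e <;> omega
    · rfl
  obtain ⟨e₁, e₂, hne, hE2⟩ := card_eq_two.1 hEc
  have he₁ : e₁ ∈ E := by rw [hE2]; simp
  have he₂ : e₂ ∈ E := by rw [hE2]; simp
  have he₁Λ := (mem_filter.1 he₁).1
  have he₂Λ := (mem_filter.1 he₂).1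
  rw [hE2, sum_pair hne] at hEr
  have h1 := hge e₁ he₁
  have h2 := hge e₂ he₂
  have hr1 : r e₁ = 1 ∨ r e₁ = -1 := by
    have h3 : r e₁ < 2 := by nlinarith only [hEr]
    have h4 : -2 < r e₁ := by nlinarith only [hEr]
    interval_cases r e₁ <;> omega
  have hr2 : r e₂ = 1 ∨ r e₂ = -1 := by
    have h3 : r e₂ < 2 := by nlinarith only [hEr]
    have h4 : -2 < r e₂ := by nlinarith only [hEr]
    interval_cases r e₂ <;> omega
  have hrdE : r e₁ * deg e₁ + r e₂ * deg e₂ = 0 := by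
    have h3 : ∑ i ∈ E, r i * deg i = 0 := by
      rw [← hrd, hE, sum_filter]
      refine sum_congr rfl fun i _ => ?_
      split_ifs with h
      · rfl
      · rw [not_not.1 h, zero_mul]
    rwa [hE2, sum_pair hne] at h3
  have hd1 := hdeg e₁ he₁Λ
  have hd2 := hdeg e₂ he₂Λ
  have hdd : deg e₁ = deg e₂ := by
    rcases hr1 with h | h <;> rcases hr2 with h' | h' <;> rw [h, h'] at hrdE <;> (clear * - hrdE hd1 hd2; omega)
  have hsub : ({e₁, e₂} : Finset ι) ⊆ Λ := by
    intro i hi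
    rw [mem_insert, mem_singleton] at hi
    rcases hi with rfl | rfl <;> assumption
  have hs2 : s e₁ ^ 2 + s e₂ ^ 2 ≤ 14 := by
    rw [← hs, ← sum_pair (f := fun i => s i ^ 2) hne]
    exact sum_le_sum_of_subset_of_nonneg hsub fun i _ _ => sq_nonneg _
  have hs1b : s e₁ ≤ 3 ∧ -3 ≤ s e₁ := by constructor <;> nlinarith only [hs2, sq_nonneg (s e₂)]
  have hs2b : s e₂ ≤ 3 ∧ -3 ≤ s e₂ := by constructor <;> nlinarith only [hs2, sq_nonneg (s e₁)]
  have h71 := h7 e₁ he₁Λ
  have h72 := h7 e₂ he₂Λ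
  have hss : s e₁ = s e₂ := by
    rw [hdd] at h71
    have h3 := dvd_sub h71 h72
    have h4 : deg e₂ + 3 * s e₁ - (deg e₂ + 3 * s e₂) = 3 * (s e₁ - s e₂) := by ring
    rw [h4] at h3
    (clear * - hs1b hs2b h71 h72; omega)
  have hp1 := hpar e₁ he₁Λ
  have hσ : s e₁ = 1 ∨ s e₁ = -1 := by
    rw [← hss] at hs2
    obtain ⟨h3, h4⟩ := hs1b
    have h5 : s e₁ < 3 := by nlinarith only [hs2]
    have h6 : -3 < s e₁ := by nlinarith only [hs2]
    rcases hr1 with h | h <;> rw [h] at hp1 <;> (clear * - hp1 h5 h6; omega)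
  have hs11 : s e₁ ^ 2 = 1 := by rcases hσ with h | h <;> rw [h] <;> norm_num
  set N := Λ.filter (fun i => i ∉ E ∧ s i ≠ 0) with hN
  have hdisj : Disjoint E N := by
    rw [Finset.disjoint_left]
    intro i hi hi'
    exact (mem_filter.1 hi').2.1 hi
  have hEΛ : E ⊆ Λ := filter_subset _ _
  have hNΛ : N ⊆ Λ := filter_subset _ _
  have hzero : ∀ i ∈ Λ, i ∉ E → i ∉ N → s i = 0 := by
    intro i hi hiE hiN
    by_contra h
    exact hiN (mem_filter.2 ⟨hi, hiE, h⟩)
  have hsplit : ∀ f : ι → ℤ, (∀ i, s i = 0 → f i = 0) → ∑ i ∈ Λ, f i = ∑ i ∈ E, f i + ∑ i ∈ N, f i := by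
    intro f hf
    rw [← sum_union hdisj]
    refine (sum_subset (union_subset hEΛ hNΛ) fun i hi hi' => ?_).symm
    rw [mem_union, not_or] at hi'
    exact hf i (hzero i hi hi'.1 hi'.2)
  have hsN : ∑ i ∈ N, s i ^ 2 = 12 := by
    have h3 := hsplit (fun i => s i ^ 2) (fun i h => by rw [h]; norm_num)
    rw [hs, hE2, sum_pair hne, ← hss, hs11] at h3
    omega
  have heven : ∀ i ∈ N, (2 : ℤ) ∣ s i := by
    intro i hi
    obtain ⟨h3, h4, -⟩ := mem_filter.1 hi
    have h5 : r i = 0 := by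
      by_contra h
      exact h4 (mem_filter.2 ⟨h3, h⟩)
    have h6 := hpar i h3
    rwa [h5, sub_zero] at h6
  have hN2 : ∀ i ∈ N, s i = 2 ∨ s i = -2 := by
    intro i hi
    obtain ⟨h3, h4, h5⟩ := mem_filter.1 hi
    obtain ⟨k, hk⟩ := heven i hi
    have h6 : s i ^ 2 ≤ 12 := by
      rw [← hsN]
      exact single_le_sum (f := fun i => s i ^ 2) (fun j _ => sq_nonneg _) hi
    have h7 : s i ≤ 3 := by nlinarith only [h6]
    have h8 : -3 ≤ s i := by nlinarith only [h6]
    (clear * - h5 hk h7 h8; omega)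
  refine ⟨deg e₁, s e₁, E, N, hEΛ, hNΛ, hdisj, hEc, ?_, hσ, ?_, hN2, hzero, ?_⟩
  · have h3 : ∑ i ∈ N, s i ^ 2 = ∑ _i ∈ N, (4 : ℤ) := by
      refine sum_congr rfl fun i hi => ?_
      rcases hN2 i hi with h | h <;> rw [h] <;> norm_num
    rw [h3, sum_const, nsmul_eq_mul] at hsN
    omega
  · intro i hi
    rw [hE2, mem_insert, mem_singleton] at hi
    rcases hi with rfl | rfl
    · exact ⟨rfl, rfl⟩
    · exact ⟨hss.symm, hdd.symm⟩
  · have h3 := hsplit (fun i => s i * deg i) (fun i h => by rw [h, zero_mul])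
    rw [hsd, hE2, sum_pair hne, ← hss, ← hdd] at h3
    linarith only [h3]

end Cfsg.Agent.H725.Seven
end

-- part: H725/SevenLoc
section
/-!
# Characters and an element of order seven with centraliser `⟨x⟩ × ⟨z⟩` (helper725)
-/

set_option autoImplicit false
set_option linter.unusedSectionVars false

namespace Cfsg.Agent.H725.Seven

open Cfsg Cfsg.Agent.H686.CharKit Cfsg.Agent.H677.CodPrime Cfsg.Agent.H677.CodMultiset
open Finset ComplexConjugate Cfsg.Agent.H725.Lam

universe u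

variable {G : Type u} [Group G] [Finite G]

/-- local data at seven -/
structure Loc (z x : G) (n : ℕ) : Prop where
  hn : n ≠ 0
  hz : z ∈ Subgroup.center G
  hzn : z ^ n = 1
  hx : x ^ 7 = 1
  hC : Nat.card (Subgroup.centralizer ({x} : Set G)) = 7 * n
  h2 : IsConj x (x ^ 2)
  hone : ∀ k < n, x * z ^ k ≠ 1
  hinv : ∀ k < n, ¬ IsConj (x * z ^ k) x⁻¹
  hself : ∀ k < n, k ≠ 0 → ¬ IsConj (x * z ^ k) x

section
variable {ζ : ℂ}

theorem zeta_sum (hζ : IsPrimitiveRoot ζ 7) : 1 + ζ + ζ ^ 2 + ζ ^ 3 + ζ ^ 4 + ζ ^ 5 + ζ ^ 6 = 0 := by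
  have h := hζ.geom_sum_eq_zero (by norm_num)
  simpa only [Finset.sum_range_succ, add_assoc, _root_.Finset.range_one, _root_.Finset.sum_singleton, _root_.pow_zero, _root_.pow_one] using h

/-- inversion of the multiplicities -/
theorem inversion (hζ : IsPrimitiveRoot ζ 7) {X : ℕ → ℂ} {d : ℕ → ℕ}
    (h : ∀ m : ℕ, X m = ∑ i ∈ range 7, (d i : ℂ) * ζ ^ (i * m)) {j : ℕ} (hj : j < 7) :
    ∑ m ∈ range 7, X m * ζ ^ ((7 - j) * m) = 7 * (d j : ℂ) := by
  have h1 : ∑ m ∈ range 7, X m * ζ ^ ((7 - j) * m) =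
      ∑ i ∈ range 7, (d i : ℂ) * ∑ m ∈ range 7, (ζ ^ (i + (7 - j))) ^ m := by
    calc ∑ m ∈ range 7, X m * ζ ^ ((7 - j) * m)
        = ∑ m ∈ range 7, ∑ i ∈ range 7, (d i : ℂ) * (ζ ^ (i + (7 - j))) ^ m := by
          refine sum_congr rfl fun m _ => ?_
          rw [h m, sum_mul]
          refine sum_congr rfl fun i _ => ?_
          rw [mul_assoc, ← pow_add, ← pow_mul]
          congr 2
          ring
      _ = ∑ i ∈ range 7, ∑ m ∈ range 7, (d i : ℂ) * (ζ ^ (i + (7 - j))) ^ m := sum_comm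
      _ = _ := sum_congr rfl fun i _ => by rw [mul_sum]
  rw [h1, sum_eq_single j]
  · rw [show j + (7 - j) = 7 by omega, hζ.pow_eq_one]
    simp
    ring
  · intro i hi hij
    have h2 : (ζ ^ (i + (7 - j))) ≠ 1 := by
      intro h3
      have h4 := (hζ.pow_eq_one_iff_dvd _).1 h3
      have := mem_range.1 hi
      omega
    have h3 := mul_geom_sum (ζ ^ (i + (7 - j))) 7
    have h4 : (ζ ^ (i + (7 - j))) ^ 7 = 1 := by
      rw [← pow_mul, mul_comm, pow_mul, hζ.pow_eq_one, one_pow]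
    rw [h4, sub_self] at h3
    rcases mul_eq_zero.1 h3 with h5 | h5
    · exact absurd (sub_eq_zero.1 h5) h2
    · rw [h5, mul_zero]
  · intro h2
    exact absurd (mem_range.2 hj) h2

/-- the multiplicities -/
theorem coeffs (hζ : IsPrimitiveRoot ζ 7) {x : G} (hx : x ^ 7 = 1) (h2 : IsConj x (x ^ 2)) (χ : IrrCharacter G) :
    ∃ a b c : ℕ,
      7 * (a : ℂ) = (χ : G → ℂ) 1 + 3 * (χ : G → ℂ) x + 3 * (χ : G → ℂ) x⁻¹ ∧
      7 * (b : ℂ) = (χ : G → ℂ) 1 + (χ : G → ℂ) x * (ζ ^ 3 + ζ ^ 5 + ζ ^ 6) +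
        (χ : G → ℂ) x⁻¹ * (ζ + ζ ^ 2 + ζ ^ 4) ∧
      7 * (c : ℂ) = (χ : G → ℂ) 1 + (χ : G → ℂ) x * (ζ + ζ ^ 2 + ζ ^ 4) +
        (χ : G → ℂ) x⁻¹ * (ζ ^ 3 + ζ ^ 5 + ζ ^ 6) := by
  have hcf := Characters.Core.isIrr_isClassFunction χ.2
  have hconj : ∀ a b : G, IsConj a b → (χ : G → ℂ) a = (χ : G → ℂ) b := by
    intro a b h
    obtain ⟨g, hg⟩ := isConj_iff.1 h
    rw [← hg, (Characters.Core.isClassFunction_def.1 hcf) a g]
  have hpow : ∀ k : ℕ, (χ : G → ℂ) (x ^ k) = (χ : G → ℂ) (x ^ (2 * k)) := by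
    intro k
    apply hconj
    obtain ⟨g, hg⟩ := isConj_iff.1 h2
    refine isConj_iff.2 ⟨g, ?_⟩
    rw [← conj_pow, hg, ← pow_mul]
  obtain ⟨d, hd⟩ : ∃ d : ℕ → ℕ, ∀ m : ℕ, (χ : G → ℂ) (x ^ m) = ∑ j ∈ range 7, (d j : ℂ) * ζ ^ (j * m) := by
    obtain ⟨χ, m, ρ, hρ, rfl⟩ := χ
    exact Characters.Galois.exists_nat_coeffs ρ x (by norm_num) hx hζ
  have hinv : x⁻¹ = x ^ 6 := by
    rw [inv_eq_iff_mul_eq_one, ← pow_succ', hx]
  have e0 : (χ : G → ℂ) (x ^ 0) = (χ : G → ℂ) 1 := by rw [pow_zero]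
  have e1 : (χ : G → ℂ) (x ^ 1) = (χ : G → ℂ) x := by rw [pow_one]
  have e2 : (χ : G → ℂ) (x ^ 2) = (χ : G → ℂ) x := by rw [← e1]; exact (hpow 1).symm
  have e4 : (χ : G → ℂ) (x ^ 4) = (χ : G → ℂ) x := by rw [← e2]; exact (hpow 2).symm
  have e6 : (χ : G → ℂ) (x ^ 6) = (χ : G → ℂ) x⁻¹ := by rw [hinv]
  have e5 : (χ : G → ℂ) (x ^ 5) = (χ : G → ℂ) x⁻¹ := by
    rw [← e6, hpow 6, show x ^ (2 * 6) = x ^ 5 by rw [show 2 * 6 = 7 + 5 by norm_num, pow_add, hx, one_mul]]
  have e3 : (χ : G → ℂ) (x ^ 3) = (χ : G → ℂ) x⁻¹ := by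
    rw [← e5, hpow 5, show x ^ (2 * 5) = x ^ 3 by rw [show 2 * 5 = 7 + 3 by norm_num, pow_add, hx, one_mul]]
  have hz7 := hζ.pow_eq_one
  have hj := fun (j : ℕ) (hj : j < 7) => inversion hζ (X := fun m => (χ : G → ℂ) (x ^ m)) hd hj
  have hexp : ∀ k : ℕ, ∑ m ∈ range 7, (χ : G → ℂ) (x ^ m) * ζ ^ (k * m) =
      (χ : G → ℂ) 1 + (χ : G → ℂ) x * (ζ ^ k + ζ ^ (2 * k) + ζ ^ (4 * k)) +
        (χ : G → ℂ) x⁻¹ * (ζ ^ (3 * k) + ζ ^ (5 * k) + ζ ^ (6 * k)) := by
    intro k
    simp only [Finset.sum_range_succ, Finset.sum_range_zero, e0, e1, e2, e3, e4, e5, e6]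
    rw [mul_comm k 2, mul_comm k 3, mul_comm k 4, mul_comm k 5, mul_comm k 6]
    simp only [mul_zero, mul_one, pow_zero]
    ring
  refine ⟨d 0, d 1, d 3, ?_, ?_, ?_⟩
  · rw [← hj 0 (by norm_num), hexp]
    have h3 : ζ ^ (7 - 0) = 1 := hz7
    have h4 : ∀ k : ℕ, ζ ^ (k * (7 - 0)) = 1 := by
      intro k
      rw [mul_comm, pow_mul, h3, one_pow]
    rw [h3, h4, h4, h4, h4, h4]
    ring
  · rw [← hj 1 (by norm_num), hexp]
    have h3 : ζ ^ (7 - 1) = ζ ^ 6 := rfl
    have h4 : ζ ^ (2 * (7 - 1)) = ζ ^ 5 := by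
      rw [show 2 * (7 - 1) = 7 + 5 by norm_num, pow_add, hz7, one_mul]
    have h5 : ζ ^ (4 * (7 - 1)) = ζ ^ 3 := by
      rw [show 4 * (7 - 1) = 7 * 3 + 3 by norm_num, pow_add, pow_mul, hz7, one_pow, one_mul]
    have h6 : ζ ^ (3 * (7 - 1)) = ζ ^ 4 := by
      rw [show 3 * (7 - 1) = 7 * 2 + 4 by norm_num, pow_add, pow_mul, hz7, one_pow, one_mul]
    have h7 : ζ ^ (5 * (7 - 1)) = ζ ^ 2 := by
      rw [show 5 * (7 - 1) = 7 * 4 + 2 by norm_num, pow_add, pow_mul, hz7, one_pow, one_mul]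
    have h8 : ζ ^ (6 * (7 - 1)) = ζ := by
      rw [show 6 * (7 - 1) = 7 * 5 + 1 by norm_num, pow_add, pow_mul, hz7, one_pow, one_mul, pow_one]
    rw [h3, h4, h5, h6, h7, h8]
    ring
  · rw [← hj 3 (by norm_num), hexp]
    have h3 : ζ ^ (7 - 3) = ζ ^ 4 := rfl
    have h4 : ζ ^ (2 * (7 - 3)) = ζ := by
      rw [show 2 * (7 - 3) = 7 + 1 by norm_num, pow_add, hz7, one_mul, pow_one]
    have h5 : ζ ^ (4 * (7 - 3)) = ζ ^ 2 := by
      rw [show 4 * (7 - 3) = 7 * 2 + 2 by norm_num, pow_add, pow_mul, hz7, one_pow, one_mul]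
    have h6 : ζ ^ (3 * (7 - 3)) = ζ ^ 5 := by
      rw [show 3 * (7 - 3) = 7 + 5 by norm_num, pow_add, hz7, one_mul]
    have h7 : ζ ^ (5 * (7 - 3)) = ζ ^ 6 := by
      rw [show 5 * (7 - 3) = 7 * 2 + 6 by norm_num, pow_add, pow_mul, hz7, one_pow, one_mul]
    have h8 : ζ ^ (6 * (7 - 3)) = ζ ^ 3 := by
      rw [show 6 * (7 - 3) = 7 * 3 + 3 by norm_num, pow_add, pow_mul, hz7, one_pow, one_mul]
    rw [h3, h4, h5, h6, h7, h8]
    ring

end

/-- **The characters over `c` and the element `x`.** -/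
theorem Loc.main [Fintype (IrrCharacter G)] {z x : G} {n : ℕ} (L : Loc z x n) {c : ℂ} (hc : c ^ n = 1) :
    ∃ s r : IrrCharacter G → ℤ, (∑ χ ∈ Lam z c, s χ ^ 2 = 14) ∧ (∑ χ ∈ Lam z c, r χ ^ 2 = 2) ∧
      (∀ χ, (2 : ℤ) ∣ s χ - r χ) ∧ (∑ χ ∈ Lam z c, s χ * (charDegree (χ : G → ℂ) : ℤ) = 0) ∧
      (∑ χ ∈ Lam z c, r χ * (charDegree (χ : G → ℂ) : ℤ) = 0) ∧
      (∀ χ : IrrCharacter G, (7 : ℤ) ∣ (charDegree (χ : G → ℂ) : ℤ) + 3 * s χ) := by
  classical
  set ζ : ℂ := Complex.exp (2 * Real.pi * Complex.I / (7 : ℕ)) with hζd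
  have hζ : IsPrimitiveRoot ζ 7 := Complex.isPrimitiveRoot_exp 7 (by norm_num)
  set u : ℂ := ζ + ζ ^ 2 + ζ ^ 4 with hu
  set v : ℂ := ζ ^ 3 + ζ ^ 5 + ζ ^ 6 with hv
  have huv : u + v = -1 := by
    have := zeta_sum hζ
    rw [hu, hv]
    linear_combination this
  have huv2 : u * v = 2 := by
    have h0 := zeta_sum hζ
    have h7 := hζ.pow_eq_one
    rw [hu, hv]
    have e : (ζ + ζ ^ 2 + ζ ^ 4) * (ζ ^ 3 + ζ ^ 5 + ζ ^ 6) =
      ζ ^ 4 + ζ ^ 6 + ζ ^ 7 + ζ ^ 5 + ζ ^ 7 + ζ ^ 7 * ζ + ζ ^ 7 + ζ ^ 7 * ζ ^ 2 + ζ ^ 7 * ζ ^ 3 := by ring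
    rw [e, h7]
    linear_combination h0
  choose a b e h1 h2 h3 using fun χ : IrrCharacter G => coeffs hζ L.hx L.h2 χ
  have hcinv : ∀ χ : IrrCharacter G, conj ((χ : G → ℂ) x) = (χ : G → ℂ) x⁻¹ := fun χ =>
    (Characters.Core.isCharacter_apply_inv (Characters.Core.isIrr_isCharacter χ.2) x).symm
  have hn' : (n : ℂ) ≠ 0 := Nat.cast_ne_zero.2 L.hn
  -- the sums
  have S1 : ∑ χ ∈ Lam z c, (χ : G → ℂ) x * (χ : G → ℂ) x⁻¹ = 7 := by
    have h := orth L.hz L.hzn L.hn hc x x L.hself (IsConj.refl x)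
    rw [L.hC] at h
    rw [← sum_congr rfl fun χ _ => by rw [← hcinv χ]]
    rw [h]
    push_cast
    field_simp
  have S2 : ∑ χ ∈ Lam z c, (χ : G → ℂ) x * (χ : G → ℂ) x = 0 := by
    have h := orth_zero L.hz L.hzn L.hn hc x x⁻¹ L.hinv
    rw [← h]
    refine sum_congr rfl fun χ _ => ?_
    rw [← hcinv χ, Complex.conj_conj]
  have S3 : ∑ χ ∈ Lam z c, (χ : G → ℂ) x⁻¹ * (χ : G → ℂ) x⁻¹ = 0 := by
    have h := congrArg conj S2
    rw [map_sum, map_zero] at h
    rw [← h]
    refine sum_congr rfl fun χ _ => ?_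
    rw [map_mul, hcinv χ]
  have S4 : ∑ χ ∈ Lam z c, (χ : G → ℂ) x * (charDegree (χ : G → ℂ) : ℂ) = 0 := by
    have h := orth_zero L.hz L.hzn L.hn hc x 1 (fun k hk hcj => L.hone k hk (by
      rwa [isConj_comm, isConj_one_right] at hcj))
    rw [← h]
    refine sum_congr rfl fun χ _ => ?_
    rw [← charDegree_irr χ, Complex.conj_natCast]
  have S5 : ∑ χ ∈ Lam z c, (χ : G → ℂ) x⁻¹ * (charDegree (χ : G → ℂ) : ℂ) = 0 := by
    have h := congrArg conj S4
    rw [map_sum, map_zero] at h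
    rw [← h]
    refine sum_congr rfl fun χ _ => ?_
    rw [map_mul, hcinv χ, Complex.conj_natCast]
  -- `δ₁ = a - b`, `δ₂ = a - e`
  have d1 : ∀ χ : IrrCharacter G, 7 * ((a χ : ℂ) - b χ) = (χ : G → ℂ) x * (3 - v) + (χ : G → ℂ) x⁻¹ * (3 - u) := by
    intro χ
    linear_combination h1 χ - h2 χ
  have d2 : ∀ χ : IrrCharacter G, 7 * ((a χ : ℂ) - e χ) = (χ : G → ℂ) x * (3 - u) + (χ : G → ℂ) x⁻¹ * (3 - v) := by
    intro χ
    linear_combination h1 χ - h3 χ
  set s : IrrCharacter G → ℤ := fun χ => 2 * (a χ : ℤ) - b χ - e χ with hs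
  set r : IrrCharacter G → ℤ := fun χ => (e χ : ℤ) - b χ with hr
  have sC : ∀ χ : IrrCharacter G, ((s χ : ℤ) : ℂ) = (χ : G → ℂ) x + (χ : G → ℂ) x⁻¹ := by
    intro χ
    rw [hs]
    push_cast
    have : 7 * ((2 * (a χ : ℂ)) - b χ - e χ) = 7 * ((χ : G → ℂ) x + (χ : G → ℂ) x⁻¹) := by
      linear_combination d1 χ + d2 χ - ((χ : G → ℂ) x + (χ : G → ℂ) x⁻¹) * huv
    linear_combination this / 7
  have rC : ∀ χ : IrrCharacter G, 7 * ((r χ : ℤ) : ℂ) = ((χ : G → ℂ) x - (χ : G → ℂ) x⁻¹) * (u - v) := by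
    intro χ
    rw [hr]
    push_cast
    linear_combination d1 χ - d2 χ
  have huv3 : (u - v) ^ 2 = -7 := by
    linear_combination (u + v - 1) * huv - 4 * huv2
  refine ⟨s, r, ?_, ?_, ?_, ?_, ?_, ?_⟩
  · have h : ((∑ χ ∈ Lam z c, s χ ^ 2 : ℤ) : ℂ) = ((14 : ℤ) : ℂ) := by
      push_cast
      have : ∀ χ ∈ Lam z c, ((s χ : ℤ) : ℂ) ^ 2 = (χ : G → ℂ) x * (χ : G → ℂ) x +
          (χ : G → ℂ) x⁻¹ * (χ : G → ℂ) x⁻¹ + 2 * ((χ : G → ℂ) x * (χ : G → ℂ) x⁻¹) := by
        intro χ _
        rw [sC]; ring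
      rw [sum_congr rfl this, sum_add_distrib, sum_add_distrib, ← mul_sum, S1, S2, S3]
      norm_num
    exact_mod_cast h
  · have h : ((∑ χ ∈ Lam z c, r χ ^ 2 : ℤ) : ℂ) = ((2 : ℤ) : ℂ) := by
      push_cast
      have h49 : ∀ χ ∈ Lam z c, ((r χ : ℤ) : ℂ) ^ 2 = (-1 / 7) * ((χ : G → ℂ) x * (χ : G → ℂ) x +
          (χ : G → ℂ) x⁻¹ * (χ : G → ℂ) x⁻¹ - 2 * ((χ : G → ℂ) x * (χ : G → ℂ) x⁻¹)) := by
        intro χ _
        have h5 : (7 * ((r χ : ℤ) : ℂ)) ^ 2 = ((χ : G → ℂ) x - (χ : G → ℂ) x⁻¹) ^ 2 * (-7) := by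
          rw [rC χ, mul_pow, huv3]
        linear_combination h5 / 49
      rw [sum_congr rfl h49, ← mul_sum, sum_sub_distrib, sum_add_distrib, ← mul_sum, S1, S2, S3]
      norm_num
    exact_mod_cast h
  · intro χ
    refine ⟨(a χ : ℤ) - e χ, ?_⟩
    rw [hs, hr]
    ring
  · have h : ((∑ χ ∈ Lam z c, s χ * (charDegree (χ : G → ℂ) : ℤ) : ℤ) : ℂ) = ((0 : ℤ) : ℂ) := by
      push_cast
      have : ∀ χ ∈ Lam z c, ((s χ : ℤ) : ℂ) * (charDegree (χ : G → ℂ) : ℂ) =
          (χ : G → ℂ) x * (charDegree (χ : G → ℂ) : ℂ) + (χ : G → ℂ) x⁻¹ * (charDegree (χ : G → ℂ) : ℂ) := by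
        intro χ _
        rw [sC]; ring
      rw [sum_congr rfl this, sum_add_distrib, S4, S5, add_zero]
    exact_mod_cast h
  · have h : ((∑ χ ∈ Lam z c, r χ * (charDegree (χ : G → ℂ) : ℤ) : ℤ) : ℂ) = ((0 : ℤ) : ℂ) := by
      push_cast
      have : ∀ χ ∈ Lam z c, ((r χ : ℤ) : ℂ) * (charDegree (χ : G → ℂ) : ℂ) =
          (u - v) / 7 * ((χ : G → ℂ) x * (charDegree (χ : G → ℂ) : ℂ) -
            (χ : G → ℂ) x⁻¹ * (charDegree (χ : G → ℂ) : ℂ)) := by
        intro χ _
        linear_combination (charDegree (χ : G → ℂ) : ℂ) / 7 * rC χ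
      rw [sum_congr rfl this, ← mul_sum, sum_sub_distrib, S4, S5, sub_zero, mul_zero]
    exact_mod_cast h
  · intro χ
    refine ⟨a χ, ?_⟩
    have h : ((((charDegree (χ : G → ℂ) : ℤ) + 3 * s χ : ℤ)) : ℂ) = ((7 * (a χ : ℤ) : ℤ) : ℂ) := by
      push_cast
      rw [sC, h1 χ, charDegree_irr]
      ring
    exact_mod_cast h

end Cfsg.Agent.H725.Seven
end

-- part: H725/SevenLin
section
/-!
# Elements of order seven of `SL₃(4)` (helper725)
-/

set_option autoImplicit false

namespace Cfsg.Agent.H725.Seven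

open Module

section
variable {F : Type*} [Field F] [Fintype F] {V : Type*} [AddCommGroup V] [Module F V] [Module.Finite F V]

theorem card_inv {T : V →ₗ[F] V} (hT : T ^ 7 = 1) (U : Submodule F V) (hU : ∀ u ∈ U, T u ∈ U) :
    Nat.card U ≡ Nat.card {u : U // T u = u} [MOD 7] := by
  classical
  have : Finite V := Module.finite_of_finite F
  let _ := Fintype.ofFinite V
  let _ := Fintype.ofFinite U
  have := Fact.mk (show (7 : ℕ).Prime by norm_num)
  let f : Function.End U := fun u => ⟨T u, hU u u.2⟩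
  have hf : ∀ (k : ℕ) (u : U), (((f ^ k : Function.End U) u : U) : V) = (T ^ k) u := by
    intro k
    induction k with
    | zero => intro u; rfl
    | succ k ih =>
      intro u
      rw [pow_succ', pow_succ']
      change T ((((f ^ k : Function.End U) u : U)) : V) = T ((T ^ k) u)
      rw [ih]
  have hf7 : f ^ 7 ^ 1 = 1 := by
    funext u
    apply Subtype.ext
    rw [hf, pow_one, hT]
    rfl
  have h := Equiv.Perm.card_fixedPoints_modEq hf7
  rw [← Nat.card_eq_fintype_card, ← Nat.card_eq_fintype_card] at h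
  refine h.trans ?_
  have h2 : Nat.card f.fixedPoints = Nat.card {u : U // T u = u} := by
    refine Nat.card_congr (Equiv.subtypeEquivRight fun u => ?_)
    change f u = u ↔ _
    rw [← Subtype.coe_inj]
  rw [h2]

theorem card_pow (h4 : Fintype.card F = 4) (U : Submodule F V) : Nat.card U = 4 ^ finrank F U := by
  rw [Module.natCard_eq_pow_finrank (K := F), Nat.card_eq_fintype_card, h4]

/-- an element of order seven of `GL₃(4)` has no nonzero fixed vector -/
theorem fix_zero (h4 : Fintype.card F = 4) (hV : finrank F V = 3) {T : V →ₗ[F] V} (hT : T ^ 7 = 1) (hT1 : T ≠ 1)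
    {v : V} (hv : T v = v) : v = 0 := by
  have h := card_inv hT ⊤ (fun u _ => trivial)
  have h1 : Nat.card (⊤ : Submodule F V) = 64 := by
    rw [card_pow h4, finrank_top, hV]; norm_num
  have h2 : Nat.card {u : (⊤ : Submodule F V) // T u = u} = Nat.card (LinearMap.ker (T - 1)) := by
    refine Nat.card_congr ⟨fun u => ⟨u.1, ?_⟩, fun w => ⟨⟨w, trivial⟩, ?_⟩, fun _ => rfl, fun _ => rfl⟩
    · rw [LinearMap.mem_ker, LinearMap.sub_apply, u.2]
      simp
    · have := w.2
      rw [LinearMap.mem_ker, LinearMap.sub_apply, sub_eq_zero] at this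
      exact this
  rw [h1, h2, card_pow h4] at h
  have h3 : finrank F (LinearMap.ker (T - 1)) ≤ 3 := by rw [← hV]; exact Submodule.finrank_le _
  have h5 : finrank F (LinearMap.ker (T - 1)) = 0 ∨ finrank F (LinearMap.ker (T - 1)) = 3 := by
    have h6 : finrank F (LinearMap.ker (T - 1)) = 0 ∨ finrank F (LinearMap.ker (T - 1)) = 1 ∨
      finrank F (LinearMap.ker (T - 1)) = 2 ∨ finrank F (LinearMap.ker (T - 1)) = 3 := by omega
    rcases h6 with h6 | h6 | h6 | h6
    · exact Or.inl h6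
    · rw [h6] at h; exact absurd h (by decide)
    · rw [h6] at h; exact absurd h (by decide)
    · exact Or.inr h6
  rcases h5 with h5 | h5
  · have h6 : LinearMap.ker (T - 1) = ⊥ := Submodule.finrank_eq_zero.1 h5
    have h7 : v ∈ LinearMap.ker (T - 1) := by
      rw [LinearMap.mem_ker, LinearMap.sub_apply, hv]
      simp
    rw [h6] at h7
    exact (Submodule.mem_bot F).1 h7
  · exfalso
    apply hT1
    have h6 : LinearMap.ker (T - 1) = ⊤ := Submodule.eq_top_of_finrank_eq (by rw [h5, hV])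
    have h7 : T - 1 = 0 := LinearMap.ker_eq_top.1 h6
    exact sub_eq_zero.1 h7

/-- an invertible map commuting with `T`, different from one, has no nonzero fixed vector -/
theorem fix_comm (h4 : Fintype.card F = 4) (hV : finrank F V = 3) {T g : V →ₗ[F] V} (hT : T ^ 7 = 1) (hT1 : T ≠ 1)
    (hg : g * T = T * g) (hg1 : g ≠ 1) {v : V} (hv : g v = v) : v = 0 := by
  have hU : ∀ u ∈ LinearMap.ker (g - 1), T u ∈ LinearMap.ker (g - 1) := by
    intro u hu
    rw [LinearMap.mem_ker, LinearMap.sub_apply, sub_eq_zero] at hu ⊢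
    have h1 : g u = u := hu
    have h2 : g (T u) = T (g u) := congrArg (fun A : V →ₗ[F] V => A u) hg
    change g (T u) = T u
    rw [h2, h1]
  have h := card_inv hT _ hU
  have h2 : Nat.card {u : LinearMap.ker (g - 1) // T u = u} = 1 := by
    rw [Nat.card_eq_one_iff_unique]
    refine ⟨⟨fun a b => ?_⟩, ⟨⟨0, by simp only [_root_.ZeroMemClass.coe_zero, _root_.map_zero]⟩⟩⟩
    apply Subtype.ext
    apply Subtype.ext
    rw [fix_zero h4 hV hT hT1 a.2, fix_zero h4 hV hT hT1 b.2]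
  rw [h2, card_pow h4] at h
  have h3 : finrank F (LinearMap.ker (g - 1)) ≤ 3 := by rw [← hV]; exact Submodule.finrank_le _
  have h5 : finrank F (LinearMap.ker (g - 1)) = 0 ∨ finrank F (LinearMap.ker (g - 1)) = 3 := by
    have h6 : finrank F (LinearMap.ker (g - 1)) = 0 ∨ finrank F (LinearMap.ker (g - 1)) = 1 ∨
      finrank F (LinearMap.ker (g - 1)) = 2 ∨ finrank F (LinearMap.ker (g - 1)) = 3 := by omega
    rcases h6 with h6 | h6 | h6 | h6
    · exact Or.inl h6
    · rw [h6] at h; exact absurd h (by decide)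
    · rw [h6] at h; exact absurd h (by decide)
    · exact Or.inr h6
  rcases h5 with h5 | h5
  · have h6 : LinearMap.ker (g - 1) = ⊥ := Submodule.finrank_eq_zero.1 h5
    have h7 : v ∈ LinearMap.ker (g - 1) := by
      rw [LinearMap.mem_ker, LinearMap.sub_apply, hv]
      simp
    rw [h6] at h7
    exact (Submodule.mem_bot F).1 h7
  · exfalso
    apply hg1
    have h6 : LinearMap.ker (g - 1) = ⊤ := Submodule.eq_top_of_finrank_eq (by rw [h5, hV])
    have h7 : g - 1 = 0 := LinearMap.ker_eq_top.1 h6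
    exact sub_eq_zero.1 h7

end

/-- the centraliser of an element of order seven of `SL₃(4)` -/
theorem card_centralizer_le {F : Type*} [Field F] [Fintype F] (h4 : Fintype.card F = 4)
    {x : Matrix.SpecialLinearGroup (Fin 3) F} (hx : x ^ 7 = 1) (hx1 : x ≠ 1) :
    Nat.card (Subgroup.centralizer ({x} : Set (Matrix.SpecialLinearGroup (Fin 3) F))) ≤ 63 := by
  classical
  let ρ : Matrix.SpecialLinearGroup (Fin 3) F →* ((Fin 3 → F) →ₗ[F] (Fin 3 → F)) :=
    { toFun := fun g => Matrix.toLin' (g : Matrix (Fin 3) (Fin 3) F)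
      map_one' := by
        rw [Matrix.SpecialLinearGroup.coe_one, Matrix.toLin'_one]
        rfl
      map_mul' := fun a b => by
        rw [Matrix.SpecialLinearGroup.coe_mul, Matrix.toLin'_mul]
        rfl }
  have hρ : Function.Injective ρ := by
    intro a b h
    exact Subtype.ext (Matrix.toLin'.injective h)
  have hV : finrank F (Fin 3 → F) = 3 := by simp
  have hT : ρ x ^ 7 = 1 := by rw [← map_pow, hx, map_one]
  have hT1 : ρ x ≠ 1 := fun h => hx1 (hρ (by rw [h, map_one]))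
  let v₀ : Fin 3 → F := fun _ => 1
  have hv₀ : v₀ ≠ 0 := fun h => one_ne_zero (congrFun h 0)
  let f : Subgroup.centralizer ({x} : Set (Matrix.SpecialLinearGroup (Fin 3) F)) → {v : Fin 3 → F // v ≠ 0} :=
    fun g => ⟨ρ g v₀, fun h => hv₀ (by
      have h1 : ρ ((g : Matrix.SpecialLinearGroup (Fin 3) F)⁻¹) (ρ g v₀) = v₀ := by
        have : ρ ((g : Matrix.SpecialLinearGroup (Fin 3) F)⁻¹) * ρ g = 1 := by
          rw [← map_mul, inv_mul_cancel, map_one]
        exact congrArg (fun A : (Fin 3 → F) →ₗ[F] (Fin 3 → F) => A v₀) this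
      rw [h, map_zero] at h1
      exact h1.symm)⟩
  have hf : Function.Injective f := by
    intro a b hab
    have h1 : ρ a v₀ = ρ b v₀ := congrArg Subtype.val hab
    by_contra hne
    have h2 : ρ ((b : Matrix.SpecialLinearGroup (Fin 3) F)⁻¹ * a) v₀ = v₀ := by
      have h3 : ρ ((b : Matrix.SpecialLinearGroup (Fin 3) F)⁻¹ * a) v₀ =
          ρ ((b : Matrix.SpecialLinearGroup (Fin 3) F)⁻¹) (ρ a v₀) := by
        rw [map_mul]; rfl
      rw [h3, h1]
      have : ρ ((b : Matrix.SpecialLinearGroup (Fin 3) F)⁻¹) * ρ b = 1 := by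
        rw [← map_mul, inv_mul_cancel, map_one]
      exact congrArg (fun A : (Fin 3 → F) →ₗ[F] (Fin 3 → F) => A v₀) this
    have hmem : (b : Matrix.SpecialLinearGroup (Fin 3) F)⁻¹ * a ∈
        Subgroup.centralizer ({x} : Set (Matrix.SpecialLinearGroup (Fin 3) F)) :=
      Subgroup.mul_mem _ (Subgroup.inv_mem _ b.2) a.2
    have hcomm := (Subgroup.mem_centralizer_singleton_iff.1 hmem)
    refine hv₀ (fix_comm h4 hV hT hT1 (g := ρ ((b : Matrix.SpecialLinearGroup (Fin 3) F)⁻¹ * a)) ?_ ?_ h2)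
    · rw [← map_mul, ← map_mul, hcomm]
    · intro h3
      have h5 : (b : Matrix.SpecialLinearGroup (Fin 3) F)⁻¹ * a = 1 := hρ (by rw [h3, map_one])
      exact hne (Subtype.ext (inv_mul_eq_one.1 h5).symm)
  have h1 := Nat.card_le_card_of_injective f hf
  have h2 : Nat.card {v : Fin 3 → F // v ≠ 0} = 63 := by
    rw [Nat.card_eq_fintype_card, Fintype.card_subtype_compl, Fintype.card_subtype_eq, Fintype.card_fun,
      Fintype.card_fin, h4]
    norm_num
  omega

end Cfsg.Agent.H725.Seven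
end

-- part: H725/SevenEx
section
/-!
# Elements of order seven of `PSL₃(4)` and of its central extensions (helper725)
-/

set_option autoImplicit false

namespace Cfsg.Agent.H725.Seven

open Cfsg Subgroup

universe u v

theorem card_comap_surj {G : Type u} {L : Type v} [Group G] [Group L] [Finite G] (f : G →* L)
    (hf : Function.Surjective f) (K : Subgroup L) : Nat.card (K.comap f) = Nat.card f.ker * Nat.card K := by
  have : Finite L := Finite.of_surjective f hf
  have h1 := Subgroup.card_mul_index (K.comap f)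
  have h2 := Subgroup.card_mul_index K
  have h3 := Subgroup.card_mul_index f.ker
  have h4 : f.ker.index = Nat.card L := by
    rw [Subgroup.index_ker, MonoidHom.range_eq_top.2 hf]
    exact Nat.card_congr Subgroup.topEquiv.toEquiv
  rw [Subgroup.index_comap_of_surjective _ hf] at h1
  rw [h4] at h3
  have h5 : 0 < K.index := Nat.pos_of_ne_zero Subgroup.index_ne_zero_of_finite
  apply Nat.eq_of_mul_eq_mul_right h5
  rw [h1, mul_assoc, h2, h3]

theorem centralizer_zpowers {G : Type u} [Group G] (x : G) :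
    Subgroup.centralizer ((Subgroup.zpowers x : Subgroup G) : Set G) = Subgroup.centralizer ({x} : Set G) := by
  ext g
  rw [Subgroup.mem_centralizer_singleton_iff, Subgroup.mem_centralizer_iff]
  constructor
  · intro h
    exact (h x (Subgroup.mem_zpowers x)).symm
  · rintro h y ⟨k, rfl⟩
    have h1 : Commute g x := h
    exact (h1.zpow_right k).symm

/-- a conjugation with order constraint -/
theorem z_pow_of_conj {G : Type u} [Group G] {z y w : G} (hz : z ∈ Subgroup.center G) (hy : y ^ 7 = 1) (hw : w ^ 7 = 1)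
    {n : ℕ} (hzn : z ^ n = 1) (hn7 : Nat.Coprime n 7) {k : ℕ} (h : IsConj (y * z ^ k) w) : z ^ k = 1 := by
  obtain ⟨g, hg⟩ := isConj_iff.1 h
  have hc : Commute y (z ^ k) := (Commute.pow_right (Subgroup.mem_center_iff.1 hz y) k)
  have h1 : (y * z ^ k) ^ 7 = 1 := by
    have h2 : (g * (y * z ^ k) * g⁻¹) ^ 7 = 1 := by rw [hg, hw]
    rw [conj_pow, mul_inv_eq_one] at h2
    exact mul_left_cancel (h2.trans (mul_one g).symm)
  rw [hc.mul_pow, hy, one_mul] at h1
  have h3 : orderOf (z ^ k) ∣ 7 := orderOf_dvd_of_pow_eq_one h1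
  have h4 : orderOf (z ^ k) ∣ n := orderOf_dvd_of_pow_eq_one (by rw [← pow_mul, mul_comm, pow_mul, hzn, one_pow])
  have h5 : orderOf (z ^ k) ∣ 1 := by
    rw [← hn7.gcd_eq_one]
    exact Nat.dvd_gcd h4 h3
  rw [← orderOf_eq_one_iff]
  exact Nat.dvd_one.1 h5

/-- lifting -/
theorem Loc.lift {G : Type u} {L : Type v} [Group G] [Group L] [Finite G] (π : G →* L) (hπ : Function.Surjective π)
    {z : G} (hz : z ∈ Subgroup.center G) {n : ℕ} (hn0 : n ≠ 0) (hzn : orderOf z = n) (hn7 : Nat.Coprime n 7)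
    (hk : π.ker = Subgroup.zpowers z) {x : L} (hx : x ^ 7 = 1) (hx1 : x ≠ 1)
    (hC : Nat.card (Subgroup.centralizer ({x} : Set L)) = 7) (h2 : IsConj x (x ^ 2)) (hinv : ¬ IsConj x x⁻¹) :
    ∃ y : G, Loc z y n ∧ π y = x := by
  obtain ⟨y₀, hy₀⟩ := hπ x
  obtain ⟨m, hm7, hmn⟩ : ∃ m, m ≡ 1 [MOD 7] ∧ n ∣ m := by
    obtain ⟨m, h1, h2⟩ := Nat.chineseRemainder hn7 0 1
    exact ⟨m, h2, (Nat.modEq_zero_iff_dvd).1 h1⟩
  have hzn1 : z ^ n = 1 := by rw [← hzn, pow_orderOf_eq_one]
  have hmem : ∀ g : G, π g = 1 → ∃ k < n, g = z ^ k := by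
    intro g hg
    have h1 : g ∈ Subgroup.zpowers z := by rw [← hk]; exact hg
    obtain ⟨k, hk1⟩ := mem_powers_iff_mem_zpowers.2 h1
    refine ⟨k % n, Nat.mod_lt _ (Nat.pos_of_ne_zero hn0), ?_⟩
    rw [← hzn, pow_mod_orderOf]
    exact hk1.symm
  have hpz : ∀ k, π (z ^ k) = 1 := by
    intro k
    have : z ^ k ∈ π.ker := by rw [hk]; exact Subgroup.pow_mem _ (Subgroup.mem_zpowers z) k
    exact this
  set y := y₀ ^ m with hy
  have hπy : π y = x := by
    rw [hy, map_pow, hy₀]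
    have : x ^ m = x ^ 1 := by
      rw [pow_eq_pow_iff_modEq]
      have h3 : orderOf x ∣ 7 := orderOf_dvd_of_pow_eq_one hx
      exact hm7.of_dvd h3
    rw [this, pow_one]
  have hy7 : y ^ 7 = 1 := by
    obtain ⟨k, -, h1⟩ := hmem (y₀ ^ 7) (by rw [map_pow, hy₀, hx])
    obtain ⟨j, hj⟩ := hmn
    rw [hy, ← pow_mul, mul_comm m 7, pow_mul, h1, hj, ← pow_mul, mul_comm, mul_assoc, pow_mul, hzn1, one_pow]
  have hzk : ∀ k < n, z ^ k = 1 → k = 0 := by
    intro k hk1 h1
    rw [← hzn] at hk1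
    by_contra h3
    exact absurd (Nat.le_of_dvd (Nat.pos_of_ne_zero h3) (orderOf_dvd_of_pow_eq_one h1)) (by omega)
  refine ⟨y, ⟨hn0, hz, hzn1, hy7, ?_, ?_, ?_, ?_, ?_⟩, hπy⟩
  · -- centraliser
    have h3 : Subgroup.centralizer ({y} : Set G) = (Subgroup.centralizer ({x} : Set L)).comap π := by
      ext g
      rw [Subgroup.mem_comap, Subgroup.mem_centralizer_singleton_iff, Subgroup.mem_centralizer_singleton_iff]
      constructor
      · intro h
        rw [← hπy, ← map_mul, ← map_mul, h]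
      · intro h
        have h4 : π (y⁻¹ * (g * y * g⁻¹)) = 1 := by
          rw [map_mul, map_mul, map_mul, map_inv, map_inv, hπy, h]
          group
        obtain ⟨k, -, h5⟩ := hmem _ h4
        have h6 : y * z ^ k = g * y * g⁻¹ := by rw [← h5]; group
        have h7 : IsConj (y * z ^ k) y := by
          rw [h6]
          exact isConj_iff.2 ⟨g⁻¹, by group⟩
        have h8 := z_pow_of_conj hz hy7 hy7 hzn1 hn7 h7
        rw [h8, mul_one] at h6
        exact (eq_mul_inv_iff_mul_eq.1 h6).symm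
    rw [h3, card_comap_surj π hπ, hC, hk, Nat.card_zpowers, hzn, mul_comm]
  · obtain ⟨g', hg'⟩ := isConj_iff.1 h2
    obtain ⟨g, rfl⟩ := hπ g'
    have h4 : π (y ^ 2 * (g * y * g⁻¹)⁻¹) = 1 := by
      rw [map_mul, map_inv, map_mul, map_mul, map_inv, map_pow, hπy, hg', mul_inv_cancel]
    obtain ⟨k, -, h5⟩ := hmem _ h4
    have hcz : ∀ w : G, w * z ^ k = z ^ k * w := fun w => Subgroup.mem_center_iff.1 (Subgroup.pow_mem _ hz k) w
    have h6 : y ^ 2 = z ^ k * (g * y * g⁻¹) := mul_inv_eq_iff_eq_mul.1 h5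
    have h7 : IsConj (y * z ^ k) (y ^ 2) := by
      rw [h6]
      refine isConj_iff.2 ⟨g, ?_⟩
      rw [← hcz, mul_assoc g, mul_assoc g, mul_assoc y, ← hcz g⁻¹]
      group
    have h8 := z_pow_of_conj hz hy7 (by rw [← pow_mul, mul_comm, pow_mul, hy7, one_pow]) hzn1 hn7 h7
    rw [h8, mul_one] at h7
    exact h7
  · intro k _ h1
    apply hx1
    have := congrArg π h1
    rwa [map_mul, hpz, mul_one, hπy, map_one] at this
  · intro k _ h1
    apply hinv
    have := MonoidHom.map_isConj π h1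
    rwa [map_mul, hpz, mul_one, map_inv, hπy] at this
  · intro k hk1 hk0 h1
    exact hk0 (hzk k hk1 (z_pow_of_conj hz hy7 hy7 hzn1 hn7 h1))

/-- numbers -/
theorem nums {c e n₇ : ℕ} (h7 : 7 ∣ c) (hc : c ≤ 21) (hc0 : 0 < c) (he : e ∣ 6) (he1 : e ≠ 1)
    (h : n₇ * (c * e) = 20160) (hn : n₇ ≡ 1 [MOD 7]) : c = 7 ∧ e = 3 := by
  have h1 : c = 7 ∨ c = 14 ∨ c = 21 := by omega
  have he6 := Nat.le_of_dvd (by norm_num) he
  have h2 : e = 2 ∨ e = 3 ∨ e = 6 := by
    interval_cases e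
    · omega
    · exact absurd rfl he1
    · exact Or.inl rfl
    · exact Or.inr (Or.inl rfl)
    · exact absurd he (by norm_num)
    · exact absurd he (by norm_num)
    · exact Or.inr (Or.inr rfl)
  unfold Nat.ModEq at hn
  rcases h1 with rfl | rfl | rfl <;> rcases h2 with rfl | rfl | rfl <;> (clear * - hn h; omega)

/-- **The base case**: `PSL₃(4)`. -/
theorem base {H : Type v} [Group H] [Finite H] [IsSimpleGroup (H ⧸ Subgroup.center H)]
    (hZ : Nat.card (Subgroup.center H) = 3) (hL : Nat.card (H ⧸ Subgroup.center H) = 20160)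
    (h63 : ∀ y : H, y ^ 7 = 1 → y ≠ 1 → Nat.card (Subgroup.centralizer ({y} : Set H)) ≤ 63) :
    ∃ x : H ⧸ Subgroup.center H, x ^ 7 = 1 ∧ x ≠ 1 ∧
      Nat.card (Subgroup.centralizer ({x} : Set (H ⧸ Subgroup.center H))) = 7 ∧
      IsConj x (x ^ 2) ∧ ¬ IsConj x x⁻¹ := by
  classical
  have := Fact.mk (show (7 : ℕ).Prime by norm_num)
  obtain ⟨P⟩ : Nonempty (Sylow 7 (H ⧸ Subgroup.center H)) := inferInstance
  have hP : Nat.card P = 7 := by
    rw [P.card_eq_multiplicity, hL]
    have h1 : (20160 : ℕ) = 7 ^ 1 * 2880 := by norm_num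
    have h2 := Cfsg.Agent.H902.Art.P_pow_self (r := 7) (k := 1) (a := 2880) (by norm_num) (by norm_num)
    rw [← h1] at h2
    exact h2
  obtain ⟨e, he6, he1, -, hN, hn7, h7C⟩ :=
    SmallSimple.BurnsideNC.exists_automizer_of_card_eq_prime (p := 7) (by rw [hL]; norm_num) P hP
  -- the generator
  obtain ⟨⟨x, hxP⟩, hxo⟩ := exists_prime_orderOf_dvd_card' (G := P) 7 (by rw [hP])
  rw [Subgroup.orderOf_mk] at hxo
  have hx7 : x ^ 7 = 1 := by rw [← hxo, pow_orderOf_eq_one]
  have hx1 : x ≠ 1 := by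
    rintro rfl
    rw [orderOf_one] at hxo
    omega
  have hPx : (P : Subgroup (H ⧸ Subgroup.center H)) = Subgroup.zpowers x := by
    refine (Subgroup.eq_of_le_of_card_ge ?_ ?_).symm
    · rw [Subgroup.zpowers_le]; exact hxP
    · rw [Nat.card_zpowers, hxo]
      exact hP.le
  have hCP : Subgroup.centralizer (P : Set (H ⧸ Subgroup.center H)) = Subgroup.centralizer {x} := by
    rw [← centralizer_zpowers, ← hPx]
    rfl
  -- the centraliser
  let π := QuotientGroup.mk' (Subgroup.center H)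
  have hπ : Function.Surjective π := QuotientGroup.mk'_surjective _
  have hker : π.ker = Subgroup.center H := QuotientGroup.ker_mk' _
  have hc21 : Nat.card (Subgroup.centralizer ({x} : Set (H ⧸ Subgroup.center H))) ≤ 21 := by
    obtain ⟨y₀, hy₀⟩ := hπ x
    have hz3 : ∀ w ∈ Subgroup.center H, w ^ 3 = 1 := by
      intro w hw
      have := pow_card_eq_one' (x := (⟨w, hw⟩ : Subgroup.center H))
      rw [hZ] at this
      exact congrArg Subtype.val this
    have hy21 : y₀ ^ 21 = 1 := by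
      have h1 : y₀ ^ 7 ∈ Subgroup.center H := by
        rw [← hker, MonoidHom.mem_ker, map_pow, hy₀, hx7]
      rw [show 21 = 7 * 3 by norm_num, pow_mul, hz3 _ h1]
    set y := y₀ ^ 15 with hy
    have hy7 : y ^ 7 = 1 := by
      rw [hy, ← pow_mul, show 15 * 7 = 21 * 5 by norm_num, pow_mul, hy21, one_pow]
    have hπy : π y = x := by
      rw [hy, map_pow, hy₀, show 15 = 7 * 2 + 1 by norm_num, pow_succ, pow_mul, hx7, one_pow, one_mul]
    have hy1 : y ≠ 1 := by
      intro h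
      rw [h, map_one] at hπy
      exact hx1 hπy.symm
    have hle : (Subgroup.centralizer ({x} : Set (H ⧸ Subgroup.center H))).comap π ≤
        Subgroup.centralizer {y} := by
      intro g hg
      rw [Subgroup.mem_comap, Subgroup.mem_centralizer_singleton_iff] at hg
      rw [Subgroup.mem_centralizer_singleton_iff]
      have h4 : y⁻¹ * (g * y * g⁻¹) ∈ Subgroup.center H := by
        rw [← hker, MonoidHom.mem_ker, map_mul, map_mul, map_mul, map_inv, map_inv, hπy, hg]
        group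
      set z := y⁻¹ * (g * y * g⁻¹) with hz
      have h6 : y * z ^ 1 = g * y * g⁻¹ := by rw [pow_one, hz]; group
      have h7 : IsConj (y * z ^ 1) y := by
        rw [h6]
        exact isConj_iff.2 ⟨g⁻¹, by group⟩
      have h8 := z_pow_of_conj h4 hy7 hy7 (hz3 z h4) (by norm_num) h7
      rw [h8, mul_one] at h6
      exact (eq_mul_inv_iff_mul_eq.1 h6).symm
    have h1 := Subgroup.card_le_of_le hle
    rw [card_comap_surj π hπ, hker, hZ] at h1
    have h2 := h63 y hy7 hy1
    omega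
  rw [hCP] at hN h7C
  have hnum := nums h7C hc21 Nat.card_pos he6 he1 (by rw [← hN, hn7, hL]) (card_sylow_modEq_one 7 _)
  obtain ⟨hc7, he3⟩ := hnum
  rw [hc7, he3] at hN
  have hmemN : ∀ g : H ⧸ Subgroup.center H, ∀ k : ℕ, g * x * g⁻¹ = x ^ k → k.Coprime 7 →
      g ∈ Subgroup.normalizer (P : Set (H ⧸ Subgroup.center H)) := by
    intro g k hg hk
    have h1 : (P : Subgroup (H ⧸ Subgroup.center H)).map (MulAut.conj g).toMonoidHom = P := by
      rw [hPx, MonoidHom.map_zpowers]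
      refine Subgroup.eq_of_le_of_card_ge ?_ ?_
      · rw [Subgroup.zpowers_le]
        change g * x * g⁻¹ ∈ _
        rw [hg]
        exact Subgroup.pow_mem _ (Subgroup.mem_zpowers x) k
      · rw [Nat.card_zpowers, Nat.card_zpowers]
        exact (orderOf_injective (MulAut.conj g).toMonoidHom (MulAut.conj g).injective x).ge
    refine (Subgroup.mem_normalizer_iff (H := (P : Subgroup (H ⧸ Subgroup.center H)))).2 ?_
    intro w
    constructor
    · intro hw
      have h2 : g * w * g⁻¹ ∈ (P : Subgroup (H ⧸ Subgroup.center H)).map (MulAut.conj g).toMonoidHom := ⟨w, hw, rfl⟩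
      rw [h1] at h2
      exact h2
    · intro hw
      have h2 : g * w * g⁻¹ ∈ (P : Subgroup (H ⧸ Subgroup.center H)).map (MulAut.conj g).toMonoidHom := by
        rw [h1]; exact hw
      obtain ⟨w', hw', h3⟩ := h2
      have h4 : g * w' * g⁻¹ = g * w * g⁻¹ := h3
      have h5 : w' = w := mul_left_cancel (mul_right_cancel h4)
      rw [← h5]
      exact hw'
  have hN21 : ∀ g ∈ Subgroup.normalizer (P : Set (H ⧸ Subgroup.center H)), g ^ 21 = 1 := by
    intro g hg
    have := pow_card_eq_one' (x := (⟨g, hg⟩ : Subgroup.normalizer (P : Set (H ⧸ Subgroup.center H))))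
    rw [hN] at this
    exact congrArg Subtype.val this
  refine ⟨x, hx7, hx1, hc7, ?_, ?_⟩
  · -- fusion
    obtain ⟨g, hgN, hgC⟩ : ∃ g ∈ Subgroup.normalizer (P : Set (H ⧸ Subgroup.center H)),
        g ∉ Subgroup.centralizer ({x} : Set (H ⧸ Subgroup.center H)) := by
      by_contra hcon
      push Not at hcon
      have h1 := Subgroup.card_le_of_le (show Subgroup.normalizer (P : Set (H ⧸ Subgroup.center H)) ≤ _ from hcon)
      rw [hN, hc7] at h1
      omega
    have hgP : ∀ w ∈ (P : Subgroup (H ⧸ Subgroup.center H)), g * w * g⁻¹ ∈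
        (P : Subgroup (H ⧸ Subgroup.center H)) := fun w hw => (Subgroup.mem_normalizer_iff.1 hgN w).1 hw
    have hg3 : g ^ 3 ∈ (P : Subgroup (H ⧸ Subgroup.center H)) := by
      have h0 : (g ^ 3) ^ 7 = 1 := by rw [← pow_mul, hN21 g hgN]
      have h1 : IsPGroup 7 (Subgroup.zpowers (g ^ 3)) := by
        rintro ⟨w, k, rfl⟩
        refine ⟨1, Subtype.ext ?_⟩
        change ((g ^ 3) ^ k) ^ (7 ^ 1) = 1
        rw [pow_one, ← zpow_natCast, ← zpow_mul, mul_comm, zpow_mul, zpow_natCast, h0, one_zpow]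
      have h2 := h1.inf_normalizer_sylow P
      have h3 : g ^ 3 ∈ Subgroup.zpowers (g ^ 3) ⊓ (P : Subgroup (H ⧸ Subgroup.center H)) := by
        rw [← h2]
        exact ⟨Subgroup.mem_zpowers _, Subgroup.pow_mem _ hgN 3⟩
      exact h3.2
    have hg3c : g ^ 3 * x * (g ^ 3)⁻¹ = x := by
      rw [hPx] at hg3
      obtain ⟨k, hk⟩ := hg3
      have h1 : Commute (g ^ 3) x := by
        rw [← hk]
        exact (Commute.refl x).zpow_left k
      rw [h1.eq, mul_inv_cancel_right]
    obtain ⟨a, ha⟩ : ∃ a : ℕ, g * x * g⁻¹ = x ^ a := by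
      have h1 := hgP x hxP
      rw [hPx] at h1
      obtain ⟨a, ha⟩ := mem_powers_iff_mem_zpowers.2 h1
      exact ⟨a, ha.symm⟩
    have ha' : g * x * g⁻¹ = x ^ (a % 7) := by
      rw [ha, ← hxo, pow_mod_orderOf]
    have hlt : a % 7 < 7 := Nat.mod_lt _ (by norm_num)
    generalize a % 7 = b at ha' hlt
    have h3 : x ^ (b * b * b) = x := by
      have e1 : g ^ 3 * x * (g ^ 3)⁻¹ = g * (g * (g * x * g⁻¹) * g⁻¹) * g⁻¹ := by
        rw [show g ^ 3 = g * g * g by rw [pow_succ, pow_two]]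
        simp only [mul_inv_rev, mul_assoc]
      rw [hg3c, ha', ← conj_pow, ha', ← pow_mul, ← conj_pow, ha', ← pow_mul] at e1
      rw [← mul_assoc] at e1
      exact e1.symm
    have h5 : x ^ (b * b * b) = x ^ 1 := by rw [h3, pow_one]
    rw [pow_eq_pow_iff_modEq, hxo] at h5
    have h6 : b = 1 ∨ b = 2 ∨ b = 4 := by
      unfold Nat.ModEq at h5
      interval_cases b <;> omega
    rcases h6 with rfl | rfl | rfl
    · exfalso
      apply hgC
      rw [Subgroup.mem_centralizer_singleton_iff]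
      rw [pow_one] at ha'
      exact mul_inv_eq_iff_eq_mul.1 ha'
    · exact isConj_iff.2 ⟨g, ha'⟩
    · refine isConj_iff.2 ⟨g ^ 2, ?_⟩
      have e1 : g ^ 2 * x * (g ^ 2)⁻¹ = g * (g * x * g⁻¹) * g⁻¹ := by
        rw [pow_two]
        simp only [mul_inv_rev, mul_assoc]
      rw [e1, ha', ← conj_pow, ha', ← pow_mul, show 4 * 4 = 7 * 2 + 2 by norm_num, pow_add, pow_mul, hx7, one_pow,
        one_mul]
  · intro hcj
    obtain ⟨g, hg⟩ := isConj_iff.1 hcj
    have hinv : x⁻¹ = x ^ 6 := by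
      rw [inv_eq_iff_mul_eq_one, ← pow_succ', hx7]
    rw [hinv] at hg
    have h1 := hN21 g (hmemN g 6 hg (by norm_num))
    have hg2 : Commute (g ^ 2) x := by
      have h2 : g ^ 2 * x * (g ^ 2)⁻¹ = x := by
        have h3 : g ^ 2 * x * (g ^ 2)⁻¹ = g * (g * x * g⁻¹) * g⁻¹ := by
          rw [pow_two]
          simp only [mul_inv_rev, mul_assoc]
        rw [h3, hg, ← conj_pow, hg, ← pow_mul, show 6 * 6 = 7 * 5 + 1 by norm_num, pow_succ, pow_mul, hx7, one_pow,
          one_mul]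
      exact mul_inv_eq_iff_eq_mul.1 h2
    have hgc : Commute g x := by
      have h2 : g = ((g ^ 2) ^ 10)⁻¹ := by
        rw [eq_inv_iff_mul_eq_one, ← pow_mul, ← pow_succ', h1]
      rw [h2]
      exact (hg2.pow_left 10).inv_left
    have h3 : x = x ^ 6 := by
      rw [← hg, hgc.eq, mul_inv_cancel_right]
    have h5 : x ^ 5 = 1 := by
      have h6 : x * x ^ 5 = x * 1 := by rw [← pow_succ', ← h3, mul_one]
      exact mul_left_cancel h6
    have h6 := orderOf_dvd_of_pow_eq_one h5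
    rw [hxo] at h6
    norm_num at h6

end Cfsg.Agent.H725.Seven
end

-- part: H725/CenFour
section
/-!
# The central case for `SL₃(4)` (helper725)
-/

set_option autoImplicit false

namespace Cfsg.Agent.H725.CenFour

open Cfsg Cfsg.Agent.H725.Cod Cfsg.Agent.H725.Lam Cfsg.Agent.H725.SLFacts Cfsg.Agent.H725.CenGen
open Cfsg.Agent.H686.CharKit Cfsg.Agent.H677.CodPrime Cfsg.Agent.H677.CodMultiset Cfsg.Agent.H725.Seven
open Finset ComplexConjugate

universe u v

/-- degrees modulo seven -/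
theorem deg_mod {G : Type u} [Group G] [Finite G] {z x : G} {n : ℕ} (L : Loc z x n) (χ : IrrCharacter G) :
    ∃ s : ℤ, (s = 0 ∨ s = 1 ∨ s = -1 ∨ s = 2 ∨ s = -2) ∧ (7 : ℤ) ∣ (charDegree (χ : G → ℂ) : ℤ) + 3 * s := by
  classical
  have := Characters.Core.finite_irr (G := G)
  let _ := Fintype.ofFinite (IrrCharacter G)
  obtain ⟨c, hc, hχ⟩ := Lam.exists_scalar χ L.hz L.hzn
  obtain ⟨s, r, h1, h2, h3, h4, h5, h6⟩ := L.main hc
  have hmem : χ ∈ Lam z c := by
    rw [mem_Lam]
    have := hχ 1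
    rwa [one_mul] at this
  obtain ⟨c', σ, E, N, hE, hN, -, -, -, hσ, hEs, hNs, h0, -⟩ := comb (Lam z c) s r (fun χ => (charDegree (χ : G → ℂ) : ℤ))
    (fun χ _ => by exact_mod_cast charDegree_pos χ) h1 h2 (fun χ _ => h3 χ) h4 h5 (fun χ _ => h6 χ)
  refine ⟨s χ, ?_, h6 χ⟩
  by_cases hχE : χ ∈ E
  · rw [(hEs χ hχE).1]
    rcases hσ with h | h <;> rw [h] <;> simp
  · by_cases hχN : χ ∈ N
    · rcases hNs χ hχN with h | h <;> rw [h] <;> simp
    · rw [h0 χ hmem hχE hχN]; simp

/-- numbers -/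
theorem num_four {x y : ℕ} {ε σ : ℤ} (hε : ε = 2 ∨ ε = -2) (hσ : σ = 1 ∨ σ = -1) (hx0 : 0 < x) (hy0 : 0 < y)
    (hx : x ∣ 20160) (hy : y ∣ 20160) (hx7 : (7 : ℤ) ∣ (x : ℤ) + 3 * ε)
    (hsq : x ^ 2 + 2 * y ^ 2 ≤ 16063) (h : 2 + 128 + ε * x + 2 * σ * y = 0) : 45 ≤ y := by
  have hx126 : x ≤ 126 := by
    by_contra h1
    push Not at h1
    have : 127 ^ 2 ≤ x ^ 2 := Nat.pow_le_pow_left h1 2
    omega
  by_contra hy45
  push Not at hy45
  rcases hε with rfl | rfl <;> rcases hσ with rfl | rfl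
  · omega
  · omega
  · -- `y = x - 65`
    have hyx : x = y + 65 := by omega
    subst hyx
    have h1 : y % 7 = 4 := by omega
    interval_cases y <;> (clear * - hx hx7 hy; omega)
  · have hyx : y = 65 - x := by omega
    have h0 : x < 65 := by omega
    subst hyx
    have h1 : x % 7 = 6 := by omega
    have h2 : 20 < x := by omega
    interval_cases x <;> omega

/-- the characters of `L₃(4)` of degree `± 3` modulo seven -/
theorem four_main {L : Type u} [Group L] [Finite L] {x : L} (hL : Nat.card L = 20160) (hx : Loc (1 : L) x 1)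
    {St : IrrCharacter L} (hSt : charDegree (St : L → ℂ) = 64) :
    ∃ y : ℕ, 45 ≤ y ∧ ∀ χ : IrrCharacter L, (charDegree (χ : L → ℂ) % 7 = 3 ∨ charDegree (χ : L → ℂ) % 7 = 4) →
      charDegree (χ : L → ℂ) = y := by
  classical
  have := Characters.Core.finite_irr (G := L)
  let _ := Fintype.ofFinite (IrrCharacter L)
  have hall : ∀ χ : IrrCharacter L, χ ∈ Lam (1 : L) 1 := fun χ => by rw [mem_Lam, one_mul]
  obtain ⟨s, r, h1, h2, h3, h4, h5, h6⟩ := hx.main (c := 1) (by norm_num)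
  obtain ⟨c', σ, E, N, hE, hN, hEN, hE2, hN3, hσ, hEs, hNs, h0, hsum⟩ := comb (Lam 1 1) s r
    (fun χ => (charDegree (χ : L → ℂ) : ℤ))
    (fun χ _ => by exact_mod_cast charDegree_pos χ) h1 h2 (fun χ _ => h3 χ) h4 h5 (fun χ _ => h6 χ)
  have hcase : ∀ χ : IrrCharacter L, (χ ∈ E ∧ s χ = σ) ∨ (χ ∈ N ∧ (s χ = 2 ∨ s χ = -2)) ∨ s χ = 0 := by
    intro χ
    by_cases hχE : χ ∈ E
    · exact Or.inl ⟨hχE, (hEs χ hχE).1⟩
    · by_cases hχN : χ ∈ N
      · exact Or.inr (Or.inl ⟨hχN, hNs χ hχN⟩)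
      · exact Or.inr (Or.inr (h0 χ (hall χ) hχE hχN))
  have hone1 : charDegree (one L : L → ℂ) = 1 := charDegree_one
  have hone : one L ∈ N ∧ s (one L) = 2 := by
    have h7 := h6 (one L)
    rw [hone1] at h7
    rcases hcase (one L) with ⟨-, h8⟩ | ⟨h9, h8⟩ | h8
    · rcases hσ with h | h <;> rw [h8, h] at h7 <;> norm_num at h7
    · refine ⟨h9, ?_⟩
      rcases h8 with h | h
      · exact h
      · rw [h] at h7; norm_num at h7
    · rw [h8] at h7; norm_num at h7
  have hst : St ∈ N ∧ s St = 2 := by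
    have h7 := h6 St
    rw [hSt] at h7
    rcases hcase St with ⟨-, h8⟩ | ⟨h9, h8⟩ | h8
    · rcases hσ with h | h <;> rw [h8, h] at h7 <;> norm_num at h7
    · refine ⟨h9, ?_⟩
      rcases h8 with h | h
      · exact h
      · rw [h] at h7; norm_num at h7
    · rw [h8] at h7; norm_num at h7
  have hne : one L ≠ St := by
    intro h
    rw [← h, hone1] at hSt
    omega
  -- the third character of `N`
  obtain ⟨X, hX⟩ : ∃ X, (N.erase (one L)).erase St = {X} := by
    rw [← card_eq_one, card_erase_of_mem (mem_erase.2 ⟨hne.symm, hst.1⟩), card_erase_of_mem hone.1, hN3]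
  have hXm : X ∈ (N.erase (one L)).erase St := by rw [hX]; exact mem_singleton_self X
  obtain ⟨hX1, hX2⟩ := mem_erase.1 hXm
  obtain ⟨hX2, hX3⟩ := mem_erase.1 hX2
  have hNsum : ∀ f : IrrCharacter L → ℤ, ∑ i ∈ N, f i = f (one L) + (f St + f X) := by
    intro f
    rw [← add_sum_erase N f hone.1, ← add_sum_erase (N.erase (one L)) f (mem_erase.2 ⟨hne.symm, hst.1⟩), hX,
      sum_singleton]
  rw [hNsum, hone.2, hst.2, hone1, hSt] at hsum
  obtain ⟨e₁, e₂, hee, hEe⟩ := card_eq_two.1 hE2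
  have he₁ : e₁ ∈ E := by rw [hEe]; simp
  have he₂ : e₂ ∈ E := by rw [hEe]; simp
  have hc1 := (hEs e₁ he₁).2
  have hc2 := (hEs e₂ he₂).2
  set y := charDegree (e₁ : L → ℂ) with hy
  have hyE : ∀ χ ∈ E, charDegree (χ : L → ℂ) = y := by
    intro χ hχ
    have := (hEs χ hχ).2
    rw [← hc1] at this
    exact_mod_cast this
  -- the sum of squares
  have hsq : ∑ χ : IrrCharacter L, charDegree (χ : L → ℂ) ^ 2 = 20160 := by
    have h7 := sum_sq_ne (G := L)
    rw [hL] at h7
    rw [← sum_erase_add univ _ (mem_univ (one L)), charDegree_one]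
    omega
  have hsub : ({one L, St, X, e₁, e₂} : Finset (IrrCharacter L)) ⊆ univ := subset_univ _
  have hd : ∀ a ∈ E, ∀ b ∈ N, a ≠ b := by
    rintro a ha b hb rfl
    exact (Finset.disjoint_left.1 hEN) ha hb
  have h7 : ∑ χ ∈ ({one L, St, X, e₁, e₂} : Finset (IrrCharacter L)), charDegree (χ : L → ℂ) ^ 2 ≤ 20160 := by
    rw [← hsq]
    exact sum_le_sum_of_subset hsub
  rw [sum_insert, sum_insert, sum_insert, sum_pair hee, hone1, hSt, hyE e₂ he₂] at h7
  rotate_left
  · simp only [mem_insert, mem_singleton, not_or]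
    exact ⟨(hd e₁ he₁ X hX3).symm, (hd e₂ he₂ X hX3).symm⟩
  · simp only [mem_insert, mem_singleton, not_or]
    exact ⟨hX1.symm, (hd e₁ he₁ St hst.1).symm, (hd e₂ he₂ St hst.1).symm⟩
  · simp only [mem_insert, mem_singleton, not_or]
    exact ⟨hne, hX2.symm, (hd e₁ he₁ _ hone.1).symm, (hd e₂ he₂ _ hone.1).symm⟩
  have h8 : 45 ≤ y := by
    refine num_four (x := charDegree (X : L → ℂ)) (ε := s X) (σ := σ) (hNs X hX3) hσ (charDegree_pos X)
      (charDegree_pos e₁) ?_ ?_ (h6 X) ?_ ?_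
    · rw [← hL]; exact charDegree_dvd_card X
    · rw [← hL]; exact charDegree_dvd_card e₁
    · rw [← hy] at h7; omega
    · rw [← hc1] at hsum
      push_cast at hsum
      linarith only [hsum]
  refine ⟨y, h8, fun χ hχ => ?_⟩
  have h9 := h6 χ
  rcases hcase χ with ⟨h10, -⟩ | ⟨-, h8 | h8⟩ | h8
  · exact hyE χ h10
  · rw [h8] at h9; omega
  · rw [h8] at h9; omega
  · rw [h8] at h9; omega

/-- the element of order seven -/
theorem exists_loc {F : Type} [Field F] [Fintype F] (hF : Fintype.card F = 4) :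
    ∃ x : Matrix.SpecialLinearGroup (Fin 3) F ⧸ Subgroup.center (Matrix.SpecialLinearGroup (Fin 3) F),
      x ^ 7 = 1 ∧ x ≠ 1 ∧ Nat.card (Subgroup.centralizer
        ({x} : Set (Matrix.SpecialLinearGroup (Fin 3) F ⧸ Subgroup.center (Matrix.SpecialLinearGroup (Fin 3) F)))) = 7 ∧
      IsConj x (x ^ 2) ∧ ¬ IsConj x x⁻¹ := by
  have hQ := qs_three (F := F)
  have hsimp : IsSimpleGroup (Matrix.SpecialLinearGroup (Fin 3) F ⧸
    Subgroup.center (Matrix.SpecialLinearGroup (Fin 3) F)) := hQ.simple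
  have hidx : (Subgroup.center (Matrix.SpecialLinearGroup (Fin 3) F)).index = 20160 := by
    have := index_three (F := F)
    rw [hF] at this
    norm_num at this
    omega
  have hZ : Nat.card (Subgroup.center (Matrix.SpecialLinearGroup (Fin 3) F)) = 3 := by
    rw [card_center (by norm_num), hF]; norm_num
  refine base hZ (by rw [← Subgroup.index_eq_card]; exact hidx) fun y hy hy1 => ?_
  exact card_centralizer_le hF hy hy1

/-- `SL₃(4)` -/
theorem three_four {F : Type} [Field F] [Fintype F] (hF : Fintype.card F = 4) {G : Type u} [Group G] [Finite G]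
    (hperf : commutator G = ⊤) (hG : Sub G (Matrix.SpecialLinearGroup (Fin 3) F)) {V : Subgroup G} [V.Normal]
    (hV : V ≤ Subgroup.center G) (hV2 : Nat.card V = 2)
    (e : G ⧸ V ≃* Matrix.SpecialLinearGroup (Fin 3) F ⧸ Subgroup.center (Matrix.SpecialLinearGroup (Fin 3) F)) :
    False := by
  classical
  have := Characters.Core.finite_irr (G := G)
  let _ := Fintype.ofFinite (IrrCharacter G)
  have hQ := qs_three (F := F)
  have hVp : (Nat.card V).Prime := by rw [hV2]; exact Nat.prime_two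
  have hidx : (Subgroup.center (Matrix.SpecialLinearGroup (Fin 3) F)).index = 20160 := by
    have := index_three (F := F)
    rw [hF] at this
    norm_num at this
    omega
  have hZ : Nat.card (Subgroup.center (Matrix.SpecialLinearGroup (Fin 3) F)) = 3 := by
    rw [card_center (by norm_num), hF]; norm_num
  obtain ⟨x, hx7, hx1, hxC, hx2, hxi⟩ := exists_loc hF
  -- the three groups
  obtain ⟨x₁, hL1, hx₁⟩ := Loc.lift (MonoidHom.id (Matrix.SpecialLinearGroup (Fin 3) F ⧸
    Subgroup.center (Matrix.SpecialLinearGroup (Fin 3) F))) Function.surjective_id (z := 1)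
    (Subgroup.one_mem _) (n := 1) one_ne_zero orderOf_one (by norm_num) (by
      rw [Subgroup.zpowers_one_eq_bot]
      exact (MonoidHom.ker_eq_bot_iff _).2 Function.injective_id) hx7 hx1 hxC hx2 hxi
  have hZp : (Nat.card (Subgroup.center (Matrix.SpecialLinearGroup (Fin 3) F))).Prime := by
    rw [hZ]; exact Nat.prime_three
  obtain ⟨z₃, hz₃, hz₃o, hz₃z⟩ := exists_gen hZp
  rw [hZ] at hz₃o
  obtain ⟨x₃, hL3, -⟩ := Loc.lift (QuotientGroup.mk' (Subgroup.center (Matrix.SpecialLinearGroup (Fin 3) F)))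
    (QuotientGroup.mk'_surjective _) hz₃ (n := 3) (by norm_num) hz₃o (by norm_num) (by
      rw [QuotientGroup.ker_mk']; exact hz₃z) hx7 hx1 hxC hx2 hxi
  obtain ⟨z, hzV, hzo, hzz⟩ := exists_gen hVp
  rw [hV2] at hzo
  obtain ⟨x₂, hL2, -⟩ := Loc.lift (e.toMonoidHom.comp (QuotientGroup.mk' V))
    (e.surjective.comp (QuotientGroup.mk'_surjective _)) (hV hzV) (n := 2) (by norm_num) hzo (by norm_num) (by
      rw [← hzz]
      ext g
      rw [MonoidHom.mem_ker, MonoidHom.comp_apply]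
      change e (QuotientGroup.mk' V g) = 1 ↔ _
      rw [map_eq_one_iff e e.injective]
      exact QuotientGroup.eq_one_iff g) hx7 hx1 hxC hx2 hxi
  -- the Steinberg character
  obtain ⟨St, hSt⟩ : ∃ St : IrrCharacter (Matrix.SpecialLinearGroup (Fin 3) F ⧸
      Subgroup.center (Matrix.SpecialLinearGroup (Fin 3) F)),
      charDegree (St : (Matrix.SpecialLinearGroup (Fin 3) F ⧸
        Subgroup.center (Matrix.SpecialLinearGroup (Fin 3) F)) → ℂ) = 64 := by
    have := charP_of (F := F) (p := 2) (f := 2) Nat.prime_two (by norm_num) (by rw [hF]; norm_num)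
    have hpf := Fact.mk Nat.prime_two
    obtain ⟨χ, hχ1, hχ2, hχ3⟩ := H615.SLSteinberg.exists_steinberg (F := F) (n := 3) (by norm_num) 2
    rw [SimThree.fact_three (f := 2) Nat.prime_two (by norm_num) (by rw [hF]; norm_num)] at hχ1
    obtain ⟨St, hSt⟩ := exists_infl (Subgroup.center (Matrix.SpecialLinearGroup (Fin 3) F)) χ (by
      intro z hz
      rw [mem_chKer]
      have := hχ3 z hz 1
      rwa [mul_one] at this)
    refine ⟨St, ?_⟩
    rw [← charDegree_infl, hSt]
    have h5 := charDegree_irr χ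
    rw [hχ1] at h5
    have h6 : charDegree (χ : Matrix.SpecialLinearGroup (Fin 3) F → ℂ) = (2 ^ 2) ^ 3 := by exact_mod_cast h5
    rw [h6]
    norm_num
  obtain ⟨y, hy45, hy⟩ := four_main (by rw [← Subgroup.index_eq_card]; exact hidx) hL1 hSt
  -- the faithful characters of `G`
  have hc2 : (-1 : ℂ) ^ 2 = 1 := by norm_num
  have hsum := sum_sq_Lam (hV hzV) hzo hc2
  rw [card_eq_mul e, hV2, hidx] at hsum
  obtain ⟨s, r, h1, h2, h3, h4, h5, h6⟩ := hL2.main hc2
  obtain ⟨c', σ, E, N, hE, hN, hEN, hE2, hN3, hσ, hEs, hNs, h0, -⟩ := comb (Lam z (-1)) s r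
    (fun χ => (charDegree (χ : G → ℂ) : ℤ))
    (fun χ _ => by exact_mod_cast charDegree_pos χ) h1 h2 (fun χ _ => h3 χ) h4 h5 (fun χ _ => h6 χ)
  have hdeg : ∀ χ ∈ N, 90 ≤ charDegree (χ : G → ℂ) := by
    intro χ hχ
    have h7 := h6 χ
    have h8 := hNs χ hχ
    obtain ⟨-, ψ, hψ1, -, h9⟩ := faithful_data hQ hperf hG hV hVp e hzV (c := -1) (by norm_num) (hN hχ)
    obtain ⟨D, hD, h10, -⟩ := SimThree.cod_three (p := 2) (f := 2) Nat.prime_two (by norm_num) (by rw [hF]; norm_num) hψ1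
    have h11 := h9 D hD
    rw [hV2] at h11
    have h12 : D % 7 = 3 ∨ D % 7 = 4 := by
      rw [h11] at h7
      push_cast at h7
      rcases h8 with h8 | h8 <;> rw [h8] at h7 <;> (clear * - h7; omega)
    rcases h10 with ⟨h10, h13⟩ | ⟨h10, -, -⟩
    · obtain ⟨ψ', hψ'⟩ := exists_infl (Subgroup.center (Matrix.SpecialLinearGroup (Fin 3) F)) ψ h13.ge
      have h14 := hy ψ' (by rw [← charDegree_infl, hψ', ← h10]; exact h12)
      rw [← charDegree_infl, hψ', ← h10] at h14
      (clear * - hy45 h11 h14; omega)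
    · exfalso
      obtain ⟨s', hs', h14⟩ := deg_mod hL3 ψ
      rw [← h10] at h14
      push_cast at h14
      (clear * - h12 hs' h14; omega)
  have h7 : ∑ χ ∈ N, 8100 ≤ ∑ χ ∈ Lam z (-1), charDegree (χ : G → ℂ) ^ 2 := by
    refine le_trans (sum_le_sum fun χ hχ => ?_) (sum_le_sum_of_subset hN)
    calc 8100 = 90 ^ 2 := by norm_num
      _ ≤ _ := Nat.pow_le_pow_left (hdeg χ hχ) 2
  rw [sum_const, hN3, smul_eq_mul] at h7
  omega

end Cfsg.Agent.H725.CenFour
end

-- part: H725/CenAll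
section
/-!
# The central case for `SL₂(q)` and `SL₃(q)` (helper725)
-/

set_option autoImplicit false

namespace Cfsg.Agent.H725.CenAll

open Cfsg Cfsg.Agent.H725.Cod Cfsg.Agent.H725.SLFacts Cfsg.Agent.H725.CenGen Cfsg.Agent.H67

universe u v

theorem cen_of {H : Type v} [Group H] [Finite H] (hH : QS H)
    (h : ∀ r : ℕ, r.Prime → NoPCov r H ∨ ((Nat.card (Subgroup.center H) = 1 ∨ r ≠ Nat.card (Subgroup.center H)) ∧
      ∀ (G : Type u) [Group G] [Finite G] (V : Subgroup G) [V.Normal], commutator G = ⊤ → Sub G H →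
        V ≤ Subgroup.center G → Nat.card V = r → (G ⧸ V ≃* H ⧸ Subgroup.center H) → False)) : CenOK.{u, v} H := by
  intro G _ _ V hperf hG hV hVp hq
  have hVn : V.Normal := ⟨fun n hn g => by
    rw [Subgroup.mem_center_iff.1 (hV hn) g, mul_inv_cancel_right]
    exact hn⟩
  have hVb : V ≠ ⊥ := by
    intro h1
    rw [h1, Subgroup.card_bot] at hVp
    exact Nat.not_prime_one hVp
  have hVt : V ≠ ⊤ := by
    intro h1
    have h2 : commutator G = ⊥ := by
      rw [commutator_def, Subgroup.commutator_eq_bot_iff_le_centralizer]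
      intro x _
      rw [Subgroup.mem_centralizer_iff]
      intro y _
      have : x ∈ Subgroup.center G := hV (by rw [h1]; trivial)
      exact Subgroup.mem_center_iff.1 this y
    rw [hperf] at h2
    rw [h1, h2, Subgroup.card_bot] at hVp
    exact Nat.not_prime_one hVp
  have hgood := hq V hVb hVt
  rcases h _ hVp with h1 | ⟨h1, h2⟩
  · exact good_of_noPCov hH hperf hV hVp hgood h1
  · exfalso
    rcases hgood with ⟨⟨e⟩⟩ | ⟨⟨e⟩⟩
    · by_cases h3 : Nat.card (Subgroup.center H) = 1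
      · have h4 : Subgroup.center H = ⊥ := Subgroup.card_eq_one.1 h3
        have e' : H ≃* H ⧸ Subgroup.center H :=
          (QuotientGroup.quotientBot (G := H)).symm.trans (QuotientGroup.quotientMulEquivOfEq h4.symm)
        exact h2 G V hperf hG hV rfl (e.trans e')
      · have h4 := hH.zp.resolve_left h3
        exact no_full hH h4 hV hVp (h1.resolve_left h3) hq e
    · exact h2 G V hperf hG hV rfl e

theorem cenOK_two {F : Type} [Field F] [Fintype F] (h5 : 5 ≤ Fintype.card F) :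
    CenOK.{u, 0} (Matrix.SpecialLinearGroup (Fin 2) F) := by
  refine cen_of (qs_two (by omega)) fun r hr => ?_
  by_cases h9 : Fintype.card F = 9
  · obtain ⟨p, f, hp, hf, hF⟩ := exists_pp F
    have := charP_of hp hf hF
    have hp3 : p = 3 := by
      have h1 : p ∣ 3 ^ 2 := by
        rw [show (3 : ℕ) ^ 2 = 9 by norm_num, ← h9, hF]
        exact dvd_pow_self p (by omega)
      exact (Nat.prime_dvd_prime_iff_eq hp Nat.prime_three).1 (hp.dvd_of_dvd_pow h1)
    by_cases hr3 : r = 3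
    · right
      refine ⟨Or.inr ?_, fun G _ _ V _ hperf hG hV hVr e => two_nine h9 hperf hG hV (hVr.trans hr3) e⟩
      rw [card_center (by norm_num), h9, hr3]
      norm_num
    · left
      exact H60.CrossA.noPCov_SL_cross 1 p hr (by rw [hp3]; exact hr3)
  · left
    refine H60.MultA.noPCov_SL ⟨le_rfl, fun _ => by rw [Nat.card_eq_fintype_card]; omega, ?_⟩ hr
    rw [Nat.card_eq_fintype_card]
    simp only [Set.mem_insert_iff, Set.mem_singleton_iff, Prod.mk.injEq, not_or, not_and]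
    omega

theorem cenOK_three {F : Type} [Field F] [Fintype F] :
    CenOK.{u, 0} (Matrix.SpecialLinearGroup (Fin 3) F) := by
  refine cen_of qs_three fun r hr => ?_
  by_cases h24 : Fintype.card F = 2 ∨ Fintype.card F = 4
  · obtain ⟨p, f, hp, hf, hF⟩ := exists_pp F
    have := charP_of hp hf hF
    have hp2 : p = 2 := by
      have h1 : p ∣ 2 ^ 2 := by
        have h2 : p ∣ Fintype.card F := by rw [hF]; exact dvd_pow_self p (by omega)
        rcases h24 with h | h
        · rw [h] at h2; exact h2.trans (by norm_num)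
        · rw [h] at h2; exact h2
      exact (Nat.prime_dvd_prime_iff_eq hp Nat.prime_two).1 (hp.dvd_of_dvd_pow h1)
    by_cases hr2 : r = 2
    · right
      rcases h24 with h | h
      · refine ⟨Or.inl ?_, fun G _ _ V _ hperf hG hV hVr e => three_two h hperf hG hV (hVr.trans hr2) e⟩
        rw [card_center (by norm_num), h]
        norm_num
      · refine ⟨Or.inr ?_, fun G _ _ V _ hperf hG hV hVr e => CenFour.three_four h hperf hG hV (hVr.trans hr2) e⟩
        rw [card_center (by norm_num), h, hr2]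
        norm_num
    · left
      exact H60.CrossA.noPCov_SL_cross 2 p hr (by rw [hp2]; exact hr2)
  · left
    refine H60.MultA.noPCov_SL ⟨by norm_num, fun h => absurd h (by norm_num), ?_⟩ hr
    rw [Nat.card_eq_fintype_card]
    simp only [Set.mem_insert_iff, Set.mem_singleton_iff, Prod.mk.injEq, not_or, not_and]
    omega

end Cfsg.Agent.H725.CenAll
end

private theorem dce_392e6f70b071 : _root_.True := by
  try have : _root_.True := by simp only [_root_.Cfsg.Agent.OrdDiv.spor.eq_1]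
  exact _root_.True.intro
end

-- part: H725/SpecMain
section
prune_inst 0x811004000c00000000000000102040002000002000000000c00206040a0000020900804000002008102800810001000813000020420000000a000400000100000880020070810000200016800080410000000000000000000000000000000004004010000
set_option linter.all false
open scoped Cfsg.Agent.FastGrp

-- part: H725/EqTwo
section
/-!
# The codegrees of `SL₂(q)` and `PSL₂(q)` (helper725)
-/

set_option autoImplicit false

namespace Cfsg.Agent.H725.EqTwo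

open Cfsg Cfsg.Agent.H725.Cod Cfsg.Agent.H725.Lam Cfsg.Agent.H725.SLFacts Cfsg.Agent.H725.CenGen
open Cfsg.Agent.H686.CharKit Cfsg.Agent.H677.CodPrime Cfsg.Agent.H677.CodMultiset Matrix Finset

theorem num {a b h : ℕ} (hh : 2 ≤ h) (H : 2 * a * (h + 1) ^ 2 + 2 * b * h ^ 2 = h * (h + 1) * (2 * h + 1)) : False := by
  have hcop : Nat.Coprime h (h + 1) := by
    rw [Nat.coprime_self_add_right]
    exact Nat.coprime_one_right h
  have h1 : h ∣ 2 * a := by
    have h2 : h ∣ 2 * a * (h + 1) ^ 2 := by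
      have h3 : h ∣ 2 * a * (h + 1) ^ 2 + 2 * b * h ^ 2 := by rw [H, mul_assoc]; exact dvd_mul_right _ _
      exact (Nat.dvd_add_left ((dvd_pow_self h two_ne_zero).mul_left _)).1 h3
    exact (hcop.pow_right 2).dvd_of_dvd_mul_right h2
  have h2 : (h + 1) ∣ 2 * b := by
    have h3 : (h + 1) ∣ 2 * b * h ^ 2 := by
      have h4 : (h + 1) ∣ 2 * a * (h + 1) ^ 2 + 2 * b * h ^ 2 := by
        rw [H, mul_comm h, mul_assoc]; exact dvd_mul_right _ _
      exact (Nat.dvd_add_right ((dvd_pow_self (h + 1) two_ne_zero).mul_left _)).1 h4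
    exact (hcop.symm.pow_right 2).dvd_of_dvd_mul_right h3
  obtain ⟨a', ha⟩ := h1
  obtain ⟨b', hb⟩ := h2
  rw [ha, hb] at H
  have h3 : h * (h + 1) * (a' * (h + 1) + b' * h) = h * (h + 1) * (2 * h + 1) := by rw [← H]; ring
  have h4 := Nat.eq_of_mul_eq_mul_left (by positivity) h3
  have h5 : a' < 2 := by
    by_contra h6
    push Not at h6
    have : 2 * (h + 1) ≤ a' * (h + 1) := Nat.mul_le_mul_right _ h6
    omega
  interval_cases a'
  · have h6 : h ∣ 1 := by
      have h7 : h ∣ 2 * h + 1 := ⟨b', by rw [← h4]; ring⟩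
      exact (Nat.dvd_add_right (dvd_mul_left h 2)).1 h7
    have := Nat.le_of_dvd one_pos h6
    omega
  · have h6 : b' * h = 1 * h := by omega
    have h7 := Nat.eq_of_mul_eq_mul_right (by omega) h6
    subst h7
    omega

/-- the codegree sets of `SL₂(q)` and `PSL₂(q)` are different if the centre is not trivial -/
theorem ne_two {F : Type} [Field F] [Fintype F] (h5 : 5 ≤ Fintype.card F)
    (h : ∀ ψ : IrrCharacter (_root_.Matrix.SpecialLinearGroup (Fin 2) F),
      ∃ χ : IrrCharacter (_root_.Matrix.SpecialLinearGroup (Fin 2) F ⧸ Subgroup.center (_root_.Matrix.SpecialLinearGroup (Fin 2) F)),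
        cod ψ = cod χ) : Subgroup.center (_root_.Matrix.SpecialLinearGroup (Fin 2) F) = ⊥ := by
  classical
  by_contra hZ
  have := Characters.Core.finite_irr (G := _root_.Matrix.SpecialLinearGroup (Fin 2) F)
  let _ := Fintype.ofFinite (IrrCharacter (_root_.Matrix.SpecialLinearGroup (Fin 2) F))
  have hQ := qs_two (F := F) (by omega)
  have hs := hQ.simple
  have hc := card_center (F := F) (n := 2) (by norm_num)
  have hZ2 : Nat.card (Subgroup.center (_root_.Matrix.SpecialLinearGroup (Fin 2) F)) = 2 := by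
    rw [hc]
    rcases (Nat.dvd_prime Nat.prime_two).1 (Nat.gcd_dvd_left 2 (Fintype.card F - 1)) with h4 | h4
    · rw [h4] at hc
      exact absurd (Subgroup.card_eq_one.1 hc) hZ
    · exact h4
  obtain ⟨k, hk⟩ : ∃ k, Fintype.card F = 2 * k + 1 := by
    rw [hZ2] at hc
    have : 2 ∣ Fintype.card F - 1 := by rw [hc]; exact Nat.gcd_dvd_right _ _
    exact ⟨(Fintype.card F - 1) / 2, by omega⟩
  obtain ⟨z, hzZ, hzo, hzz⟩ := exists_gen (V := Subgroup.center (_root_.Matrix.SpecialLinearGroup (Fin 2) F))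
    (by rw [hZ2]; exact Nat.prime_two)
  rw [hZ2] at hzo
  have hsum := sum_sq_Lam hzZ hzo (c := -1) (by norm_num)
  have hdeg : ∀ ψ ∈ Lam z (-1), charDegree (ψ : _root_.Matrix.SpecialLinearGroup (Fin 2) F → ℂ) = Fintype.card F + 1 ∨
      charDegree (ψ : _root_.Matrix.SpecialLinearGroup (Fin 2) F → ℂ) = Fintype.card F - 1 := by
    intro ψ hψ
    have h1 : (ψ : _root_.Matrix.SpecialLinearGroup (Fin 2) F → ℂ) z ≠ (ψ : _root_.Matrix.SpecialLinearGroup (Fin 2) F → ℂ) 1 := by
      rw [mem_Lam.1 hψ]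
      intro h'
      have h2 : (-1 : ℂ) = 1 := mul_right_cancel₀ (deg_ne ψ) (by rw [one_mul]; exact h')
      norm_num at h2
    have hψ1 : ψ ≠ _root_.Cfsg.Agent.H677.CodMultiset.one _ := by
      rintro rfl
      exact h1 rfl
    have hker : chKer ψ = ⊥ := by
      rcases hQ.ker hψ1 with h2 | h2
      · exact h2
      · exact absurd (show z ∈ chKer ψ by rw [h2]; exact hzZ) h1
    obtain ⟨χ, hχ⟩ := h ψ
    have hχ1 : χ ≠ _root_.Cfsg.Agent.H677.CodMultiset.one _ := by
      rintro rfl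
      rw [cod_one] at hχ
      exact hψ1 (cod_eq_one_iff.1 hχ)
    have h3 := cod_mul_index ψ
    rw [hker, Subgroup.index_bot] at h3
    have h4 := cod_mul hχ1
    rw [← hχ, ← Subgroup.index_eq_card] at h4
    have h5' := Subgroup.card_mul_index (Subgroup.center (_root_.Matrix.SpecialLinearGroup (Fin 2) F))
    rw [hZ2, ← h4, ← h3] at h5'
    have h6 : cod ψ * (2 * charDegree (χ : _root_.Matrix.SpecialLinearGroup (Fin 2) F ⧸ Subgroup.center (_root_.Matrix.SpecialLinearGroup (Fin 2) F) → ℂ)) =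
        cod ψ * charDegree (ψ : _root_.Matrix.SpecialLinearGroup (Fin 2) F → ℂ) := by rw [← h5']; ring
    have h7 := Nat.eq_of_mul_eq_mul_left (cod_pos ψ) h6
    have h8 := SimTwo.degrees h5 hψ1
    have h9 : infl (Subgroup.center (_root_.Matrix.SpecialLinearGroup (Fin 2) F)) χ ≠ _root_.Cfsg.Agent.H677.CodMultiset.one _ := by
      intro h10
      apply hχ1
      apply infl_injective (Subgroup.center (_root_.Matrix.SpecialLinearGroup (Fin 2) F))
      rw [h10]
      rfl
    have h10 := SimTwo.degrees h5 h9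
    rw [charDegree_infl] at h10
    rw [← h7] at h8 ⊢
    rw [hk] at h8 h10 h5 ⊢
    (clear * - h8 h10; omega)
  have h9 : ∀ ψ ∈ Lam z (-1), charDegree (ψ : _root_.Matrix.SpecialLinearGroup (Fin 2) F → ℂ) ^ 2 =
      (Fintype.card F + 1) ^ 2 * (if charDegree (ψ : _root_.Matrix.SpecialLinearGroup (Fin 2) F → ℂ) = Fintype.card F + 1 then 1 else 0) +
      (Fintype.card F - 1) ^ 2 * (if charDegree (ψ : _root_.Matrix.SpecialLinearGroup (Fin 2) F → ℂ) = Fintype.card F - 1 then 1 else 0) := by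
    intro ψ hψ
    rcases hdeg ψ hψ with h' | h' <;> rw [h']
    · rw [if_pos rfl, if_neg (by omega)]; ring
    · rw [if_pos rfl, if_neg (by omega)]; ring
  rw [sum_congr rfl h9, sum_add_distrib, ← mul_sum, ← mul_sum, card_two] at hsum
  generalize (∑ ψ ∈ Lam z (-1), if charDegree (ψ : _root_.Matrix.SpecialLinearGroup (Fin 2) F → ℂ) = Fintype.card F + 1 then 1 else 0) = a at hsum
  generalize (∑ ψ ∈ Lam z (-1), if charDegree (ψ : _root_.Matrix.SpecialLinearGroup (Fin 2) F → ℂ) = Fintype.card F - 1 then 1 else 0) = b at hsum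
  rw [hk, Nat.add_sub_cancel] at hsum
  have e1 : (2 * k + 1) ^ 2 - 1 = 4 * (k * (k + 1)) := by
    have : (2 * k + 1) ^ 2 = 4 * (k * (k + 1)) + 1 := by ring
    omega
  rw [e1] at hsum
  refine num (a := a) (b := b) (h := k) (by omega) ?_
  have h10 : 4 * (2 * a * (k + 1) ^ 2 + 2 * b * k ^ 2) = 4 * (k * (k + 1) * (2 * k + 1)) := by
    calc 4 * (2 * a * (k + 1) ^ 2 + 2 * b * k ^ 2) = 2 * ((2 * k + 1 + 1) ^ 2 * a + (2 * k) ^ 2 * b) := by ring
      _ = _ := by rw [hsum]; ring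
  exact Nat.eq_of_mul_eq_mul_left (by norm_num) h10

end Cfsg.Agent.H725.EqTwo
end

-- part: H725/IndDeg
section
/-!
# Constituents of induced linear characters (helper725)

`exists_deg_le` : if `τ` is a linear character of `P`, nontrivial at the central element `z ∈ P`, then some
irreducible character `χ` has degree at most `|G : P|` and `χ(z) ≠ χ(1)`.
-/

set_option autoImplicit false

namespace Cfsg.Agent.H725.IndDeg

open Cfsg Cfsg.Agent.H725.Lam
open Cfsg.Agent.H686.CharKit Cfsg.Agent.H677.CodPrime Cfsg.Agent.H677.CodMultiset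
open Finset ComplexConjugate

universe u

variable {G : Type u} [Group G] [Finite G]

/-- a vector on which `P` acts by `τ` generates a space of dimension at most `|G : P|` -/
theorem finrank_le {V : Type*} [AddCommGroup V] [Module ℂ V] [FiniteDimensional ℂ V]
    (ρ : Representation ℂ G V) (hρ : ρ.IsIrreducible) (P : Subgroup G) (τ : P →* ℂˣ) {v : V} (hv : v ≠ 0)
    (h : ∀ p : P, ρ p v = ((τ p : ℂˣ) : ℂ) • v) : Module.finrank ℂ V ≤ P.index := by
  classical
  let _ := Fintype.ofFinite (G ⧸ P)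
  let W : Submodule ℂ V := Submodule.span ℂ (Set.range fun x : G ⧸ P => ρ x.out v)
  have hmem : ∀ g : G, ρ g v ∈ W := by
    intro g
    obtain ⟨p, hp⟩ := QuotientGroup.mk_out_eq_mul P g
    have h1 : ρ g v = (((τ p)⁻¹ : ℂˣ) : ℂ) • ρ ((g : G ⧸ P).out) v := by
      rw [hp, map_mul, Module.End.mul_apply, h, map_smul, smul_smul, ← Units.val_mul, inv_mul_cancel, Units.val_one,
        one_smul]
    rw [h1]
    exact W.smul_mem _ (Submodule.subset_span ⟨_, rfl⟩)
  have hinv : ∀ g : G, W ≤ W.comap (ρ g) := by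
    intro g
    rw [Submodule.span_le]
    rintro _ ⟨x, rfl⟩
    change ρ g (ρ x.out v) ∈ W
    rw [← Module.End.mul_apply, ← map_mul]
    exact hmem _
  have hW : W = ⊤ := by
    have h1 : W ≠ ⊥ := by
      intro h2
      have h3 := hmem 1
      rw [h2, map_one, Submodule.mem_bot] at h3
      exact hv h3
    have h2 := hρ
    let W' : Subrepresentation ρ := ⟨W, fun g v hv => hinv g hv⟩
    rcases eq_bot_or_eq_top W' with h | h
    · exact absurd (congrArg Subrepresentation.toSubmodule h) h1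
    · exact congrArg Subrepresentation.toSubmodule h
  have h1 : Module.finrank ℂ W ≤ Fintype.card (G ⧸ P) := by
    refine (finrank_span_le_card _).trans ?_
    rw [Set.toFinset_range]
    exact card_image_le.trans (by rw [card_univ])
  rw [hW, finrank_top] at h1
  rw [Subgroup.index_eq_card, Nat.card_eq_fintype_card]
  exact h1

theorem exists_deg_le (P : Subgroup G) (τ : P →* ℂˣ) {z : G} (hz : z ∈ Subgroup.center G) (hzP : z ∈ P)
    (hτ : τ ⟨z, hzP⟩ ≠ 1) :
    ∃ χ : IrrCharacter G, charDegree (χ : G → ℂ) ≤ P.index ∧ (χ : G → ℂ) z ≠ (χ : G → ℂ) 1 := by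
  classical
  have := Characters.Core.finite_irr (G := G)
  let _ := Fintype.ofFinite (IrrCharacter G)
  let _ := Fintype.ofFinite P
  -- some irreducible character has nonzero pairing
  obtain ⟨χ, hχ⟩ : ∃ χ : IrrCharacter G, ∑ p : P, (((τ p)⁻¹ : ℂˣ) : ℂ) * (χ : G → ℂ) p ≠ 0 := by
    by_contra hcon
    push Not at hcon
    have h1 : ∑ χ : IrrCharacter G, (∑ p : P, (((τ p)⁻¹ : ℂˣ) : ℂ) * (χ : G → ℂ) p) * conj ((χ : G → ℂ) 1) = 0 :=
      sum_eq_zero fun χ _ => by rw [hcon, zero_mul]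
    have h2 : ∑ χ : IrrCharacter G, (∑ p : P, (((τ p)⁻¹ : ℂˣ) : ℂ) * (χ : G → ℂ) p) * conj ((χ : G → ℂ) 1) =
        ∑ p : P, (((τ p)⁻¹ : ℂˣ) : ℂ) * ∑ χ : IrrCharacter G, (χ : G → ℂ) p * conj ((χ : G → ℂ) 1) := by
      simp_rw [sum_mul, mul_sum]
      rw [sum_comm]
      refine sum_congr rfl fun p _ => sum_congr rfl fun χ _ => by ring
    rw [h1, sum_eq_single 1] at h2
    · rw [map_one, inv_one, Units.val_one, one_mul] at h2
      have h3 := col_orth (G := G) 1 1
      rw [if_pos (IsConj.refl _)] at h3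
      have h4 : ∑ χ : IrrCharacter G, (χ : G → ℂ) ((1 : P) : G) * conj ((χ : G → ℂ) 1) =
          (Nat.card (Subgroup.centralizer ({1} : Set G)) : ℂ) := h3
      rw [h4] at h2
      exact Nat.cast_ne_zero.2 Nat.card_pos.ne' h2.symm
    · intro p _ hp
      have h3 : ∑ χ : IrrCharacter G, (χ : G → ℂ) p * conj ((χ : G → ℂ) 1) = 0 := by
        rw [col_orth, if_neg]
        rw [isConj_one_left]
        exact fun h => hp (Subtype.ext h)
      rw [h3, mul_zero]
    · intro h
      exact absurd (mem_univ _) h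
  refine ⟨χ, ?_⟩
  obtain ⟨χ, n, ρ, hρ, rfl⟩ := χ
  -- the projection
  set E : (Fin n → ℂ) →ₗ[ℂ] (Fin n → ℂ) := ∑ p : P, (((τ p)⁻¹ : ℂˣ) : ℂ) • ρ p with hE
  have hE0 : E ≠ 0 := by
    intro h
    apply hχ
    have h1 : LinearMap.trace ℂ _ E = ∑ p : P, (((τ p)⁻¹ : ℂˣ) : ℂ) * ρ.character p := by
      rw [hE, map_sum]
      refine sum_congr rfl fun p _ => ?_
      rw [map_smul, smul_eq_mul]
      rfl
    rw [h, map_zero] at h1
    exact h1.symm
  obtain ⟨w, hw⟩ : ∃ w, E w ≠ 0 := by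
    by_contra hcon
    push Not at hcon
    exact hE0 (LinearMap.ext hcon)
  have hP : ∀ p : P, ρ p (E w) = ((τ p : ℂˣ) : ℂ) • E w := by
    intro p
    have h1 : ρ p (E w) = ∑ q : P, (((τ q)⁻¹ : ℂˣ) : ℂ) • ρ ((p * q : P) : G) w := by
      rw [hE, LinearMap.sum_apply, map_sum]
      refine sum_congr rfl fun q _ => ?_
      rw [LinearMap.smul_apply, map_smul, Subgroup.coe_mul, map_mul]
      rfl
    have h2 : E w = ∑ q : P, (((τ (p * q))⁻¹ : ℂˣ) : ℂ) • ρ ((p * q : P) : G) w := by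
      rw [hE, LinearMap.sum_apply]
      exact (Equiv.sum_comp (Equiv.mulLeft p) (fun q : P => (((τ q)⁻¹ : ℂˣ) : ℂ) • ρ (q : G) w)).symm
    rw [h1, h2, smul_sum]
    refine sum_congr rfl fun q _ => ?_
    rw [smul_smul, ← Units.val_mul, map_mul, mul_inv, mul_inv_cancel_left]
  have hdeg : charDegree ρ.character = Module.finrank ℂ (Fin n → ℂ) := by
    have h1 : ρ.character 1 = (Module.finrank ℂ (Fin n → ℂ) : ℂ) := Representation.char_one ρ
    unfold charDegree
    rw [h1]
    simp only [_root_.Module.finrank_fintype_fun_eq_card, _root_.Fintype.card_fin, _root_.Complex.natCast_re, _root_.Nat.floor_natCast]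
  refine ⟨?_, ?_⟩
  · change charDegree ρ.character ≤ _
    rw [hdeg]
    exact finrank_le ρ hρ P τ hw hP
  · obtain ⟨c, hc⟩ := Cfsg.Agent.Characters.Central.exists_smul_of_comm ρ hρ (ρ z) (fun g => by
      rw [← map_mul, ← map_mul, (Subgroup.mem_center_iff.1 hz g)])
    have h1 := hP ⟨z, hzP⟩
    change ρ z (E w) = _ at h1
    rw [hc, LinearMap.smul_apply, Module.End.one_apply] at h1
    have h2 : c = ((τ ⟨z, hzP⟩ : ℂˣ) : ℂ) := smul_left_injective ℂ hw h1
    change ρ.character z ≠ ρ.character 1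
    unfold Representation.character
    rw [hc, map_one, map_smul, smul_eq_mul, LinearMap.trace_one]
    intro h3
    have h4 : (Module.finrank ℂ (Fin n → ℂ) : ℂ) ≠ 0 := by
      rw [Nat.cast_ne_zero]
      intro h5
      have h6 : Nontrivial (Fin n → ℂ) := ⟨_, _, hw⟩
      exact (Module.finrank_pos (R := ℂ) (M := Fin n → ℂ)).ne' h5
    have h5 : c = 1 := mul_right_cancel₀ h4 (by rw [one_mul]; exact h3)
    apply hτ
    apply Units.ext
    rw [← h2, h5, Units.val_one]

end Cfsg.Agent.H725.IndDeg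
end

-- part: H725/Parab
section
/-!
# A faithful character of `SL₃(q)` of degree at most `q² + q + 1` (helper725)
-/

set_option autoImplicit false

namespace Cfsg.Agent.H725.Parab

open Cfsg Cfsg.Agent.H725.Cod Cfsg.Agent.H725.Lam Cfsg.Agent.H725.SLFacts Cfsg.Agent.H725.CenGen
open Cfsg.Agent.H686.CharKit Cfsg.Agent.H677.CodPrime Cfsg.Agent.H677.CodMultiset Matrix

universe u

variable {F : Type u} [Field F]

/-- the parabolic subgroup -/
def P (F : Type u) [Field F] : Subgroup (_root_.Matrix.SpecialLinearGroup (Fin 3) F) where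
  carrier := {g | g.1 1 0 = 0 ∧ g.1 2 0 = 0}
  one_mem' := by
    constructor <;> rfl
  mul_mem' := by
    rintro a b ⟨ha1, ha2⟩ ⟨hb1, hb2⟩
    constructor
    · change (a.1 * b.1) 1 0 = 0
      rw [Matrix.mul_apply, Fin.sum_univ_three, ha1, hb1, hb2]
      ring
    · change (a.1 * b.1) 2 0 = 0
      rw [Matrix.mul_apply, Fin.sum_univ_three, ha2, hb1, hb2]
      ring
  inv_mem' := by
    rintro a ⟨ha1, ha2⟩
    have h00 : (a.1 * (a⁻¹).1) = 1 := by
      have := congrArg Subtype.val (mul_inv_cancel a)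
      exact this
    have hinv : ((a⁻¹).1 * a.1) = 1 := by
      have := congrArg Subtype.val (inv_mul_cancel a)
      exact this
    have e0 : (a⁻¹).1 0 0 * a.1 0 0 = 1 := by
      have := congrFun (congrFun hinv 0) 0
      rw [Matrix.mul_apply, Fin.sum_univ_three, ha1, ha2] at this
      simpa only [_root_.Fin.isValue, _root_.Matrix.SpecialLinearGroup.coe_inv, _root_.MulZeroClass.mul_zero, _root_.add_zero, _root_.Matrix.one_apply_eq] using this
    have e1 : (a⁻¹).1 1 0 * a.1 0 0 = 0 := by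
      have := congrFun (congrFun hinv 1) 0
      rw [Matrix.mul_apply, Fin.sum_univ_three, ha1, ha2] at this
      simpa only [_root_.Fin.isValue, _root_.Matrix.SpecialLinearGroup.coe_inv, _root_.mul_eq_zero, _root_.MulZeroClass.mul_zero, _root_.add_zero, _root_.ne_eq, _root_.one_ne_zero, _root_.not_false_eq_true, _root_.Matrix.one_apply_ne] using this
    have e2 : (a⁻¹).1 2 0 * a.1 0 0 = 0 := by
      have := congrFun (congrFun hinv 2) 0
      rw [Matrix.mul_apply, Fin.sum_univ_three, ha1, ha2] at this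
      simpa only [_root_.Fin.isValue, _root_.Matrix.SpecialLinearGroup.coe_inv, _root_.mul_eq_zero, _root_.MulZeroClass.mul_zero, _root_.add_zero, _root_.ne_eq, _root_.Fin.reduceEq, _root_.not_false_eq_true, _root_.Matrix.one_apply_ne] using this
    have hne : a.1 0 0 ≠ 0 := right_ne_zero_of_mul_eq_one e0
    exact ⟨(mul_eq_zero.1 e1).resolve_right hne, (mul_eq_zero.1 e2).resolve_right hne⟩

theorem mem_P {g : _root_.Matrix.SpecialLinearGroup (Fin 3) F} : g ∈ P F ↔ g.1 1 0 = 0 ∧ g.1 2 0 = 0 := Iff.rfl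

theorem P_mul (a b : P F) : (a * b : P F).1.1 0 0 = a.1.1 0 0 * b.1.1 0 0 := by
  change (a.1.1 * b.1.1) 0 0 = _
  rw [Matrix.mul_apply, Fin.sum_univ_three, b.2.1, b.2.2]
  ring

/-- the eigenvalue -/
def lam : P F →* Fˣ where
  toFun a := ⟨a.1.1 0 0, (a⁻¹).1.1 0 0, by
    rw [← P_mul, mul_inv_cancel]; rfl, by
    rw [← P_mul, inv_mul_cancel]; rfl⟩
  map_one' := Units.ext rfl
  map_mul' a b := Units.ext (P_mul a b)

open Classical in
/-- the normal form of the first column -/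
noncomputable def nf (g : _root_.Matrix.SpecialLinearGroup (Fin 3) F) : (F × F) ⊕ (F ⊕ Unit) :=
  if g.1 0 0 ≠ 0 then Sum.inl (g.1 1 0 / g.1 0 0, g.1 2 0 / g.1 0 0)
  else if g.1 1 0 ≠ 0 then Sum.inr (Sum.inl (g.1 2 0 / g.1 1 0)) else Sum.inr (Sum.inr ())

theorem col_ne (g : _root_.Matrix.SpecialLinearGroup (Fin 3) F) : ¬ (g.1 0 0 = 0 ∧ g.1 1 0 = 0 ∧ g.1 2 0 = 0) := by
  rintro ⟨h0, h1, h2⟩
  have h := g.2
  rw [Matrix.det_fin_three, h0, h1, h2] at h
  simp at h

theorem mem_of_prop {g h : _root_.Matrix.SpecialLinearGroup (Fin 3) F} {c : F} (h0 : h.1 0 0 = c * g.1 0 0)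
    (h1 : h.1 1 0 = c * g.1 1 0) (h2 : h.1 2 0 = c * g.1 2 0) : g⁻¹ * h ∈ P F := by
  have hinv : ((g⁻¹).1 * g.1) = 1 := congrArg Subtype.val (inv_mul_cancel g)
  constructor
  · change ((g⁻¹).1 * h.1) 1 0 = 0
    have := congrFun (congrFun hinv 1) 0
    rw [Matrix.mul_apply, Fin.sum_univ_three] at this
    rw [Matrix.mul_apply, Fin.sum_univ_three, h0, h1, h2]
    have h3 : (1 : Matrix (Fin 3) (Fin 3) F) 1 0 = 0 := rfl
    rw [h3] at this
    linear_combination c * this
  · change ((g⁻¹).1 * h.1) 2 0 = 0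
    have := congrFun (congrFun hinv 2) 0
    rw [Matrix.mul_apply, Fin.sum_univ_three] at this
    rw [Matrix.mul_apply, Fin.sum_univ_three, h0, h1, h2]
    have h3 : (1 : Matrix (Fin 3) (Fin 3) F) 2 0 = 0 := rfl
    rw [h3] at this
    linear_combination c * this

theorem mem_of_nf {g h : _root_.Matrix.SpecialLinearGroup (Fin 3) F} (H : nf g = nf h) : g⁻¹ * h ∈ P F := by
  unfold nf at H
  by_cases hg0 : g.1 0 0 = 0
  · rw [if_neg (not_not.2 hg0)] at H
    by_cases hh0 : h.1 0 0 = 0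
    · rw [if_neg (not_not.2 hh0)] at H
      by_cases hg1 : g.1 1 0 = 0
      · rw [if_neg (not_not.2 hg1)] at H
        by_cases hh1 : h.1 1 0 = 0
        · have hg2 : g.1 2 0 ≠ 0 := fun h2 => col_ne g ⟨hg0, hg1, h2⟩
          refine mem_of_prop (c := h.1 2 0 / g.1 2 0) ?_ ?_ ?_
          · rw [hh0, hg0, mul_zero]
          · rw [hh1, hg1, mul_zero]
          · field_simp
        · rw [if_pos hh1] at H
          simp at H
      · rw [if_pos hg1] at H
        by_cases hh1 : h.1 1 0 = 0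
        · rw [if_neg (not_not.2 hh1)] at H
          simp at H
        · rw [if_pos hh1] at H
          have H' := Sum.inl_injective (Sum.inr_injective H)
          refine mem_of_prop (c := h.1 1 0 / g.1 1 0) ?_ ?_ ?_
          · rw [hh0, hg0, mul_zero]
          · field_simp
          · rw [div_eq_div_iff hg1 hh1] at H'
            field_simp
            linear_combination -H'
    · rw [if_pos hh0] at H
      split_ifs at H
  · rw [if_pos hg0] at H
    by_cases hh0 : h.1 0 0 = 0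
    · rw [if_neg (not_not.2 hh0)] at H
      split_ifs at H
    · rw [if_pos hh0] at H
      have H' := Sum.inl_injective H
      rw [Prod.mk.injEq] at H'
      obtain ⟨H1, H2⟩ := H'
      rw [div_eq_div_iff hg0 hh0] at H1 H2
      refine mem_of_prop (c := h.1 0 0 / g.1 0 0) ?_ ?_ ?_
      · field_simp
      · field_simp
        linear_combination -H1
      · field_simp
        linear_combination -H2

theorem index_le [Fintype F] : (P F).index ≤ Fintype.card F ^ 2 + (Fintype.card F + 1) := by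
  have h1 : Function.Injective fun x : _root_.Matrix.SpecialLinearGroup (Fin 3) F ⧸ P F => nf x.out := by
    intro x y hxy
    have h2 := mem_of_nf hxy
    rw [← QuotientGroup.eq, QuotientGroup.out_eq', QuotientGroup.out_eq'] at h2
    exact h2
  have h2 := Nat.card_le_card_of_injective _ h1
  rw [Subgroup.index_eq_card]
  refine h2.trans ?_
  rw [Nat.card_sum, Nat.card_prod, Nat.card_sum, Nat.card_eq_fintype_card (α := F), Nat.card_eq_fintype_card (α := Unit),
    Fintype.card_unit, pow_two]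

theorem center_mem {z : _root_.Matrix.SpecialLinearGroup (Fin 3) F} (hz : z ∈ Subgroup.center _) : z ∈ P F := by
  obtain ⟨r, -, hr⟩ := Matrix.SpecialLinearGroup.mem_center_iff.1 hz
  rw [mem_P, ← hr]
  constructor <;> simp [Matrix.scalar_apply]

theorem lam_ne {z : _root_.Matrix.SpecialLinearGroup (Fin 3) F} (hz : z ∈ Subgroup.center _) (hz1 : z ≠ 1) :
    lam ⟨z, center_mem hz⟩ ≠ 1 := by
  intro h
  obtain ⟨r, -, hr⟩ := Matrix.SpecialLinearGroup.mem_center_iff.1 hz
  have h1 : z.1 0 0 = 1 := congrArg Units.val h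
  rw [← hr, Matrix.scalar_apply, Matrix.diagonal_apply_eq] at h1
  apply hz1
  apply Subtype.ext
  rw [← hr, h1, map_one]
  rfl

/-- **A faithful character of small degree.** -/
theorem exists_small [Fintype F] (hZ : Subgroup.center (_root_.Matrix.SpecialLinearGroup (Fin 3) F) ≠ ⊥) :
    ∃ χ : IrrCharacter (_root_.Matrix.SpecialLinearGroup (Fin 3) F),
      charDegree (χ : _root_.Matrix.SpecialLinearGroup (Fin 3) F → ℂ) ≤ Fintype.card F ^ 2 + (Fintype.card F + 1) ∧
      chKer χ = ⊥ := by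
  obtain ⟨z, hz, hz1⟩ : ∃ z ∈ Subgroup.center (_root_.Matrix.SpecialLinearGroup (Fin 3) F), z ≠ 1 := by
    by_contra hcon
    push Not at hcon
    exact hZ ((Subgroup.eq_bot_iff_forall _).2 hcon)
  have hroot : HasEnoughRootsOfUnity ℂ (Monoid.exponent Fˣ) := inferInstance
  obtain ⟨φ, hφ⟩ := CommGroup.exists_apply_ne_one_of_hasEnoughRootsOfUnity Fˣ ℂ (lam_ne hz hz1)
  obtain ⟨χ, h1, h2⟩ := IndDeg.exists_deg_le (P F) (φ.comp lam) hz (center_mem hz) hφ
  refine ⟨χ, h1.trans index_le, ?_⟩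
  have hQ := qs_three (F := F)
  have hχ : χ ≠ _root_.Cfsg.Agent.H677.CodMultiset.one _ := by
    rintro rfl
    exact h2 rfl
  rcases hQ.ker hχ with h | h
  · exact h
  · exact absurd (show z ∈ chKer χ by rw [h]; exact hz) h2

/-- the codegree sets of `SL₃(q)` and `PSL₃(q)` are different if the centre is not trivial -/
theorem ne_three {F : Type} [Field F] [Fintype F]
    (h : ∀ ψ : IrrCharacter (_root_.Matrix.SpecialLinearGroup (Fin 3) F),
      ∃ χ : IrrCharacter (_root_.Matrix.SpecialLinearGroup (Fin 3) F ⧸ Subgroup.center (_root_.Matrix.SpecialLinearGroup (Fin 3) F)),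
        cod ψ = cod χ) : Subgroup.center (_root_.Matrix.SpecialLinearGroup (Fin 3) F) = ⊥ := by
  by_contra hZ
  obtain ⟨ψ, h1, h2⟩ := exists_small hZ
  obtain ⟨χ, hχ⟩ := h ψ
  have hQ := qs_three (F := F)
  have hs := hQ.simple
  have hZ3 : Nat.card (Subgroup.center (_root_.Matrix.SpecialLinearGroup (Fin 3) F)) = 3 := by
    have h3 := card_center (F := F) (n := 3) (by norm_num)
    rw [h3]
    rcases (Nat.dvd_prime Nat.prime_three).1 (Nat.gcd_dvd_left 3 (Fintype.card F - 1)) with h4 | h4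
    · rw [h4] at h3
      exact absurd (Subgroup.card_eq_one.1 h3) hZ
    · exact h4
  have hψ : ψ ≠ _root_.Cfsg.Agent.H677.CodMultiset.one _ := by
    rintro rfl
    have h3 : chKer (_root_.Cfsg.Agent.H677.CodMultiset.one (_root_.Matrix.SpecialLinearGroup (Fin 3) F)) = ⊤ := by
      rw [eq_top_iff]
      intro g _
      rw [mem_chKer]
      rfl
    rw [h3] at h2
    have := hQ.nt
    exact top_ne_bot h2
  have hχ1 : χ ≠ _root_.Cfsg.Agent.H677.CodMultiset.one _ := by
    rintro rfl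
    rw [cod_one] at hχ
    exact hψ (cod_eq_one_iff.1 hχ)
  have h3 := cod_mul_index ψ
  rw [h2, Subgroup.index_bot] at h3
  have h4 := cod_mul hχ1
  rw [← hχ, ← Subgroup.index_eq_card] at h4
  have h5 := Subgroup.card_mul_index (Subgroup.center (_root_.Matrix.SpecialLinearGroup (Fin 3) F))
  rw [hZ3, ← h4, ← h3] at h5
  have h6 : cod ψ * (3 * charDegree (χ : _root_.Matrix.SpecialLinearGroup (Fin 3) F ⧸ Subgroup.center (_root_.Matrix.SpecialLinearGroup (Fin 3) F) → ℂ)) =
      cod ψ * charDegree (ψ : _root_.Matrix.SpecialLinearGroup (Fin 3) F → ℂ) := by rw [← h5]; ring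
  have h7 := Nat.eq_of_mul_eq_mul_left (cod_pos ψ) h6
  have h8 := H677.PslThree.charDegree_ge (F := F) (MulEquiv.refl _) χ hχ1
  rw [Nat.card_eq_fintype_card] at h8
  have h9 : 4 ≤ Fintype.card F := by
    have h10 := card_center (F := F) (n := 3) (by norm_num)
    rw [hZ3] at h10
    have h11 : 3 ∣ Fintype.card F - 1 := by rw [h10]; exact Nat.gcd_dvd_right _ _
    have h12 : 1 < Fintype.card F := Fintype.one_lt_card
    have := Nat.le_of_dvd (by omega) h11
    omega
  set q := Fintype.card F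
  have h10 : 4 * q ≤ q ^ 2 := by nlinarith only [h9]
  omega

end Cfsg.Agent.H725.Parab
end

-- part: H725/SimOKTwo
section
/-!
# Simple groups with codegrees among those of `SL₂(q)` (helper725)
-/

set_option autoImplicit false

namespace Cfsg.Agent.H725.SimTwo

open Cfsg Cfsg.Agent.H725.Cod Cfsg.Agent.H725.SLFacts Cfsg.Agent.OrdDiv
open Cfsg.Agent.H686.CharKit Cfsg.Agent.H677.CodPrime Cfsg.Agent.H677.CodMultiset

universe u v

theorem mono {m q : ℕ} (h : m ≤ q) : m * (m ^ 2 - 1) ≤ q * (q ^ 2 - 1) :=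
  Nat.mul_le_mul h (Nat.sub_le_sub_right (Nat.pow_le_pow_left h 2) 1)

/-- `4 x` is not `q (q² - 1)` for a sporadic order `x` -/
theorem spor_num : ∀ x ∈ spor, ∃ m, m * (m ^ 2 - 1) < 4 * x.2 ∧ 4 * x.2 < (m + 1) * ((m + 1) ^ 2 - 1) := by
  intro x hx
  simp only [spor, List.mem_cons, List.not_mem_nil, or_false] at hx
  rcases hx with rfl | rfl | rfl | rfl | rfl | rfl | rfl | rfl | rfl | rfl | rfl | rfl | rfl | rfl | rfl | rfl | rfl |
    rfl | rfl | rfl | rfl | rfl | rfl | rfl | rfl | rfl | rfl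
  · exact ⟨415, by norm_num, by norm_num⟩
  · exact ⟨31, by norm_num, by norm_num⟩
  · exact ⟨72, by norm_num, by norm_num⟩
  · exact ⟨121, by norm_num, by norm_num⟩
  · exact ⟨344, by norm_num, by norm_num⟩
  · exact ⟨993, by norm_num, by norm_num⟩
  · exact ⟨88, by norm_num, by norm_num⟩
  · exact ⟨134, by norm_num, by norm_num⟩
  · exact ⟨585, by norm_num, by norm_num⟩
  · exact ⟨7027796, by norm_num, by norm_num⟩
  · exact ⟨2552546, by norm_num, by norm_num⟩
  · exact ⟨55311, by norm_num, by norm_num⟩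
  · exact ⟨12563, by norm_num, by norm_num⟩
  · exact ⟨1531, by norm_num, by norm_num⟩
  · exact ⟨561, by norm_num, by norm_num⟩
  · exact ⟨12149, by norm_num, by norm_num⟩
  · exact ⟨2526, by norm_num, by norm_num⟩
  · exact ⟨8357, by norm_num, by norm_num⟩
  · exact ⟨12261, by norm_num, by norm_num⟩
  · exact ⟨591606, by norm_num, by norm_num⟩
  · exact ⟨63681, by norm_num, by norm_num⟩
  · exact ⟨2538491, by norm_num, by norm_num⟩
  · exact ⟨171234642, by norm_num, by norm_num⟩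
  · exact ⟨102981, by norm_num, by norm_num⟩
  · exact ⟨713338, by norm_num, by norm_num⟩
  · exact ⟨255193373378, by norm_num, by norm_num⟩
  · exact ⟨1478518986444697764, by norm_num, by norm_num⟩

theorem spor_no {x : Grp × ℕ} (hx : x ∈ spor) {q : ℕ} (h : 4 * x.2 = q * (q ^ 2 - 1)) : False := by
  obtain ⟨m, h1, h2⟩ := spor_num x hx
  rcases Nat.lt_or_ge q (m + 1) with h3 | h3
  · have := mono (Nat.lt_succ_iff.1 h3)
    omega
  · have := mono h3
    omega

theorem alt_no {N n p f : ℕ} (hp : p.Prime) (hodd : Odd (p ^ f)) (hn : 5 ≤ n)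
    (h2 : 2 * N = n.factorial) (h : 4 * N = p ^ f * ((p ^ f) ^ 2 - 1)) : False := by
  have hN : N ≠ 0 := by
    rintro rfl
    exact (Nat.factorial_pos n).ne h2
  have hq : 0 < p ^ f := Nat.pow_pos hp.pos
  have h1 : p ^ f ∣ N := by
    have h3 : p ^ f ∣ 4 * N := ⟨_, h⟩
    refine Nat.Coprime.dvd_of_dvd_mul_left ?_ h3
    exact Nat.Coprime.pow_right 2 (Nat.coprime_two_right.2 hodd)
  have h3 : f ≤ N.factorization p := (hp.pow_dvd_iff_le_factorization hN).1 h1
  have h4 : N < (p ^ (N.factorization p)) ^ 3 := by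
    have h5 : (p ^ f) ^ 3 ≤ (p ^ (N.factorization p)) ^ 3 :=
      Nat.pow_le_pow_left (Nat.pow_le_pow_right hp.pos h3) 3
    have h6 : p ^ f * ((p ^ f) ^ 2 - 1) < (p ^ f) ^ 3 := by
      rw [show (p ^ f) ^ 3 = p ^ f * (p ^ f) ^ 2 by ring]
      have h7 : 0 < (p ^ f) ^ 2 := Nat.pow_pos hq
      exact Nat.mul_lt_mul_of_pos_left (by omega) hq
    omega
  have h5 : n ≤ 10 := by
    rcases H677.OrdAltSpor.small hp hn h2 h4 with ⟨rfl, h5⟩ | ⟨-, h5⟩ | ⟨-, h5⟩
    · exfalso
      have hf : f = 0 := by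
        by_contra hf
        exact (Nat.not_odd_iff_even.2 ((Nat.even_pow.2 ⟨even_two, hf⟩))) hodd
      rw [hf] at h
      norm_num at h
      exact hN h
    · exact h5
    · omega
  have h6 : p ^ f * ((p ^ f) ^ 2 - 1) = 2 * n.factorial := by omega
  generalize p ^ f = q at h6
  have key : ∀ m, m * (m ^ 2 - 1) < 2 * n.factorial → 2 * n.factorial < (m + 1) * ((m + 1) ^ 2 - 1) → False := by
    intro m h7 h8
    rcases Nat.lt_or_ge q (m + 1) with h9 | h9
    · have := mono (Nat.lt_succ_iff.1 h9)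
      omega
    · have := mono h9
      omega
  interval_cases n
  · exact key 6 (by decide) (by decide)
  · exact key 11 (by decide) (by decide)
  · exact key 21 (by decide) (by decide)
  · exact key 43 (by decide) (by decide)
  · exact key 89 (by decide +kernel) (by decide +kernel)
  · exact key 193 (by decide +kernel) (by decide +kernel)

theorem psl_nonab {F : Type} [Field F] [Fintype F] (h5 : 5 ≤ Fintype.card F) :
    ¬ IsMulCommutative (Matrix.ProjectiveSpecialLinearGroup (Fin 2) F) :=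
  (qs_two (F := F) (by omega)).quotient_nonabelian

theorem simOK_two (T : OrderTable.{u}) (T' : OrderTable.{0})
    (hK : ∀ (S : Type u) [Group S] [Finite S] [IsSimpleGroup S], IsKnownSimple' S)
    {F : Type} [Field F] [Fintype F] (h5 : 5 ≤ Fintype.card F) :
    SimOK.{u, 0} (Matrix.SpecialLinearGroup (Fin 2) F) := by
  intro S _ _ _ hS
  have hQ := qs_two (F := F) (by omega)
  obtain ⟨p, f, hp, hf, hF⟩ := exists_pp F
  have hna := hS.nonabelian hQ
  have hsim : IsSimpleGroup (Matrix.ProjectiveSpecialLinearGroup (Fin 2) F) := hQ.simple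
  have hidx := index_two (F := F)
  obtain ⟨h1, h2⟩ := order_two h5 hS
  rcases h1 with h1 | ⟨h1, hodd⟩
  · -- equal orders
    have hreal : H902.Art.Real (.L 2) p f (Nat.card (Matrix.ProjectiveSpecialLinearGroup (Fin 2) F)) :=
      H902.Names.psl_real hp hf hF le_rfl (by rw [← hF]; omega)
    have hKL : IsKnownSimple' (Matrix.ProjectiveSpecialLinearGroup (Fin 2) F) :=
      Or.inr (Or.inr (Or.inl ⟨F, _, _, 2, le_rfl, fun _ => by omega, ⟨MulEquiv.refl _⟩⟩))
    rcases Cls.iso_of_card T T' (hK S) hna hKL (psl_nonab h5) hreal h1 with ⟨⟨e⟩⟩ | ⟨h3, -⟩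
    · exact Or.inr ⟨e⟩
    · exfalso
      have h4 : (Subgroup.center (Matrix.SpecialLinearGroup (Fin 2) F)).index = 20160 := h3
      rw [h4] at hidx
      have hg : Nat.gcd 2 (Fintype.card F - 1) = 1 ∨ Nat.gcd 2 (Fintype.card F - 1) = 2 :=
        (Nat.dvd_prime Nat.prime_two).1 (Nat.gcd_dvd_left _ _)
      have key : ∀ m N, m * (m ^ 2 - 1) < N → N < (m + 1) * ((m + 1) ^ 2 - 1) →
          N ≠ Fintype.card F * (Fintype.card F ^ 2 - 1) := by
        intro m N h7 h8 h9
        rcases Nat.lt_or_ge (Fintype.card F) (m + 1) with h10 | h10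
        · have := mono (Nat.lt_succ_iff.1 h10)
          omega
        · have := mono h10
          omega
      rcases hg with hg | hg
      · rw [hg] at hidx
        exact key 27 _ (by norm_num) (by norm_num) hidx
      · rw [hg] at hidx
        exact key 34 _ (by norm_num) (by norm_num) hidx
  · exfalso
    have hg : Nat.gcd 2 (Fintype.card F - 1) = 2 := by
      apply Nat.gcd_eq_left
      obtain ⟨k, hk⟩ := hodd
      omega
    rw [hg] at hidx
    rcases Cls.classes T (hK S) hna with ⟨n, hn, -, h3⟩ | ⟨ℓ, X, g, h3, χ, hχ⟩ | ⟨x, hx, -, h3⟩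
    · rw [hF] at h1 hodd
      exact alt_no hp hodd hn h3 h1
    · have h4 := h3.lt_cube
      rw [← hχ] at h4
      have h5' : χ ≠ _root_.Cfsg.Agent.H677.CodMultiset.one S := by
        rintro rfl
        rw [charDegree_one, one_pow] at h4
        have : 0 < Nat.card S := Nat.card_pos
        omega
      obtain ⟨t, ht, hD⟩ := h2 χ h5'
      have ht2 : t = 2 := by
        have h6 : Nat.card S * t = Nat.card S * 2 := by rw [ht]; omega
        exact Nat.eq_of_mul_eq_mul_left Nat.card_pos h6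
      rw [ht2] at hD
      have h7 : 2 * charDegree (χ : S → ℂ) ≤ Fintype.card F + 1 := by
        rcases hD with h8 | ⟨i, hi, h8⟩
        · omega
        · have : 2 * charDegree (χ : S → ℂ) ≤ i * (2 * charDegree (χ : S → ℂ)) :=
            Nat.le_mul_of_pos_left _ (by omega)
          omega
      have h8 : (2 * charDegree (χ : S → ℂ)) ^ 3 ≤ (Fintype.card F + 1) ^ 3 := Nat.pow_le_pow_left h7 3
      have h9 : (2 * charDegree (χ : S → ℂ)) ^ 3 = 8 * charDegree (χ : S → ℂ) ^ 3 := by ring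
      obtain ⟨a, ha⟩ : ∃ a, Fintype.card F = a + 5 := ⟨Fintype.card F - 5, by omega⟩
      rw [ha] at h8 h1
      have e1 : (a + 5) ^ 2 - 1 = a ^ 2 + 10 * a + 24 := by
        have : (a + 5) ^ 2 = a ^ 2 + 10 * a + 24 + 1 := by ring
        rw [this, Nat.add_sub_cancel]
      rw [e1] at h1
      nlinarith only [h4, h1, h8]
    · rw [h3] at h1
      exact spor_no hx h1

end Cfsg.Agent.H725.SimTwo
end

-- part: H725/AbBound
section
/-!
# A lower bound for coprime modules of elementary abelian groups (helper725)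

`card_ge` : an elementary abelian group of order `p ^ k` acting faithfully on the finite abelian `q`-group `R`,
`q ≠ p` : `(p + 1) ^ k ≤ |R|`.
-/

set_option autoImplicit false

namespace Cfsg.Agent.H725.AbBound

open Subgroup Cfsg.Agent.Lib.CoprimeHyperplane

universe u v

/-- the orbit of a non-fixed point has at least `p` elements -/
theorem card_fix_ge {A : Type u} {R : Type v} [CommGroup A] [Finite A] [CommGroup R] [Finite R] {p : ℕ}
    (hp : p.Prime) (φ : A →* MulAut R) {B : Subgroup A} (hB : B.index = p) {x : R} (hx : x ∈ fix φ B)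
    {a : A} (ha : φ a x ≠ x) : p + 1 ≤ Nat.card (fix φ B) := by
  let act : MulAction A R := MulAction.compHom R φ
  have hact : ∀ (a : A) (y : R), a • y = φ a y := fun a y => rfl
  have h1 : B ≤ MulAction.stabilizer A x := by
    intro b hb
    rw [MulAction.mem_stabilizer_iff, hact]
    exact hx b hb
  have h2 : (MulAction.stabilizer A x).index = p := by
    rcases (Nat.dvd_prime hp).1 (hB ▸ Subgroup.index_dvd_of_le h1) with h | h
    · exfalso
      rw [Subgroup.index_eq_one] at h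
      have : a ∈ MulAction.stabilizer A x := by rw [h]; trivial
      rw [MulAction.mem_stabilizer_iff, hact] at this
      exact ha this
    · exact h
  have h3 : (MulAction.orbit A x).ncard = p := by
    rw [← h2, MulAction.index_stabilizer]
  have h4 : insert 1 (MulAction.orbit A x) ⊆ (fix φ B : Set R) := by
    rintro y (rfl | ⟨b, rfl⟩)
    · exact one_mem _
    · exact fix_invariant φ B b hx
  have h5 : (1 : R) ∉ MulAction.orbit A x := by
    rintro ⟨b, hb⟩
    have hb' : φ b x = 1 := hb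
    have h6 : x = 1 := by
      rwa [map_eq_one_iff _ (φ b).injective] at hb'
    rw [h6, map_one] at ha
    exact ha rfl
  have h6 := Set.ncard_le_ncard h4 (Set.toFinite _)
  rw [Set.ncard_insert_of_notMem h5 (Set.toFinite _), h3] at h6
  rwa [← Nat.card_coe_set_eq] at h6

theorem card_ge {p q : ℕ} [hp : Fact p.Prime] [hq : Fact q.Prime] (hpq : p ≠ q) :
    ∀ (k : ℕ) (A : Type u) (R : Type v) [CommGroup A] [Finite A] [CommGroup R] [Finite R]
      (φ : A →* MulAut R), Function.Injective φ → (∀ a : A, a ^ p = 1) → IsPGroup q R →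
      Nat.card A = p ^ k → (p + 1) ^ k ≤ Nat.card R := by
  intro k
  induction k with
  | zero =>
    intro A R _ _ _ _ φ _ _ _ _
    rw [pow_zero]
    exact Nat.card_pos
  | succ k ih =>
    intro A R _ _ _ _ φ hφ hA hR hcard
    have hnt : Nontrivial A := by
      rw [← Finite.one_lt_card_iff_nontrivial, hcard]
      exact Nat.one_lt_pow (Nat.succ_ne_zero k) hp.out.one_lt
    have htop := iSup_fix_eq_top_of_isPGroup φ hpq hA hR
    obtain ⟨a₀, ha₀⟩ := exists_ne (1 : A)
    obtain ⟨x₀, hx₀⟩ : ∃ x, φ a₀ x ≠ x := by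
      by_contra hcon
      push Not at hcon
      apply ha₀
      apply hφ
      rw [map_one]
      exact MulEquiv.ext hcon
    have h1 : ∃ B : Subgroup A, B.index = p ∧ ∃ x ∈ fix φ B, ∃ a : A, φ a x ≠ x := by
      by_contra hcon
      push Not at hcon
      have h2 : (⊤ : Subgroup R) ≤ fix φ ⊤ := by
        rw [← htop]
        exact iSup_le fun B x hx a _ => hcon B.1 B.2 x hx a
      exact hx₀ (h2 (mem_top x₀) a₀ (mem_top a₀))
    obtain ⟨B, hB, x, hx, a, ha⟩ := h1
    have h2 := card_fix_ge hp.out φ hB hx ha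
    set N := fix φ B with hN
    have hinv : ∀ b : A, N.map ((φ b : R ≃* R) : R →* R) = N := by
      intro b
      apply le_antisymm
      · rintro _ ⟨y, hy, rfl⟩
        exact fix_invariant φ B b hy
      · intro y hy
        refine ⟨φ b⁻¹ y, fix_invariant φ B b⁻¹ hy, ?_⟩
        change φ b (φ b⁻¹ y) = y
        rw [← MulAut.mul_apply, ← map_mul, mul_inv_cancel, map_one, MulAut.one_apply]
    let ψ : B →* MulAut (R ⧸ N) :=
      { toFun := fun b => QuotientGroup.congr N N (φ (b : A)) (hinv b)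
        map_one' := by
          ext y
          obtain ⟨y, rfl⟩ := QuotientGroup.mk_surjective y
          change ((φ ((1 : B) : A) y : R) : R ⧸ N) = (y : R ⧸ N)
          rw [Subgroup.coe_one, map_one, MulAut.one_apply]
        map_mul' := fun b c => by
          ext y
          obtain ⟨y, rfl⟩ := QuotientGroup.mk_surjective y
          change ((φ ((b * c : B) : A) y : R) : R ⧸ N) = ((φ (b : A) (φ (c : A) y) : R) : R ⧸ N)
          rw [Subgroup.coe_mul, map_mul, MulAut.mul_apply] }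
    have hψ : ∀ (b : B) (y : R), ψ b (y : R ⧸ N) = ((φ (b : A) y : R) : R ⧸ N) := fun b y => rfl
    have hcop : Nat.Coprime p (Nat.card R) := by
      obtain ⟨n, hn⟩ := IsPGroup.iff_card.1 hR
      rw [hn]
      exact Nat.Coprime.pow_right n ((Nat.coprime_primes hp.out hq.out).2 hpq)
    have hψi : Function.Injective ψ := by
      rw [injective_iff_map_eq_one]
      intro b hb
      apply Subtype.ext
      apply hφ
      rw [Subgroup.coe_one, map_one]
      ext y
      rw [MulAut.one_apply]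
      have h3 : ψ b (y : R ⧸ N) = (y : R ⧸ N) := by rw [hb]; rfl
      rw [hψ] at h3
      have h4 : y⁻¹ * φ (b : A) y ∈ N := QuotientGroup.eq.1 h3.symm
      set c := y⁻¹ * φ (b : A) y with hc
      have h5 : φ (b : A) c = c := h4 b b.2
      have h6 : ∀ n : ℕ, φ ((b : A) ^ n) y = y * c ^ n := by
        intro n
        induction n with
        | zero => rw [pow_zero, pow_zero, map_one, MulAut.one_apply, mul_one]
        | succ n ihn =>
          rw [pow_succ', map_mul, MulAut.mul_apply, ihn, map_mul, map_pow, h5]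
          have : φ (b : A) y = y * c := by rw [hc]; group
          rw [this, pow_succ', mul_assoc]
      have h7 := h6 p
      rw [hA, map_one, MulAut.one_apply] at h7
      have h8 : c ^ p = 1 := by
        have : y * c ^ p = y * 1 := by rw [← h7, mul_one]
        exact mul_left_cancel this
      have h9 : orderOf c ∣ p := orderOf_dvd_of_pow_eq_one h8
      have h10 := Nat.eq_one_of_dvd_coprimes hcop h9 (_root_.orderOf_dvd_natCard c)
      rw [orderOf_eq_one_iff] at h10
      have : φ (b : A) y = y * c := by rw [hc]; group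
      rw [this, h10, mul_one]
    have hcB : Nat.card B = p ^ k := by
      have h3 := B.card_mul_index
      rw [hB, hcard, pow_succ] at h3
      exact Nat.eq_of_mul_eq_mul_right hp.out.pos h3
    have h3 := ih B (R ⧸ N) ψ hψi (fun b => Subtype.ext (hA b)) (hR.to_quotient N) hcB
    have h4 := N.card_mul_index
    rw [Subgroup.index_eq_card] at h4
    rw [← h4, pow_succ']
    exact Nat.mul_le_mul h2 h3

end Cfsg.Agent.H725.AbBound
end

-- part: H725/NoAbSL
section
/-!
# `SL₂(q)` and `SL₃(q)` on small modules (helper725)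

`noAb_two`, `noAb_three` : no elementary abelian group `V` with `|V| ^ 2` dividing `|L|` is a faithful module for a
central quotient of `SL₂(q)`, `SL₃(q)`.
-/

set_option autoImplicit false

namespace Cfsg.Agent.H725.NoAbSL

open Cfsg Cfsg.Agent.H725.Cod Cfsg.Agent.H725.SLFacts

universe u v

section general
variable {H : Type v} [Group H] {V : Type u} [Group V] [Finite V]

/-- cross characteristic -/
theorem cross {r p k : ℕ} (hr : r.Prime) (hp : p.Prime) (hne : p ≠ r) (hcomm : ∀ a b : V, a * b = b * a)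
    (hpow : ∀ v : V, v ^ r = 1) (φ : H →* MulAut V) (hk : φ.ker ≤ Subgroup.center H) {A : Type*} [CommGroup A]
    [Finite A] (ι : A →* H) (hι : ∀ a, ι a ∈ Subgroup.center H → a = 1) (hA : ∀ a : A, a ^ p = 1)
    (hc : Nat.card A = p ^ k) : (p + 1) ^ k ≤ Nat.card V := by
  have := Fact.mk hr
  have := Fact.mk hp
  let inst : CommGroup V := { (inferInstance : Group V) with mul_comm := hcomm }
  refine AbBound.card_ge (p := p) (q := r) hne k A V (φ.comp ι) ?_ hA ?_ hc
  · rw [injective_iff_map_eq_one]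
    intro a ha
    exact hι a (hk ha)
  · intro v
    exact ⟨1, by rw [pow_one]; exact hpow v⟩

theorem index_dvd {r n : ℕ} (hr : r.Prime) (hcomm : ∀ a b : V, a * b = b * a) (hpow : ∀ v : V, v ^ r = 1)
    (φ : H →* MulAut V) (hk : φ.ker ≤ Subgroup.center H) (hn : Nat.card V = r ^ n) :
    (Subgroup.center H).index ∣ ∏ i : Fin n, (r ^ n - r ^ (i : ℕ)) := by
  have := Fact.mk hr
  rw [← Transfer.ElemAbAut.card_mulAut r n hcomm hpow hn]
  refine (Subgroup.index_dvd_of_le hk).trans ?_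
  rw [Subgroup.index_ker]
  exact Subgroup.card_subgroup_dvd_card _

theorem exists_card {r : ℕ} (hr : r.Prime) (hpow : ∀ v : V, v ^ r = 1) : ∃ n, Nat.card V = r ^ n := by
  have := Fact.mk hr
  have h1 : IsPGroup r V := fun v => ⟨1, by rw [pow_one]; exact hpow v⟩
  exact IsPGroup.iff_card.1 h1

/-- a prime dividing the order of the linear group -/
theorem exists_dvd {r n s : ℕ} (hs : s.Prime) (hsr : ¬ s ∣ r) (h : s ∣ ∏ i : Fin n, (r ^ n - r ^ (i : ℕ))) :
    ∃ j, 1 ≤ j ∧ j ≤ n ∧ s ∣ r ^ j - 1 := by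
  rw [Prime.dvd_finsetProd_iff hs.prime] at h
  obtain ⟨i, -, hi⟩ := h
  refine ⟨n - i, by have := i.2; omega, by omega, ?_⟩
  have h1 : r ^ n - r ^ (i : ℕ) = r ^ (i : ℕ) * (r ^ (n - i) - 1) := by
    rw [Nat.mul_sub, mul_one, ← pow_add, Nat.add_sub_cancel' i.2.le]
  rw [h1, hs.dvd_mul] at hi
  exact hi.resolve_left fun h => hsr (hs.dvd_of_dvd_pow h)

end general

/-! ### `SL₂(q)` -/

section two
variable {F : Type} [Field F]

/-- upper unitriangular matrices -/
def up (x : F) : Matrix.SpecialLinearGroup (Fin 2) F := ⟨!![1, x; 0, 1], by simp⟩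

theorem up_mul (x y : F) : up x * up y = up (x + y) := by
  apply Subtype.ext
  change !![1, x; 0, 1] * !![1, y; 0, 1] = !![1, x + y; 0, 1]
  ext i j
  (revert i j; simp only [Matrix.mul_apply, Fin.sum_univ_two, add_comm, _root_.Fin.forall_fin_succ, _root_.Matrix.of_apply, _root_.Matrix.cons_val', _root_.Matrix.cons_val_fin_one, Fin.isValue, _root_.Matrix.cons_val_zero, _root_.Matrix.cons_val_one, _root_.mul_one, _root_.MulZeroClass.mul_zero, _root_.zero_add, _root_.Matrix.cons_val_succ, _root_.forall_const, _root_.true_and, _root_.one_mul, _root_.MulZeroClass.zero_mul, _root_.implies_true, _root_.and_self])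

theorem up_zero : up (0 : F) = 1 := by
  apply Subtype.ext
  change !![1, (0 : F); 0, 1] = 1
  ext i j
  (revert i j; simp only [_root_.Fin.forall_fin_succ, _root_.Matrix.of_apply, _root_.Matrix.cons_val', _root_.Matrix.cons_val_fin_one, Fin.isValue, _root_.Matrix.cons_val_zero, _root_.Matrix.cons_val_succ, _root_.IsEmpty.forall_iff, _root_.and_true, _root_.Matrix.one_apply_eq, Nat.reduceAdd, _root_.Fin.succ_zero_eq_one, _root_.ne_eq, _root_.zero_ne_one, _root_.not_false_eq_true, _root_.Matrix.one_apply_ne, _root_.and_self, _root_.Fin.succ_ne_zero, _root_.true_and])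

/-- `up` as a homomorphism -/
def upHom : Multiplicative F →* Matrix.SpecialLinearGroup (Fin 2) F where
  toFun v := up v.toAdd
  map_one' := up_zero
  map_mul' v w := (up_mul v.toAdd w.toAdd).symm

theorem up_center {x : F} (h : up x ∈ Subgroup.center (Matrix.SpecialLinearGroup (Fin 2) F)) : x = 0 := by
  rw [Matrix.SpecialLinearGroup.mem_center_iff] at h
  obtain ⟨r, _, hr⟩ := h
  have h1 := congrFun (congrFun hr 0) 1
  have h3 : ((up x : Matrix.SpecialLinearGroup (Fin 2) F) : Matrix (Fin 2) (Fin 2) F) = !![1, x; 0, 1] := rfl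
  rw [h3] at h1
  simp [Matrix.scalar_apply] at h1
  exact h1.symm

end two

theorem pow_char {A : Type*} [AddCommGroup A] {p : ℕ} (h : ∀ a : A, p • a = 0) (a : Multiplicative A) :
    a ^ p = 1 := h a.toAdd

theorem cop_pow {p f k : ℕ} (hp : p.Prime) (hf : 1 ≤ f) (hk : k ≠ 0) : Nat.Coprime p ((p ^ f) ^ k - 1) := by
  rw [Nat.Prime.coprime_iff_not_dvd hp]
  intro h
  have h1 : 1 ≤ (p ^ f) ^ k := Nat.one_le_pow _ _ (Nat.pow_pos hp.pos)
  have h2 : p ∣ (p ^ f) ^ k := dvd_pow (dvd_pow_self p (by omega)) hk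
  have h3 := (Nat.dvd_sub h2 h)
  rw [Nat.sub_sub_self h1] at h3
  exact hp.one_lt.ne' (Nat.dvd_one.1 h3)

theorem noAb_two {F : Type} [Field F] [Fintype F] (h4 : 4 < Fintype.card F) :
    NoAb.{u, 0} (Matrix.SpecialLinearGroup (Fin 2) F) := by
  intro V _ _ _ r hr hcomm hpow φ hk hdvd
  obtain ⟨p, f, hp, hf, hF⟩ := exists_pp F
  have hchar := charP_of hp hf hF
  obtain ⟨n, hn⟩ := exists_card hr hpow
  have hidx := index_two (F := F)
  rw [hF] at hidx h4
  have hn0 : n ≠ 0 := by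
    rintro rfl
    rw [pow_zero] at hn
    exact (Finite.one_lt_card (α := V)).ne' hn
  have h1 : Nat.card V ^ 2 ∣ p ^ f * ((p ^ f) ^ 2 - 1) := by
    rw [← hidx]
    exact hdvd.mul_left _
  rw [hn, ← pow_mul] at h1
  by_cases hrp : r = p
  · subst hrp
    have h2 : r ^ (n * 2) ∣ r ^ f :=
      (Nat.Coprime.pow_left (n * 2) (cop_pow hr hf (by norm_num))).dvd_of_dvd_mul_right h1
    have h3 : n * 2 ≤ f := (Nat.pow_dvd_pow_iff_le_right hr.one_lt).1 h2
    have h5 := index_dvd hr hcomm hpow φ hk hn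
    by_cases h6 : r = 2 ∧ 2 * f = 6
    · obtain ⟨rfl, h6⟩ := h6
      obtain rfl : f = 3 := by omega
      obtain rfl : n = 1 := by omega
      norm_num at hidx
      rw [hidx] at h5
      revert h5
      decide
    · obtain ⟨s, hs, hs1, -, hs2⟩ := Lib.Zsigmondy.exists_primitive (a := r) (n := 2 * f) hr.two_le (by omega)
        (by omega) h6
      have h7 : s ∣ Nat.gcd 2 (r ^ f - 1) * (Subgroup.center (Matrix.SpecialLinearGroup (Fin 2) F)).index := by
        rw [hidx, ← pow_mul, mul_comm f 2]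
        exact ((hs1 _).2 dvd_rfl).mul_left _
      rcases hs.dvd_mul.1 h7 with h8 | h8
      · have h9 := (hs1 _).1 (h8.trans (Nat.gcd_dvd_right _ _))
        have := Nat.le_of_dvd (by omega) h9
        omega
      · obtain ⟨j, hj1, hj2, hj3⟩ := exists_dvd hs hs2 (h8.trans h5)
        have h9 := Nat.le_of_dvd (by omega) ((hs1 _).1 hj3)
        omega
  · have h2 := cross (k := f) hr hp (Ne.symm hrp) hcomm hpow φ hk (upHom (F := F))
      (fun a ha => up_center (F := F) (x := a.toAdd) ha)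
      (pow_char fun a => by rw [nsmul_eq_mul, CharP.cast_eq_zero, zero_mul])
      (by rw [Nat.card_congr Multiplicative.toAdd, Nat.card_eq_fintype_card, hF])
    have h3 : r ^ (n * 2) ∣ (p ^ f) ^ 2 - 1 := by
      refine (Nat.Coprime.pow (n * 2) f ?_).dvd_of_dvd_mul_left h1
      exact (Nat.coprime_primes hr hp).2 hrp
    have h5 : r ^ (n * 2) ≤ (p ^ f) ^ 2 - 1 := Nat.le_of_dvd (by
      have : 1 < (p ^ f) ^ 2 := Nat.one_lt_pow (by norm_num) (by omega)
      omega) h3
    rw [pow_mul, ← hn] at h5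
    have h6 : p ^ f ≤ (p + 1) ^ f := Nat.pow_le_pow_left (by omega) f
    have h7 : (p ^ f) ^ 2 ≤ Nat.card V ^ 2 := Nat.pow_le_pow_left (h6.trans h2) 2
    have : 0 < (p ^ f) ^ 2 := Nat.pow_pos (by omega)
    omega

theorem noAb_three {F : Type} [Field F] [Fintype F] : NoAb.{u, 0} (Matrix.SpecialLinearGroup (Fin 3) F) := by
  intro V _ _ _ r hr hcomm hpow φ hk hdvd
  obtain ⟨p, f, hp, hf, hF⟩ := exists_pp F
  have hchar := charP_of hp hf hF
  obtain ⟨n, hn⟩ := exists_card hr hpow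
  have hidx := index_three (F := F)
  have hq : 2 ≤ p ^ f := by rw [← hF]; exact Fintype.one_lt_card
  rw [hF] at hidx
  have hn0 : n ≠ 0 := by
    rintro rfl
    rw [pow_zero] at hn
    exact (Finite.one_lt_card (α := V)).ne' hn
  have h1 : Nat.card V ^ 2 ∣ (p ^ f) ^ 3 * (((p ^ f) ^ 2 - 1) * ((p ^ f) ^ 3 - 1)) := by
    rw [← mul_assoc, ← hidx]
    exact hdvd.mul_left _
  rw [hn, ← pow_mul] at h1
  by_cases hrp : r = p
  · subst hrp
    have h2 : r ^ (n * 2) ∣ (r ^ f) ^ 3 :=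
      (Nat.Coprime.pow_left (n * 2) (Nat.Coprime.mul_right (cop_pow hr hf (by norm_num))
        (cop_pow hr hf (by norm_num)))).dvd_of_dvd_mul_right h1
    rw [← pow_mul] at h2
    have h3 : n * 2 ≤ f * 3 := (Nat.pow_dvd_pow_iff_le_right hr.one_lt).1 h2
    have h5 := index_dvd hr hcomm hpow φ hk hn
    by_cases h6 : r = 2 ∧ 3 * f = 6
    · obtain ⟨rfl, h6⟩ := h6
      obtain rfl : f = 2 := by omega
      norm_num at hidx
      have h7 : (Subgroup.center (Matrix.SpecialLinearGroup (Fin 3) F)).index = 20160 := by omega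
      rw [h7] at h5
      have hn3 : n = 1 ∨ n = 2 ∨ n = 3 := by omega
      rcases hn3 with rfl | rfl | rfl <;> (revert h5; decide)
    · obtain ⟨s, hs, hs1, -, hs2⟩ := Lib.Zsigmondy.exists_primitive (a := r) (n := 3 * f) hr.two_le (by omega)
        (by omega) h6
      have h7 : s ∣ Nat.gcd 3 (r ^ f - 1) * (Subgroup.center (Matrix.SpecialLinearGroup (Fin 3) F)).index := by
        rw [hidx, ← pow_mul r f 3, mul_comm f 3]
        exact ((hs1 _).2 dvd_rfl).mul_left _
      rcases hs.dvd_mul.1 h7 with h8 | h8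
      · have h9 := (hs1 _).1 (h8.trans (Nat.gcd_dvd_right _ _))
        have := Nat.le_of_dvd (by omega) h9
        omega
      · obtain ⟨j, hj1, hj2, hj3⟩ := exists_dvd hs hs2 (h8.trans h5)
        have h9 := Nat.le_of_dvd (by omega) ((hs1 _).1 hj3)
        omega
  · have h2 := cross (k := f * 2) hr hp (Ne.symm hrp) hcomm hpow φ hk (H677.PslThree.tvHom (F := F))
      (fun a ha => H677.PslThree.tv_center (F := F) (v := a.toAdd) ha)
      (pow_char fun a => by
        ext
        · rw [Prod.smul_fst, nsmul_eq_mul, CharP.cast_eq_zero, zero_mul]; rfl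
        · rw [Prod.smul_snd, nsmul_eq_mul, CharP.cast_eq_zero, zero_mul]; rfl)
      (by rw [Nat.card_congr Multiplicative.toAdd, Nat.card_prod, Nat.card_eq_fintype_card, hF]; ring)
    have h3 : r ^ (n * 2) ∣ ((p ^ f) ^ 2 - 1) * ((p ^ f) ^ 3 - 1) := by
      refine (Nat.Coprime.pow_left (n * 2) (Nat.Coprime.pow_right 3 (Nat.Coprime.pow_right f ?_))).dvd_of_dvd_mul_left
        h1
      exact (Nat.coprime_primes hr hp).2 hrp
    have h5 := RPart.lt_pow_four hq hr h3
    rw [pow_mul, ← hn] at h5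
    have h6 : p ^ f + 1 ≤ (p + 1) ^ f := by
      obtain ⟨k, rfl⟩ : ∃ k, f = k + 1 := ⟨f - 1, by omega⟩
      have e1 : p ^ k ≤ (p + 1) ^ k := Nat.pow_le_pow_left (by omega) k
      have e2 : 1 ≤ (p + 1) ^ k := Nat.one_le_pow _ _ (by omega)
      calc p ^ (k + 1) + 1 = p ^ k * p + 1 := by rw [pow_succ]
        _ ≤ (p + 1) ^ k * p + (p + 1) ^ k := Nat.add_le_add (Nat.mul_le_mul_right _ e1) e2
        _ = (p + 1) ^ (k + 1) := by ring
    have h7 : (p ^ f + 1) ^ 4 ≤ Nat.card V ^ 2 := by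
      calc (p ^ f + 1) ^ 4 ≤ ((p + 1) ^ f) ^ 4 := Nat.pow_le_pow_left h6 4
        _ = ((p + 1) ^ (f * 2)) ^ 2 := by ring
        _ ≤ Nat.card V ^ 2 := Nat.pow_le_pow_left h2 2
    omega

end Cfsg.Agent.H725.NoAbSL
end

-- part: H725/SpecMain
section
/-!
# Codegree sets inside that of `SL₂(q)` or `SL₃(q)` (helper725)
-/

set_option autoImplicit false

namespace Cfsg.Agent.H725.SpecMain

open Cfsg Cfsg.Agent.H725.Cod Cfsg.Agent.H725.SLFacts Cfsg.Agent.H725.NoAbSL Cfsg.Agent.OrdDiv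
open Cfsg.Agent.H686.CharKit Cfsg.Agent.H677.CodPrime Cfsg.Agent.H677.CodMultiset

universe u v w

theorem simOK_three (T : OrderTable.{u}) (T' : OrderTable.{0})
    (hK : ∀ (S : Type u) [Group S] [Finite S] [IsSimpleGroup S], IsKnownSimple' S)
    {F : Type} [Field F] [Fintype F] : SimOK.{u, 0} (Matrix.SpecialLinearGroup (Fin 3) F) := by
  intro S _ _ _ hS
  rcases SimThree.simple_three T T' hK hS with h | ⟨h1, ⟨h2⟩⟩
  · exact h
  · exact (AltEight.no_alt h1 hS h2).elim

/-- the conclusion for one quasisimple group -/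
theorem final {H : Type v} [Group H] [Finite H] (hH : QS H) (hno : NoAb.{u, v} H) (hs : SimOK.{u, v} H)
    (hc : CenOK.{u, v} H)
    (heq : (∀ ψ : IrrCharacter H, ∃ χ : IrrCharacter (H ⧸ Subgroup.center H), cod ψ = cod χ) →
      Subgroup.center H = ⊥)
    (G : Type u) [Group G] [Finite G] [Nontrivial G] (hG : Sub G H) :
    (Nonempty (G ≃* H) ∨ Nonempty (G ≃* H ⧸ Subgroup.center H)) ∧
      ((∀ m : ℕ, (∃ χ : IrrCharacter G, cod χ = m) ↔ (∃ ψ : IrrCharacter H, cod ψ = m)) ↔ Nonempty (G ≃* H)) := by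
  have h1 := reduction hH hno hs hc G hG
  refine ⟨h1, ⟨fun h2 => ?_, fun ⟨e⟩ m => ⟨?_, ?_⟩⟩⟩
  · rcases h1 with h1 | ⟨⟨e⟩⟩
    · exact h1
    · have h3 : Subgroup.center H = ⊥ := by
        apply heq
        intro ψ
        obtain ⟨χ, hχ⟩ := (h2 (cod ψ)).2 ⟨ψ, rfl⟩
        exact ⟨pull e.symm χ, by rw [cod_pull, hχ]⟩
      exact ⟨e.trans ((QuotientGroup.quotientMulEquivOfEq h3).trans (QuotientGroup.quotientBot (G := H)))⟩
  · rintro ⟨χ, rfl⟩
    exact ⟨pull e.symm χ, cod_pull _ _⟩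
  · rintro ⟨ψ, rfl⟩
    exact ⟨pull e ψ, cod_pull _ _⟩

/-- transport of the conclusion along an isomorphism -/
theorem transport {H : Type v} [Group H] [Finite H] {K : Type w} [Group K] [Finite K] (e : H ≃* K)
    {G : Type u} [Group G] [Finite G]
    (h : (Nonempty (G ≃* K) ∨ Nonempty (G ≃* K ⧸ Subgroup.center K)) ∧
      ((∀ m : ℕ, (∃ χ : IrrCharacter G, cod χ = m) ↔ (∃ ψ : IrrCharacter K, cod ψ = m)) ↔ Nonempty (G ≃* K))) :
    (Nonempty (G ≃* H) ∨ Nonempty (G ≃* H ⧸ Subgroup.center H)) ∧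
      ((∀ m : ℕ, (∃ χ : IrrCharacter G, cod χ = m) ↔ (∃ ψ : IrrCharacter H, cod ψ = m)) ↔ Nonempty (G ≃* H)) := by
  have hcod : ∀ m : ℕ, (∃ ψ : IrrCharacter H, cod ψ = m) ↔ (∃ ψ : IrrCharacter K, cod ψ = m) := by
    intro m
    constructor
    · rintro ⟨ψ, rfl⟩
      exact ⟨pull e.symm ψ, cod_pull _ _⟩
    · rintro ⟨ψ, rfl⟩
      exact ⟨pull e ψ, cod_pull _ _⟩
  have hiso : Nonempty (G ≃* H) ↔ Nonempty (G ≃* K) :=
    ⟨fun ⟨f⟩ => ⟨f.trans e⟩, fun ⟨f⟩ => ⟨f.trans e.symm⟩⟩
  have hcen : (Subgroup.center H).map e.toMonoidHom = Subgroup.center K := by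
    ext k
    constructor
    · rintro ⟨x, hx, rfl⟩
      rw [Subgroup.mem_center_iff]
      intro k
      obtain ⟨y, rfl⟩ := e.surjective k
      change e y * e x = e x * e y
      rw [← map_mul, ← map_mul, Subgroup.mem_center_iff.1 hx]
    · intro hk
      refine ⟨e.symm k, ?_, e.apply_symm_apply k⟩
      change e.symm k ∈ Subgroup.center H
      rw [Subgroup.mem_center_iff]
      intro y
      apply e.injective
      rw [map_mul, map_mul, e.apply_symm_apply]
      exact Subgroup.mem_center_iff.1 hk _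
  have hq : Nonempty ((H ⧸ Subgroup.center H) ≃* (K ⧸ Subgroup.center K)) :=
    ⟨QuotientGroup.congr _ _ e hcen⟩
  obtain ⟨f⟩ := hq
  refine ⟨?_, ?_⟩
  · rcases h.1 with h1 | ⟨⟨g⟩⟩
    · exact Or.inl (hiso.2 h1)
    · exact Or.inr ⟨g.trans f.symm⟩
  · rw [hiso, ← h.2]
    exact ⟨fun h1 m => (h1 m).trans (hcod m), fun h1 m => (h1 m).trans (hcod m).symm⟩

theorem main (T : OrderTable.{u}) (T' : OrderTable.{0})
    (hK : ∀ (S : Type u) [Group S] [Finite S] [IsSimpleGroup S], IsKnownSimple' S)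
    {G : Type u} [Group G] [Finite G] [Nontrivial G] {H : Type v} [Group H] [Finite H]
    (hH : ∃ (F : Type) (_ : Field F) (_ : Fintype F),
      (5 ≤ Fintype.card F ∧ Nonempty (H ≃* Matrix.SpecialLinearGroup (Fin 2) F)) ∨
        Nonempty (H ≃* Matrix.SpecialLinearGroup (Fin 3) F))
    (hsub : Sub G H) :
    (Nonempty (G ≃* H) ∨ Nonempty (G ≃* H ⧸ Subgroup.center H)) ∧
      ((∀ m : ℕ, (∃ χ : IrrCharacter G, cod χ = m) ↔ (∃ ψ : IrrCharacter H, cod ψ = m)) ↔ Nonempty (G ≃* H)) := by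
  obtain ⟨F, _, _, ⟨h5, ⟨e⟩⟩ | h⟩ := hH
  · exact transport e (final (qs_two (by omega)) (noAb_two (by omega)) (SimTwo.simOK_two T T' hK h5)
      (CenAll.cenOK_two h5) (EqTwo.ne_two h5) G (hsub.congr_right e))
  · obtain ⟨e⟩ := h
    exact transport e (final qs_three noAb_three (simOK_three T T' hK) CenAll.cenOK_three Parab.ne_three G
      (hsub.congr_right e))

end Cfsg.Agent.H725.SpecMain
end
end
end
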